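import Cfsg.Agent.Lib.Char.LThreeThree.SimpleCent
import Cfsg.Agent.Lib.Char.MEleven.Order.Blocks
import Cfsg.Agent.Lib.Perm.Small.OrderTools
import Cfsg.Agent.Lib.Char.DefectZero
import Cfsg.Agent.Lib.Char.ExtendChar
import Cfsg.Agent.Lib.Char.ThreeDegrees
import Cfsg.Agent.Lib.Char.Burnside

/-!
# Simple groups of order 5616: what the characters give
-/

set_option autoImplicit false
set_option linter.all false

open Cfsg CfsgLib.Perm.PrimeBlock CfsgLib.Block Finset
open CfsgLib.Char.MEleven.Order CfsgLib.Char.ThreeDegrees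
open scoped ComplexConjugate

namespace CfsgLib.Char.LThreeThree.SimpleOrder

theorem thirteen_skip : refutedTwo 5616 432 13 75 16 [(144, 3)] = true := by
  decide +kernel

theorem thirteen_lists : degLists 5616 432 13 3 75 = [[-12, 27]] := by
  decide +kernel

theorem cent_divisors : ∀ c ∈ Nat.divisors 432, 26 ≤ c → ¬ 9 ∣ c → c % 2 = 0 → c = 48 := by
  decide +kernel

universe u

variable {G : Type u} [Group G] [Finite G]

/-- The sum of a character over a product of a cyclic group and a subgroup it centralizes, twisted by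
a root of unity. -/
theorem twist_sum {χ : G → ℂ} (hχ : IsCharacter G χ) (y : G) (V : Subgroup G) [Fintype V]
    (hc : ∀ v ∈ V, y * v = v * y) {ζ : ℂˣ} (hζ : ζ ^ orderOf y = 1) :
    ∃ m : ℕ, ∑ j ∈ range (orderOf y), (ζ : ℂ) ^ j * ∑ v : V, χ (y ^ j * v) =
      (orderOf y : ℂ) * (Nat.card V : ℂ) * m := by
  classical
  haveI := Fintype.ofFinite (Subgroup.zpowers y)
  let M := Subgroup.zpowers y
  let gy : M := ⟨y, Subgroup.mem_zpowers y⟩
  have hgen : ∀ x : M, x ∈ Subgroup.zpowers gy := by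
    rintro ⟨x, hx⟩
    obtain ⟨k, rfl⟩ := hx
    exact ⟨k, Subtype.ext (by simp [gy])⟩
  have hord : orderOf gy = orderOf y := Subgroup.orderOf_mk y _
  have hdiv : orderOf ζ⁻¹ ∣ orderOf gy := by
    rw [hord]
    exact orderOf_dvd_of_pow_eq_one (by rw [inv_pow, hζ, inv_one])
  let lam : M →* ℂˣ := monoidHomOfForallMemZpowers hgen hdiv
  have hlam : lam gy = ζ⁻¹ := monoidHomOfForallMemZpowers_apply_gen hgen hdiv
  let f : M × V →* G := MonoidHom.noncommCoprod M.subtype V.subtype (by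
    rintro ⟨_, k, rfl⟩ ⟨v, hv⟩
    exact (show Commute y v from hc v hv).zpow_left k)
  obtain ⟨m, hm⟩ := CfsgLib.Char.classInner_isCharacter (CfsgLib.Char.isCharacter_comp hχ f)
    (CfsgLib.Char.isCharacter_hom (lam.comp (MonoidHom.fst M V)))
  refine ⟨m, ?_⟩
  have hcard : Nat.card (M × V) = orderOf y * Nat.card V := by
    rw [Nat.card_prod, Nat.card_zpowers]
  rw [classInner, hcard, inv_mul_eq_iff_eq_mul₀ (by
    exact_mod_cast (Nat.mul_pos (orderOf_pos y) Nat.card_pos).ne')] at hm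
  push_cast at hm
  rw [← hm, Fintype.sum_prod_type, Finset.sum_range,
    ← (finEquivZPowers (isOfFinOrder_of_finite y)).sum_comp]
  refine Finset.sum_congr rfl fun j _ => ?_
  rw [Finset.mul_sum]
  refine Finset.sum_congr rfl fun v _ => ?_
  have he : finEquivZPowers (isOfFinOrder_of_finite y) j = gy ^ (j : ℕ) := by
    apply Subtype.ext
    rw [finEquivZPowers_apply]
    simp [gy]
  have hl : ((lam.comp (MonoidHom.fst M V) (gy ^ (j : ℕ), v) : ℂˣ) : ℂ) = ((ζ : ℂ)⁻¹) ^ (j : ℕ) := by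
    rw [MonoidHom.comp_apply, MonoidHom.coe_fst, map_pow, hlam, Units.val_pow_eq_pow_val,
      Units.val_inv_eq_inv_val]
  rw [he, hl, map_pow, map_inv₀,
    CfsgLib.Char.conj_eq_inv_of_pow_eq_one (orderOf_pos y).ne'
      (show (ζ : ℂ) ^ orderOf y = 1 by rw [← Units.val_pow_eq_pow_val, hζ, Units.val_one]), inv_inv]
  simp [f, gy, mul_comm]

/-- What the principal block for thirteen gives. -/
structure Blk (G : Type u) [Group G] : Type u where
  a : IrrCharacter G
  b : IrrCharacter G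
  Y : Finset (IrrCharacter G)
  ab : a ≠ b
  a_one : a ≠ oneChar G
  b_one : b ≠ oneChar G
  Y_card : Y.card = 4
  Y_disj : ∀ θ ∈ Y, θ ≠ oneChar G ∧ θ ≠ a ∧ θ ≠ b
  a_deg : dg a = 12
  b_deg : dg b = 27
  invol : ∀ w : G, orderOf w = 2 → (a : G → ℂ) w = 4 ∧ (b : G → ℂ) w = 3 ∧
    ∀ θ ∈ Y, (θ : G → ℂ) w = 0
  outside : ∀ ψ : IrrCharacter G, ψ ≠ oneChar G → ψ ≠ a → ψ ≠ b → ψ ∉ Y → 13 ∣ dg ψ
  six : ∀ g : G, 6 ∣ orderOf g → ¬ 13 ∣ orderOf g → (a : G → ℂ) g = 1
  three : ∀ y : G, orderOf y = 3 → (b : G → ℂ) y = 0 ∧ (a : G → ℂ) y⁻¹ = (a : G → ℂ) y ∧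
    ∀ θ ∈ Y, (θ : G → ℂ) y = 1 - (a : G → ℂ) y
  cent13 : ∀ x : G, orderOf x = 13 → Nat.card (Subgroup.centralizer ({x} : Set G)) = 13

variable [IsSimpleGroup G]

theorem noncomm_order (h : Nat.card G = 5616) : ¬ IsMulCommutative G := fun hc => by
  haveI := hc
  letI : CommGroup G :=
    { (inferInstance : Group G) with mul_comm := fun a b => IsMulCommutative.is_comm.comm a b }
  have hp : (Nat.card G).Prime := IsSimpleGroup.prime_card (α := G)
  rw [h] at hp
  norm_num at hp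

theorem exists_blk [Fintype G] (h : Nat.card G = 5616) : Nonempty (Blk G) := by
  classical
  haveI : Fact (Nat.Prime 13) := ⟨by norm_num⟩
  haveI : Fact (Nat.Prime 2) := ⟨Nat.prime_two⟩
  haveI : Fact (Nat.Prime 3) := ⟨Nat.prime_three⟩
  haveI := Fintype.ofFinite (IrrCharacter G)
  have hG := noncomm_order h
  obtain ⟨P, n, e, c, hmem, hP, hn, -, hC, hN, ⟨S⟩⟩ :=
    data_of_refutedTwo 5616 13 432 75 16 [(144, 3)] h hG (by norm_num) (by norm_num) (by norm_num)
      (by norm_num) (by norm_num) ⟨4, rfl⟩ (by norm_num) thirteen_skip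
  simp only [List.mem_singleton, Prod.mk.injEq] at hmem
  obtain ⟨rfl, rfl⟩ := hmem
  obtain rfl : c = 1 := by omega
  rw [mul_one] at hC hN
  have hg : Nat.card G = 432 * 13 := by rw [h]
  have hB : Nat.card G ≤ 75 * 75 := by rw [h]; norm_num
  obtain ⟨θ, hθ⟩ : S.Y.Nonempty := Finset.card_pos.1 (by rw [S.card_Y]; norm_num)
  obtain ⟨X', hperm, hm⟩ := exists_combo (fun χ => sd S χ) _ S.X.toList
    (fun χ hχ => S.mem_cands_one hG hg hB (Finset.mem_toList.1 hχ))
  have hX2 : S.X.card = 2 := by have := S.card_X; omega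
  rw [Finset.length_toList, hX2] at hm
  have hsum : (X'.map fun χ => sd S χ).sum = ∑ χ ∈ S.X, sd S χ := by
    rw [(hperm.map _).sum_eq, Finset.sum_map_toList]
  have hrel := rel_one S hθ
  have hdl : X'.map (fun χ => sd S χ) ∈ degLists 5616 432 13 3 75 := by
    have hh := S.okAbs_Y hG hg (by norm_num) (by norm_num) hθ
    rw [h] at hh hm
    simp only [degLists, List.mem_filter, show (3 : ℕ) - 1 = 2 from rfl, hm, true_and,
      Bool.and_eq_true, beq_iff_eq, hsum, ← hrel]
    exact hh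
  rw [thirteen_lists] at hdl
  have hlen : X'.length = 2 := by rw [hperm.length_eq, Finset.length_toList, hX2]
  obtain ⟨a, b, rfl⟩ : ∃ a b, X' = [a, b] := by
    match X', hlen with
    | [a, b], _ => exact ⟨a, b, rfl⟩
  have hnd : [a, b].Nodup := hperm.nodup_iff.2 S.X.nodup_toList
  have hab : a ≠ b := by simpa using hnd
  have hXeq : S.X = {a, b} := by
    rw [← Finset.toList_toFinset S.X, ← List.toFinset_eq_of_perm _ _ hperm]
    simp
  simp only [List.map_cons, List.map_nil, List.mem_singleton, List.cons.injEq, and_true] at hdl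
  obtain ⟨hsa, hsb⟩ := hdl
  have haX : a ∈ S.X := by rw [hXeq]; simp
  have hbX : b ∈ S.X := by rw [hXeq]; simp
  rw [hXeq, Finset.sum_pair hab, hsa, hsb] at hrel
  obtain ⟨hεa, hda⟩ : S.εX a = -1 ∧ dg a = 12 := by
    simp only [sd] at hsa
    rcases S.sign_X a haX with e | e <;> rw [e] at hsa ⊢ <;> omega
  obtain ⟨hεb, hdb⟩ : S.εX b = 1 ∧ dg b = 27 := by
    simp only [sd] at hsb
    rcases S.sign_X b hbX with e | e <;> rw [e] at hsb ⊢ <;> omega
  obtain ⟨hε, hD⟩ : S.ε = 1 ∧ S.D = 16 := by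
    rcases S.sign with e | e <;> rw [e] at hrel ⊢ <;> omega
  have ha1 : a ≠ oneChar G := fun e => S.one_notMem_X (e ▸ haX)
  have hb1 : b ≠ oneChar G := fun e => S.one_notMem_X (e ▸ hbX)
  have hrl : ∀ ψ ∈ S.Y, ∀ g : G, ¬ 13 ∣ orderOf g →
      (ψ : G → ℂ) g = 1 - (a : G → ℂ) g + (b : G → ℂ) g := by
    intro ψ hψ g hg
    have hh := S.relation ψ hψ g hg
    rw [hε, hXeq, Finset.sum_pair hab, hεa, hεb] at hh
    push_cast at hh
    linear_combination hh
  have hv2 : ∀ ψ ∈ S.Y, ∀ g : G, 2 ∣ orderOf g → (ψ : G → ℂ) g = 0 := fun ψ hψ g hg =>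
    char_defect_zero_vanishes ψ (p := 2) (n := 4) (d := 16) (by rw [h]; norm_num)
      (by rw [h]; norm_num) (by rw [val_one, show dg ψ = S.D from S.degree_Y ψ hψ, hD])
      (by norm_num) hg
  have hv3 : ∀ g : G, 3 ∣ orderOf g → (b : G → ℂ) g = 0 := fun g hg =>
    char_defect_zero_vanishes b (p := 3) (n := 3) (d := 27) (by rw [h]; norm_num)
      (by rw [h]; norm_num) (by rw [val_one, hdb]) (by norm_num) hg
  obtain ⟨x', hx'⟩ := exists_prime_orderOf_dvd_card' (G := (P : Subgroup G)) 13 (by rw [hP])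
  have hx : (x' : G) ∈ (P : Subgroup G) := x'.2
  have hx1 : (x' : G) ≠ 1 := fun e => by
    rw [← Subgroup.orderOf_coe, e, orderOf_one] at hx'; norm_num at hx'
  have h1o : ¬ 13 ∣ orderOf (1 : G) := by rw [orderOf_one]; norm_num
  have hXv : ∀ χ ∈ S.X, (χ : G → ℂ) (x' : G) = (S.εX χ : ℂ) := by
    intro χ hχ
    have hv := S.value_X χ hχ _ hx hx1 1 (one_mem _) h1o
    rwa [mul_one] at hv
  have hout : ∀ ψ : IrrCharacter G, ψ ≠ oneChar G → ψ ≠ a → ψ ≠ b → ψ ∉ S.Y →
      (ψ : G → ℂ) (x' : G) = 0 := by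
    intro ψ h1 h2 h3 h4
    exact S.outside hC ψ h1 (by rw [hXeq]; simp [h2, h3]) h4 _ hx hx1
  refine ⟨⟨a, b, S.Y, hab, ha1, hb1, by rw [S.card_Y], fun ψ hψ => ⟨fun e => S.one_notMem_Y (e ▸ hψ),
    fun e => Finset.disjoint_left.1 S.disjoint haX (e ▸ hψ),
    fun e => Finset.disjoint_left.1 S.disjoint hbX (e ▸ hψ)⟩, hda, hdb, ?_, ?_, ?_, ?_, ?_⟩⟩
  · intro w hw
    obtain ⟨ra, hra, hlt, h4⟩ := value_invol hG a ha1 hw
    obtain ⟨rb, hrb, -, -⟩ := value_invol hG b hb1 hw
    have hwr : ¬ 13 ∣ orderOf w := by rw [hw]; norm_num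
    have hθ0 : ∀ ψ ∈ S.Y, (ψ : G → ℂ) w = 0 := fun ψ hψ => hv2 ψ hψ w (by rw [hw])
    have e1 : rb = ra - 1 := by
      have hh := hrl θ hθ w hwr
      rw [hθ0 θ hθ, hra, hrb] at hh
      have h2 : ((rb : ℤ) : ℂ) = ((ra - 1 : ℤ) : ℂ) := by push_cast; linear_combination -hh
      exact_mod_cast h2
    have hz : CfsgLib.Char.classConst w w (x' : G) = 0 := by
      rw [CfsgLib.Char.classConst, Nat.card_eq_zero]
      refine Or.inl ⟨fun ⟨⟨s, t⟩, hs, ht, hst⟩ => ?_⟩
      obtain ⟨-, -, hinv, ho⟩ := pair_inverts hw hs ht hst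
      have hgen : Subgroup.zpowers (x' : G) = (P : Subgroup G) :=
        CfsgLib.Perm.Small.zpowers_eq_of_mem hP hx hx1
      have hmem : s ∈ Subgroup.normalizer ((P : Subgroup G) : Set G) := by
        rw [Subgroup.mem_normalizer_iff_map_conj_eq, ← hgen, MonoidHom.map_zpowers]
        simp [MulAut.conj_apply, hinv]
      have h2 := Subgroup.orderOf_dvd_natCard _ hmem
      rw [hN, ho] at h2
      norm_num at h2
    have hm := class_mul w w (x' : G)
    rw [hz, Nat.cast_zero, zero_mul, zero_mul] at hm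
    have hgz : (Nat.card G : ℂ) ≠ 0 := Nat.cast_ne_zero.2 Nat.card_pos.ne'
    have hs := (mul_eq_zero.1 hm.symm).resolve_left hgz
    rw [← Finset.sum_subset (Finset.subset_univ ({oneChar G, a, b} : Finset (IrrCharacter G)))
      (fun ψ _ hψ => by
        simp only [Finset.mem_insert, Finset.mem_singleton, not_or] at hψ
        by_cases hY : ψ ∈ S.Y
        · rw [hθ0 ψ hY]; simp
        · rw [hout ψ hψ.1 hψ.2.1 hψ.2.2 hY, map_zero, mul_zero, zero_div]),
      Finset.sum_insert (by simp [ha1.symm, hb1.symm]), Finset.sum_pair hab, hXv a haX, hXv b hbX,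
      hra, hrb, hεa, hεb, hda, hdb, dg_one] at hs
    simp only [show ∀ g : G, ((oneChar G : IrrCharacter G) : G → ℂ) g = 1 from fun _ => rfl,
      map_one, map_intCast, e1] at hs
    have hq : (108 - 9 * (ra * ra) + 4 * ((ra - 1) * (ra - 1)) : ℤ) = 0 := by
      have : ((108 - 9 * (ra * ra) + 4 * ((ra - 1) * (ra - 1)) : ℤ) : ℂ) = 0 := by
        push_cast at hs ⊢
        linear_combination 108 * hs
      exact_mod_cast this
    rw [hda] at hlt h4
    obtain rfl : ra = 4 := by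
      have h5 : -11 ≤ ra ∧ ra ≤ 11 := by omega
      obtain ⟨h6, h7⟩ := h5
      interval_cases ra <;> omega
    exact ⟨by rw [hra]; norm_num, by rw [hrb, e1]; norm_num, hθ0⟩
  · intro ψ h1 h2 h3 h4
    exact dvd_dg_of_zero hP ψ (S.outside hC ψ h1 (by rw [hXeq]; simp [h2, h3]) h4)
  · intro g h6 h13
    have hh := hrl θ hθ g h13
    rw [hv2 θ hθ g ((by norm_num : 2 ∣ 6).trans h6), hv3 g ((by norm_num : 3 ∣ 6).trans h6)] at hh
    linear_combination hh
  · intro y hy
    refine ⟨hv3 y (by rw [hy]), ?_, fun ψ hψ => ?_⟩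
    · have hc : conjIrr a = a := by
        have hd : dg (conjIrr a) = 12 := by
          show charDegree (conjIrr a : G → ℂ) = 12
          rw [charDegree_conjIrr]; exact hda
        have hv : (conjIrr a : G → ℂ) (x' : G) = -1 := by
          show conj ((a : G → ℂ) (x' : G)) = -1
          rw [hXv a haX, hεa]; simp
        by_contra hne
        have h1 : conjIrr a ≠ oneChar G := fun e => by rw [e, dg_one] at hd; norm_num at hd
        have h2 : conjIrr a ≠ b := fun e => by rw [e, hdb] at hd; norm_num at hd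
        have h3 : conjIrr a ∉ S.Y := fun e => by
          rw [show dg (conjIrr a) = S.D from S.degree_Y _ e, hD] at hd; norm_num at hd
        rw [hout _ h1 hne h2 h3] at hv
        norm_num at hv
      obtain ⟨m, ρ, hρ⟩ := CfsgLib.Char.isCharacter_irr a
      rw [← hρ, CfsgLib.Char.char_inv, hρ]
      exact congrArg (fun ψ : IrrCharacter G => (ψ : G → ℂ) y) hc
    · rw [hrl ψ hψ y (by rw [hy]; norm_num), hv3 y (by rw [hy])]
      ring
  · intro g hg
    rw [centralizer_of_order hP hg, hC]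

/-- A column of the character table. -/
theorem column_le [Fintype G] [Fintype (IrrCharacter G)] (g : G) (T : Finset (IrrCharacter G)) :
    ∑ ψ ∈ T, Complex.normSq ((ψ : G → ℂ) g) ≤
      (Nat.card (Subgroup.centralizer ({g} : Set G)) : ℝ) := by
  classical
  have h := CfsgLib.Char.sum_irr_mul_conj g g
  rw [if_pos (IsConj.refl g)] at h
  simp only [Complex.mul_conj] at h
  have h' : ∑ ψ : IrrCharacter G, Complex.normSq ((ψ : G → ℂ) g) =
      (Nat.card (Subgroup.centralizer ({g} : Set G)) : ℝ) := by exact_mod_cast h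
  rw [← h']
  exact Finset.sum_le_sum_of_subset_of_nonneg (Finset.subset_univ T)
    fun ψ _ _ => Complex.normSq_nonneg _

theorem dvd_of_not_thirteen (h : Nat.card G = 5616) (B : Blk G) {g : G} {k : ℕ}
    (hk : orderOf g = k) (hk1 : 2 ≤ k) (hk13 : Nat.Coprime k 13) :
    Nat.card (Subgroup.centralizer ({g} : Set G)) ∣ 432 := by
  haveI : Fact (Nat.Prime 13) := ⟨by norm_num⟩
  have hd : Nat.card (Subgroup.centralizer ({g} : Set G)) ∣ 432 * 13 := by
    rw [show 432 * 13 = Nat.card G by rw [h]]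
    exact Subgroup.card_subgroup_dvd_card _
  refine Nat.Coprime.dvd_of_dvd_mul_right ?_ hd
  refine ((Nat.Prime.coprime_iff_not_dvd (by norm_num)).2 fun h13 => ?_).symm
  obtain ⟨x, hx⟩ := exists_prime_orderOf_dvd_card'
    (G := Subgroup.centralizer ({g} : Set G)) 13 h13
  have hc := B.cent13 x (by rw [Subgroup.orderOf_coe, hx])
  have hmem : g ∈ Subgroup.centralizer ({(x : G)} : Set G) :=
    Subgroup.mem_centralizer_singleton_iff.2 (Subgroup.mem_centralizer_singleton_iff.1 x.2).symm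
  have h2 := Subgroup.orderOf_dvd_natCard _ hmem
  rw [hc, hk] at h2
  have h3 : k ∣ Nat.gcd k 13 := Nat.dvd_gcd dvd_rfl h2
  rw [hk13.gcd_eq_one] at h3
  have := Nat.le_of_dvd one_pos h3
  omega

theorem Blk.cent48 [Fintype G] (B : Blk G) (h : Nat.card G = 5616) {w : G} (hw : orderOf w = 2) :
    Nat.card (Subgroup.centralizer ({w} : Set G)) = 48 := by
  classical
  haveI : Fact (Nat.Prime 3) := ⟨Nat.prime_three⟩
  haveI := Fintype.ofFinite (IrrCharacter G)
  set c := Nat.card (Subgroup.centralizer ({w} : Set G)) with hc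
  have h432 := dvd_of_not_thirteen h B hw le_rfl (by norm_num)
  rw [← hc] at h432
  have h26 : 26 ≤ c := by
    have hh := column_le w {oneChar G, B.a, B.b}
    rw [Finset.sum_insert (by simp [B.a_one.symm, B.b_one.symm]), Finset.sum_pair B.ab,
      (B.invol w hw).1, (B.invol w hw).2.1, ← hc] at hh
    simp only [show ((oneChar G : IrrCharacter G) : G → ℂ) w = 1 from rfl, map_one,
      Complex.normSq_ofNat] at hh
    have h2 : (26 : ℝ) ≤ c := by linarith
    exact_mod_cast h2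
  have h2 : 2 ∣ c := by
    have hmem : w ∈ Subgroup.centralizer ({w} : Set G) := Subgroup.mem_centralizer_singleton_iff.2 rfl
    have := Subgroup.orderOf_dvd_natCard _ hmem
    rwa [hw] at this
  have h9 : ¬ 9 ∣ c := by
    intro h9
    obtain ⟨E', hE'⟩ := Sylow.exists_subgroup_card_pow_prime
      (G := Subgroup.centralizer ({w} : Set G)) 3 (n := 2) (by rw [← hc]; simpa using h9)
    set E : Subgroup G := E'.map (Subgroup.centralizer ({w} : Set G)).subtype with hE
    have hEc : Nat.card E = 9 := by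
      rw [hE, Subgroup.card_map_of_injective (Subgroup.subtype_injective _), hE']; norm_num
    have hEw : ∀ e ∈ E, w * e = e * w := by
      rintro _ ⟨e, -, rfl⟩
      exact (Subgroup.mem_centralizer_singleton_iff.1 e.2).symm
    haveI := Fintype.ofFinite E
    have hval : ∀ e : E, (B.a : G → ℂ) (w * e) = if e = 1 then 4 else 1 := by
      intro e
      split_ifs with he
      · rw [he, OneMemClass.coe_one, mul_one, (B.invol w hw).1]
      · have hd9 : orderOf (e : G) ∣ 3 ^ 2 := by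
          rw [show (3 : ℕ) ^ 2 = 9 from rfl, ← hEc]; exact Subgroup.orderOf_dvd_natCard _ e.2
        obtain ⟨i, hi, hi'⟩ := (Nat.dvd_prime_pow Nat.prime_three).1 hd9
        have hi0 : i ≠ 0 := by
          rintro rfl
          rw [pow_zero, orderOf_eq_one_iff] at hi'
          exact he (Subtype.ext hi')
        have ho : orderOf (w * (e : G)) = 2 * 3 ^ i := by
          rw [Commute.orderOf_mul_eq_mul_orderOf_of_coprime (hEw _ e.2)
            (by rw [hw, hi']; exact Nat.Coprime.pow_right i (by norm_num)), hw, hi']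
        refine B.six _ ?_ ?_
        · rw [ho]; exact mul_dvd_mul_left 2 (dvd_pow_self 3 hi0)
        · rw [ho]; interval_cases i <;> norm_num
    obtain ⟨m0, e0⟩ := twist_sum (CfsgLib.Char.isCharacter_irr B.a) (1 : G) E (by simp)
      (ζ := 1) (by simp)
    obtain ⟨m1, e1⟩ := twist_sum (CfsgLib.Char.isCharacter_irr B.a) w E hEw (ζ := 1) (by simp)
    simp [-Nat.card_eq_fintype_card, hEc] at e0
    simp [-Nat.card_eq_fintype_card, hw, Finset.sum_range_succ, hEc, hval] at e1
    rw [Finset.sum_ite, Finset.filter_eq', if_pos (Finset.mem_univ _), Finset.sum_singleton,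
      Finset.sum_const, Finset.filter_ne', Finset.card_erase_of_mem (Finset.mem_univ _),
      Finset.card_univ, ← Nat.card_eq_fintype_card, hEc] at e1
    have key : (((9 : ℕ) * m0 + 12 : ℕ) : ℂ) = ((18 * m1 : ℕ) : ℂ) := by
      push_cast
      norm_num at e1
      linear_combination e1 - e0
    have key' : (9 : ℕ) * m0 + 12 = 18 * m1 := by exact_mod_cast key
    omega
  exact cent_divisors c (Nat.mem_divisors.2 ⟨h432, by norm_num⟩) h26 h9 (Nat.mod_eq_zero_of_dvd h2)

/-- The values at an involution are integers; their squares add up to `48`. -/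
theorem Blk.int_column [Fintype G] [Fintype (IrrCharacter G)] (B : Blk G) (h : Nat.card G = 5616)
    {w : G} (hw : orderOf w = 2) :
    ∃ r : IrrCharacter G → ℤ, (∀ ψ : IrrCharacter G, (ψ : G → ℂ) w = (r ψ : ℂ)) ∧
      r (oneChar G) = 1 ∧ r B.a = 4 ∧ r B.b = 3 ∧ ∑ ψ, r ψ * r ψ = 48 := by
  classical
  have hex : ∀ ψ : IrrCharacter G, ∃ r : ℤ, (ψ : G → ℂ) w = (r : ℂ) := by
    intro ψ
    by_cases h1 : ψ = oneChar G
    · exact ⟨1, by subst h1; simp [oneChar]⟩
    · obtain ⟨r, hr, -⟩ := value_invol (noncomm_order h) ψ h1 hw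
      exact ⟨r, hr⟩
  choose r hr using hex
  refine ⟨r, hr, ?_, ?_, ?_, ?_⟩
  · have e : ((oneChar G : IrrCharacter G) : G → ℂ) w = (1 : ℂ) := rfl
    rw [hr] at e
    exact_mod_cast e
  · exact_mod_cast (hr B.a).symm.trans (B.invol w hw).1
  · exact_mod_cast (hr B.b).symm.trans (B.invol w hw).2.1
  · have hh := CfsgLib.Char.sum_irr_mul_conj w w
    rw [if_pos (IsConj.refl w), B.cent48 h hw] at hh
    simp only [hr, map_intCast] at hh
    exact_mod_cast hh

theorem Blk.conj_invol [Fintype G] (B : Blk G) (h : Nat.card G = 5616) {v w : G}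
    (hv : orderOf v = 2) (hw : orderOf w = 2) : IsConj v w := by
  classical
  haveI := Fintype.ofFinite (IrrCharacter G)
  by_contra hne
  obtain ⟨r, hr, r1, ra, rb, r2⟩ := B.int_column h hv
  obtain ⟨s, hs, s1, sa, sb, s2⟩ := B.int_column h hw
  have h0 := CfsgLib.Char.sum_irr_mul_conj v w
  rw [if_neg hne] at h0
  simp only [hr, hs, map_intCast] at h0
  have h0' : ∑ ψ, r ψ * s ψ = 0 := by exact_mod_cast h0
  have hle := Finset.sum_le_sum_of_subset_of_nonneg
    (f := fun ψ => (r ψ + s ψ) * (r ψ + s ψ))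
    (Finset.subset_univ ({oneChar G, B.a, B.b} : Finset (IrrCharacter G)))
    (fun ψ _ _ => mul_self_nonneg _)
  rw [Finset.sum_insert (by simp [B.a_one.symm, B.b_one.symm]), Finset.sum_pair B.ab,
    r1, ra, rb, s1, sa, sb] at hle
  have htot : ∑ ψ, (r ψ + s ψ) * (r ψ + s ψ) = 96 := by
    have : ∀ ψ, (r ψ + s ψ) * (r ψ + s ψ) = r ψ * r ψ + s ψ * s ψ + 2 * (r ψ * s ψ) := fun ψ => by ring
    simp only [this, Finset.sum_add_distrib, ← Finset.mul_sum, r2, s2, h0']
    norm_num
  rw [htot] at hle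
  omega

theorem Blk.other_invol [Fintype G] (B : Blk G) (h : Nat.card G = 5616) {w : G} (hw : orderOf w = 2) :
    ∃ t : G, orderOf t = 2 ∧ t * w = w * t ∧ t ≠ w := by
  classical
  haveI := Fintype.ofFinite (IrrCharacter G)
  by_contra hno
  push Not at hno
  have hz : CfsgLib.Char.classConst w w w = 0 := by
    rw [CfsgLib.Char.classConst, Nat.card_eq_zero]
    refine Or.inl ⟨fun ⟨⟨s, t⟩, hs, ht, hst⟩ => ?_⟩
    obtain ⟨-, -, hinv, ho⟩ := pair_inverts hw hs ht hst
    have hwi : w⁻¹ = w := inv_eq_of_mul_eq_one_left (by rw [← pow_two, ← hw, pow_orderOf_eq_one])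
    have hcm : s * w = w * s := by rw [hwi, mul_inv_eq_iff_eq_mul] at hinv; exact hinv
    have hsw := hno s ho hcm
    obtain ⟨g, rfl⟩ := isConj_iff.1 ht
    rw [hsw, mul_eq_left, conj_eq_one_iff] at hst
    rw [hst, orderOf_one] at hw
    norm_num at hw
  obtain ⟨r, hr, r1, ra, rb, r2⟩ := B.int_column h hw
  have hm := class_mul w w w
  rw [hz, Nat.cast_zero, zero_mul, zero_mul] at hm
  have hgz : (Nat.card G : ℂ) ≠ 0 := Nat.cast_ne_zero.2 Nat.card_pos.ne'
  have hs := (mul_eq_zero.1 hm.symm).resolve_left hgz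
  simp only [hr, map_intCast] at hs
  have hs' : ∑ ψ : IrrCharacter G, (r ψ : ℝ) * r ψ * r ψ / (dg ψ : ℝ) = 0 := by
    have : ((∑ ψ : IrrCharacter G, (r ψ : ℝ) * r ψ * r ψ / (dg ψ : ℝ) : ℝ) : ℂ) = 0 := by
      push_cast
      exact hs
    exact_mod_cast this
  set T : Finset (IrrCharacter G) := {oneChar G, B.a, B.b} with hT
  rw [← Finset.sum_add_sum_compl T] at hs'
  have hT1 : ∑ ψ ∈ T, (r ψ : ℝ) * r ψ * r ψ / (dg ψ : ℝ) = 22 / 3 := by
    rw [hT, Finset.sum_insert (by simp [B.a_one.symm, B.b_one.symm]), Finset.sum_pair B.ab,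
      r1, ra, rb, dg_one, B.a_deg, B.b_deg]
    norm_num
  have hTsq : ∑ ψ ∈ Tᶜ, r ψ * r ψ = 22 := by
    have e := Finset.sum_add_sum_compl T (fun ψ => r ψ * r ψ)
    rw [r2, hT, Finset.sum_insert (by simp [B.a_one.symm, B.b_one.symm]), Finset.sum_pair B.ab,
      r1, ra, rb, ← hT] at e
    linarith
  have hbound : ∀ ψ ∈ Tᶜ, -(4 : ℝ) / 13 * ((r ψ * r ψ : ℤ) : ℝ) ≤
      (r ψ : ℝ) * r ψ * r ψ / (dg ψ : ℝ) := by
    intro ψ hψ
    have hsq : r ψ * r ψ ≤ 22 := hTsq ▸
      Finset.single_le_sum (f := fun ψ => r ψ * r ψ) (fun i _ => mul_self_nonneg (r i)) hψ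
    have h4 : -4 ≤ r ψ := by nlinarith
    simp only [hT, Finset.mem_compl, Finset.mem_insert, Finset.mem_singleton, not_or] at hψ
    by_cases hY : ψ ∈ B.Y
    · have h0 : r ψ = 0 := by exact_mod_cast (hr ψ).symm.trans ((B.invol w hw).2.2 ψ hY)
      simp [h0]
    have h13 : (13 : ℝ) ≤ dg ψ := by
      exact_mod_cast Nat.le_of_dvd (dg_pos ψ) (B.outside ψ hψ.1 hψ.2.1 hψ.2.2 hY)
    have h4' : (-4 : ℝ) ≤ r ψ := by exact_mod_cast h4
    push_cast
    rw [le_div_iff₀ (by linarith)]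
    nlinarith [mul_self_nonneg (r ψ : ℝ), mul_nonneg (mul_self_nonneg (r ψ : ℝ)) (sub_nonneg.2 h4'),
      mul_nonneg (mul_self_nonneg (r ψ : ℝ)) (sub_nonneg.2 h13)]
  have hsum := Finset.sum_le_sum hbound
  rw [← Finset.mul_sum, ← Int.cast_sum, hTsq] at hsum
  rw [hT1] at hs'
  norm_num at hsum
  linarith

theorem Blk.no_elem [Fintype G] (B : Blk G) (E : Subgroup G) (hE : Nat.card E = 16)
    (hall : ∀ a ∈ E, a * a = 1) : False := by
  classical
  haveI := Fintype.ofFinite E
  obtain ⟨m, e⟩ := twist_sum (CfsgLib.Char.isCharacter_irr B.a) (1 : G) E (by simp)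
    (ζ := 1) (by simp)
  have hval : ∀ v : E, (B.a : G → ℂ) v = if v = 1 then 12 else 4 := by
    intro v
    split_ifs with hv
    · rw [hv, OneMemClass.coe_one, val_one, B.a_deg]; norm_num
    · exact (B.invol _ (orderOf_eq_prime (by rw [pow_two]; exact hall _ v.2)
        fun e => hv (Subtype.ext e))).1
  simp [-Nat.card_eq_fintype_card, hE, hval] at e
  rw [Finset.sum_ite, Finset.filter_eq', if_pos (Finset.mem_univ _), Finset.sum_singleton,
    Finset.sum_const, Finset.filter_ne', Finset.card_erase_of_mem (Finset.mem_univ _),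
    Finset.card_univ, ← Nat.card_eq_fintype_card, hE] at e
  norm_num at e
  have : (72 : ℕ) = 16 * m := by exact_mod_cast e
  omega

theorem Blk.three_eight [Fintype G] (B : Blk G) (h : Nat.card G = 5616) {y : G} (hy : orderOf y = 3)
    (V : Subgroup G) (hV : Nat.card V = 8) (hVy : ∀ v ∈ V, v * y = y * v) : False := by
  classical
  haveI := Fintype.ofFinite (IrrCharacter G)
  haveI := Fintype.ofFinite V
  obtain ⟨hb, hinv, hY⟩ := B.three y hy
  set α := (B.a : G → ℂ) y with hα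
  have hone : ∀ z : G, orderOf z = 3 → (∀ v ∈ V, z * v = v * z) → ∀ v : V, v ≠ 1 →
      (B.a : G → ℂ) (z * v) = 1 := by
    intro z hz hzc v hv
    have hd : orderOf (v : G) ∣ 2 ^ 3 := by
      rw [show (2 : ℕ) ^ 3 = 8 from rfl, ← hV]; exact Subgroup.orderOf_dvd_natCard _ v.2
    obtain ⟨i, hi, hi'⟩ := (Nat.dvd_prime_pow Nat.prime_two).1 hd
    have hi0 : i ≠ 0 := by
      rintro rfl
      rw [pow_zero, orderOf_eq_one_iff] at hi'
      exact hv (Subtype.ext hi')
    have ho : orderOf (z * (v : G)) = 3 * 2 ^ i := by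
      rw [Commute.orderOf_mul_eq_mul_orderOf_of_coprime (hzc _ v.2)
        (by rw [hz, hi']; exact Nat.Coprime.pow_right i (by norm_num)), hz, hi']
    refine B.six _ ?_ ?_
    · rw [ho, show (6 : ℕ) = 3 * 2 from rfl]; exact mul_dvd_mul_left 3 (dvd_pow_self 2 hi0)
    · rw [ho]; interval_cases i <;> norm_num
  have hy3 : y ^ 3 = 1 := by rw [← hy, pow_orderOf_eq_one]
  have hy2 : y⁻¹ = y * y := by
    rw [inv_eq_iff_mul_eq_one, ← mul_assoc, ← hy3, pow_three, mul_assoc]
  have hyc : ∀ v ∈ V, y * v = v * y := fun v hv => (hVy v hv).symm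
  have hsum : ∀ z : G, orderOf z = 3 → (∀ v ∈ V, z * v = v * z) →
      ∑ v : V, (B.a : G → ℂ) (z * v) = (B.a : G → ℂ) z + 7 := by
    intro z hz hzc
    rw [← Finset.add_sum_erase _ _ (Finset.mem_univ (1 : V)), OneMemClass.coe_one, mul_one]
    congr 1
    rw [Finset.sum_congr rfl fun v hv => hone z hz hzc v (Finset.ne_of_mem_erase hv),
      Finset.sum_const, Finset.card_erase_of_mem (Finset.mem_univ _), Finset.card_univ,
      ← Nat.card_eq_fintype_card, hV]
    norm_num
  have hS1 : ∑ v : V, (B.a : G → ℂ) (y * v) = α + 7 := hsum y hy hyc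
  have hS2 : ∑ v : V, (B.a : G → ℂ) (y * y * v) = α + 7 := by
    rw [← hy2, hsum y⁻¹ (by rw [orderOf_inv, hy]) (fun v hv =>
      ((show Commute y v from hyc v hv).inv_left).eq), hinv]
  have hprim := Complex.isPrimitiveRoot_exp 3 (by norm_num)
  have hζu : IsUnit (Complex.exp (2 * Real.pi * Complex.I / (3 : ℕ))) :=
    (Complex.exp_ne_zero _).isUnit
  set ζ : ℂˣ := hζu.unit with hζdef
  have hζ : IsPrimitiveRoot (ζ : ℂ) 3 := hprim
  have hζ3 : ζ ^ orderOf y = 1 := by
    rw [hy]; ext; rw [Units.val_pow_eq_pow_val]; exact hζ.pow_eq_one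
  have hgeo : (1 : ℂ) + ζ + (ζ : ℂ) ^ 2 = 0 := by
    have := hζ.geom_sum_eq_zero (by norm_num)
    simpa [Finset.sum_range_succ] using this
  obtain ⟨m1, e1⟩ := twist_sum (CfsgLib.Char.isCharacter_irr B.a) y V hyc (ζ := 1) (by simp)
  obtain ⟨m2, e2⟩ := twist_sum (CfsgLib.Char.isCharacter_irr B.a) y V hyc hζ3
  simp [-Nat.card_eq_fintype_card, hy, Finset.sum_range_succ, hV, pow_two, hS1, hS2] at e1 e2
  set N : ℤ := 8 * ((m1 : ℤ) - m2) - 7 with hN
  have hαN : α = (N : ℂ) := by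
    rw [hN]; push_cast
    linear_combination (1 / 3 : ℂ) * e1 - (1 / 3 : ℂ) * e2 + ((α + 7) / 3) * hgeo
  have h3 : (3 : ℤ) ∣ 12 - N := by
    refine dvd_deg_sub (CfsgLib.Char.isCharacter_irr B.a) Nat.prime_three hy (c := N) (d := 12)
      (fun j hj => ?_) (by rw [val_one, B.a_deg]; norm_num)
    rw [← pow_mod_orderOf, hy]
    rcases (show j % 3 = 1 ∨ j % 3 = 2 by omega) with e | e <;> rw [e]
    · rw [pow_one]; exact hαN
    · rw [pow_two, ← hy2, hinv]; exact hαN
  set c := Nat.card (Subgroup.centralizer ({y} : Set G)) with hc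
  have h432 := dvd_of_not_thirteen h B hy (by norm_num) (by norm_num)
  rw [← hc] at h432
  have hcol : 1 + N * N + 4 * ((1 - N) * (1 - N)) ≤ (c : ℤ) := by
    have hh := column_le y ({oneChar G, B.a} ∪ B.Y)
    have hdis : Disjoint ({oneChar G, B.a} : Finset (IrrCharacter G)) B.Y := by
      rw [Finset.disjoint_right]
      intro θ hθ
      simp [(B.Y_disj θ hθ).1, (B.Y_disj θ hθ).2.1]
    rw [Finset.sum_union hdis, Finset.sum_pair B.a_one.symm,
      Finset.sum_congr rfl (fun θ hθ => by rw [hY θ hθ]), Finset.sum_const, B.Y_card,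
      ← hα, hαN, ← hc] at hh
    simp only [show ((oneChar G : IrrCharacter G) : G → ℂ) y = 1 from rfl, map_one] at hh
    rw [show (1 : ℂ) - (N : ℂ) = ((1 - N : ℤ) : ℂ) by push_cast; ring, Complex.normSq_intCast,
      Complex.normSq_intCast, nsmul_eq_mul] at hh
    have h2 : (((1 + N * N + 4 * ((1 - N) * (1 - N)) : ℤ)) : ℝ) ≤ (c : ℝ) := by
      push_cast at hh ⊢
      linarith
    exact_mod_cast h2
  have hcle : c ≤ 432 := Nat.le_of_dvd (by norm_num) h432
  have hN9 : N = 9 := by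
    have h1 : N ≤ 10 := by nlinarith
    have h2 : -10 ≤ N := by nlinarith
    omega
  rw [hN9] at hcol
  have hceq : c = 432 := by
    obtain ⟨k, hk⟩ := h432
    have hk2 : k < 2 := by nlinarith
    interval_cases k <;> omega
  have hidx : (Subgroup.centralizer ({y} : Set G)).index = 13 ^ 1 := by
    have e := Subgroup.card_mul_index (Subgroup.centralizer ({y} : Set G))
    rw [← hc, hceq, h] at e
    omega
  exact noncomm_order h ⟨⟨comm_of_class_prime_pow (by norm_num)
    (fun e => by rw [e, orderOf_one] at hy; norm_num at hy) hidx⟩⟩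

theorem shyp_of_card (h : Nat.card G = 5616) : SHyp G := by
  haveI := Fintype.ofFinite G
  obtain ⟨B⟩ := exists_blk h
  exact ⟨h, fun v w hv hw => B.conj_invol h hv hw, fun w hw => B.cent48 h hw,
    fun w hw => B.other_invol h hw, fun E hE ha => B.no_elem E hE ha,
    fun y hy V hV hc => B.three_eight h hy V hV hc⟩

end CfsgLib.Char.LThreeThree.SimpleOrder
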