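import Cfsg.Agent.Lib.Char.LThreeThree.Local
import Cfsg.Agent.Lib.Coprime.Solvable

/-!
# The group `3² : GL(2,3)` inside a group with the local structure of `L₃(3)`
-/

set_option autoImplicit false
set_option linter.all false

open Subgroup

namespace CfsgLib.Char.LThreeThree

open CfsgLib.Char.GLThreeCent

variable {G : Type*} [Group G] [Finite G] {t : G} {el : Fin 48 → G}

/-- Two Sylow three-subgroups centralising an element of order three are equal. -/
theorem Hyp.sylow_unique (h : Hyp t el) {y : G} (hy : orderOf y = 3) {P Q : Sylow 3 G}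
    (hP : (P : Subgroup G) ≤ centralizer ({y} : Set G)) (hQ : (Q : Subgroup G) ≤ centralizer ({y} : Set G)) :
    P = Q := by
  haveI : Fact (Nat.Prime 3) := ⟨Nat.prime_three⟩
  have hPc := h.card_sylow_three P
  have hQc := h.card_sylow_three Q
  suffices hle : (Q : Subgroup G) ≤ (P : Subgroup G) from
    Sylow.ext (eq_of_le_of_card_ge hle (by rw [hPc, hQc])).symm
  rcases h.centralizer_cases hy with ⟨u, hu, hc⟩ | h27
  · have h54 : Nat.card (centralizer ({y} : Set G)) = 54 :=
      (h.card_eq_of_invol hy hu hc).1.trans h.card_centralizer_x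
    have h2 : ((P : Subgroup G).subgroupOf (centralizer ({y} : Set G))).index = 2 := by
      have := ((P : Subgroup G).subgroupOf (centralizer ({y} : Set G))).card_mul_index
      rw [Nat.card_congr (subgroupOfEquivOfLe hP).toEquiv, hPc, h54] at this
      omega
    haveI := normal_of_index_eq_two h2
    intro q hq
    have hq2 := pow_index_mem (H := (P : Subgroup G).subgroupOf (centralizer ({y} : Set G))) ⟨q, hQ hq⟩
    rw [h2, mem_subgroupOf, SubmonoidClass.coe_pow] at hq2
    have h27 : q ^ 27 = 1 := by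
      have := congrArg Subtype.val (pow_card_eq_one' (x := (⟨q, hq⟩ : (Q : Subgroup G))))
      rwa [hQc, SubmonoidClass.coe_pow] at this
    have := (P : Subgroup G).pow_mem hq2 14
    rwa [← pow_mul, show 2 * 14 = 27 + 1 from rfl, pow_succ, h27, one_mul] at this
  · rw [eq_of_le_of_card_ge hP (by rw [hPc]; exact Nat.le_of_dvd (by norm_num) h27)]
    exact hQ

theorem exists_central {P E : Subgroup G} (hP : IsPGroup 3 P) (hEP : E ≤ P) (hn : P ≤ normalizer (E : Set G))
    (hE : E ≠ ⊥) : ∃ c ∈ E, c ≠ 1 ∧ ∀ p ∈ P, p * c = c * p := by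
  haveI : Fact (Nat.Prime 3) := ⟨Nat.prime_three⟩
  haveI : Group.IsNilpotent P := hP.isNilpotent
  haveI : (E.subgroupOf P).Normal := normal_subgroupOf_iff_le_normalizer hEP |>.2 hn
  have hne : E.subgroupOf P ≠ ⊥ := fun e => hE (le_bot_iff.1 fun c hc => by
    have : (⟨c, hEP hc⟩ : P) ∈ E.subgroupOf P := hc
    rw [e, mem_bot] at this
    exact congrArg Subtype.val this)
  obtain ⟨⟨c, hc, hcz⟩, hc0⟩ := Subgroup.ne_bot_iff_exists_ne_one.1
    (CfsgLib.Coprime.nilpotent_inf_center_ne_bot (E.subgroupOf P) hne)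
  have hc1 : c ≠ 1 := fun e => hc0 (Subtype.ext e)
  exact ⟨c, hc, fun e => hc1 (Subtype.ext e), fun p hp => congrArg Subtype.val (mem_center_iff.1 hcz ⟨p, hp⟩)⟩

theorem Hyp.exists_base (h : Hyp t el) : ∃ P : Sylow 3 G, (P : Subgroup G) ≤ centralizer ({el xI} : Set G) := by
  haveI : Fact (Nat.Prime 3) := ⟨Nat.prime_three⟩
  obtain ⟨U⟩ : Nonempty (Sylow 3 (centralizer ({el xI} : Set G))) := inferInstance
  have hU : Nat.card (U : Subgroup (centralizer ({el xI} : Set G))) = 3 ^ 3 := by
    rw [U.card_eq_multiplicity, h.card_centralizer_x, show (54 : ℕ) = 3 ^ 3 * 2 by norm_num,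
      Nat.factorization_mul (by norm_num) (by norm_num), Nat.prime_three.factorization_pow]
    simp [Nat.factorization_eq_zero_of_not_dvd (show ¬ 3 ∣ 2 by norm_num)]
  set K := (U : Subgroup (centralizer ({el xI} : Set G))).map (centralizer ({el xI} : Set G)).subtype with hK
  have hKc : Nat.card K = 3 ^ 3 := by
    rw [← hU]
    exact Nat.card_congr (equivMapOfInjective _ _ (subtype_injective _)).toEquiv.symm
  obtain ⟨P, hP⟩ := (IsPGroup.of_card hKc : IsPGroup 3 K).exists_le_sylow
  refine ⟨P, ?_⟩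
  rw [← eq_of_le_of_card_ge hP (by rw [h.card_sylow_three, hKc]; norm_num)]
  exact map_subtype_le _

/-- The normalizer of a Sylow three-subgroup centralising `x`. -/
theorem Hyp.centralizer_le_normalizer (h : Hyp t el) {P : Sylow 3 G}
    (hP : (P : Subgroup G) ≤ centralizer ({el xI} : Set G)) :
    centralizer ({el xI} : Set G) ≤ normalizer ((P : Subgroup G) : Set G) := by
  haveI : Fact (Nat.Prime 3) := ⟨Nat.prime_three⟩
  intro c hc
  have hle : ((c • P : Sylow 3 G) : Subgroup G) ≤ centralizer ({el xI} : Set G) := by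
    rintro w hw
    obtain ⟨p, hp, rfl⟩ := hw
    exact mul_mem (mul_mem hc (hP hp)) (inv_mem hc)
  exact Sylow.smul_eq_iff_mem_normalizer.1 (h.sylow_unique h.x_order hle hP)

theorem Hyp.exists_meet (h : Hyp t el) {P : Sylow 3 G}
    (hP : (P : Subgroup G) ≤ centralizer ({el xI} : Set G)) :
    ∃ Q : Sylow 3 G, Q ≠ P ∧ 3 < Nat.card ((P : Subgroup G) ⊓ (Q : Subgroup G) : Subgroup G) := by
  classical
  haveI : Fact (Nat.Prime 3) := ⟨Nat.prime_three⟩
  haveI := h.simple
  by_contra hcon
  push Not at hcon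
  have hPc := h.card_sylow_three P
  haveI : Fintype (Sylow 3 G) := Fintype.ofFinite _
  haveI : Fintype (MulAction.orbitRel.Quotient (P : Subgroup G) (Sylow 3 G)) := Fintype.ofFinite _
  have horb : ∀ Q : Sylow 3 G,
      Nat.card (MulAction.orbit (P : Subgroup G) Q) * Nat.card (MulAction.stabilizer (P : Subgroup G) Q) = 27 := by
    intro Q
    rw [← hPc, Nat.card_coe_set_eq, ← MulAction.index_stabilizer]
    exact index_mul_card _
  have hstab : ∀ Q : Sylow 3 G, Nat.card (MulAction.stabilizer (P : Subgroup G) Q) =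
      Nat.card ((P : Subgroup G) ⊓ (Q : Subgroup G) : Subgroup G) := by
    intro Q
    rw [← P.2.inf_normalizer_sylow Q, inf_comm, ← subgroupOf_map_subtype,
      Nat.card_congr (equivMapOfInjective _ _ (subtype_injective _)).toEquiv.symm]
    congr 2
    ext p
    rw [mem_subgroupOf, MulAction.mem_stabilizer_iff]
    exact Sylow.smul_eq_iff_mem_normalizer
  have hn : Nat.card (Sylow 3 G) % 9 = 1 := by
    rw [Nat.card_congr (MulAction.selfEquivSigmaOrbits (P : Subgroup G) (Sylow 3 G)), Nat.card_sigma,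
      ← Finset.add_sum_erase _ _ (Finset.mem_univ (⟦P⟧ : MulAction.orbitRel.Quotient (P : Subgroup G) (Sylow 3 G)))]
    have hPout : (⟦P⟧ : MulAction.orbitRel.Quotient (P : Subgroup G) (Sylow 3 G)).out = P := by
      obtain ⟨p, hp⟩ := MulAction.orbitRel_apply.1 (Quotient.mk_out (s := MulAction.orbitRel (P : Subgroup G) (Sylow 3 G)) P)
      rw [← hp]
      exact Sylow.smul_eq_iff_mem_normalizer.2 (le_normalizer p.2)
    have h1 : Nat.card (MulAction.orbit (P : Subgroup G) P) = 1 := by
      have := horb P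
      rw [hstab, inf_idem, hPc] at this
      omega
    have h9 : ∀ ω ∈ Finset.univ.erase (⟦P⟧ : MulAction.orbitRel.Quotient (P : Subgroup G) (Sylow 3 G)),
        9 ∣ Nat.card (MulAction.orbit (P : Subgroup G) ω.out) := by
      intro ω hω
      have hne : ω.out ≠ P := fun e => (Finset.mem_erase.1 hω).1 ((Quotient.out_eq ω).symm.trans (congrArg _ e))
      have h3 := hcon _ hne
      have hd : Nat.card ((P : Subgroup G) ⊓ (ω.out : Subgroup G) : Subgroup G) ∣ 3 ^ 3 := by
        refine (card_dvd_of_le inf_le_left).trans ?_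
        rw [hPc]; norm_num
      have := horb ω.out
      rw [hstab] at this
      obtain ⟨j, hj, hj'⟩ := (Nat.dvd_prime_pow Nat.prime_three).1 hd
      rw [hj'] at this h3
      have hj1 : j ≤ 1 := (Nat.pow_le_pow_iff_right (by norm_num : 1 < 3)).1 (h3.trans (by norm_num))
      interval_cases j <;> omega
    obtain ⟨k, hk⟩ := Finset.dvd_sum h9
    rw [hPout, h1, hk]
    omega
  have hidx := P.card_eq_index_normalizer
  have h54 : 54 ∣ Nat.card (normalizer ((P : Subgroup G) : Set G)) := by
    rw [← h.card_centralizer_x]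
    exact card_dvd_of_le (h.centralizer_le_normalizer hP)
  obtain ⟨m, hm⟩ := h54
  have hmul : Nat.card (Sylow 3 G) * (54 * m) = 5616 := by
    rw [hidx, ← hm, ← h.card]; exact index_mul_card _
  have hd : Nat.card (Sylow 3 G) ∣ 104 := ⟨m, by nlinarith⟩
  have hone : Nat.card (Sylow 3 G) = 1 := by
    have key : ∀ n < 105, n ∣ 104 → n % 9 = 1 → n = 1 := by decide +kernel
    exact key _ (Nat.lt_succ_of_le (Nat.le_of_dvd (by norm_num) hd)) hd hn
  rw [hidx, index_eq_one] at hone
  rcases (normalizer_eq_top_iff.1 hone).eq_bot_or_eq_top with e | e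
  · rw [e, card_bot] at hPc; norm_num at hPc
  · rw [e, card_top, h.card] at hPc; norm_num at hPc

/-- The properties of `E = O₃` of the point stabiliser that are used below. -/
structure Frame (h : Hyp t el) (E : Subgroup G) : Prop where
  card : Nat.card E = 9
  comm : ∀ a ∈ E, ∀ b ∈ E, a * b = b * a
  cube : ∀ e ∈ E, e ^ 3 = 1
  x_mem : el xI ∈ E
  self : ∀ w, (∀ e ∈ E, w * e = e * w) → w ∈ E
  trans : ∀ e ∈ E, e ≠ 1 → ∃ g ∈ normalizer (E : Set G), g * el xI * g⁻¹ = e
  cent : centralizer ({el xI} : Set G) ≤ normalizer (E : Set G)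
  card_norm : Nat.card (normalizer (E : Set G)) = 432

theorem Hyp.exists_frame (h : Hyp t el) : ∃ E : Subgroup G, Frame h E := by
  classical
  haveI : Fact (Nat.Prime 3) := ⟨Nat.prime_three⟩
  obtain ⟨P, hPC⟩ := h.exists_base
  obtain ⟨P', hne, hbig⟩ := h.exists_meet hPC
  set E := (P : Subgroup G) ⊓ (P' : Subgroup G) with hE
  have hPc := h.card_sylow_three P
  have hP'c := h.card_sylow_three P'
  have hxo := h.x_order
  set x := el xI with hxdef
  have hxc : ∀ p ∈ (P : Subgroup G), p * x = x * p := fun p hp => mem_centralizer_singleton_iff.1 (hPC hp)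
  have hxP : x ∈ (P : Subgroup G) := by
    have h2 : ((P : Subgroup G).subgroupOf (centralizer ({x} : Set G))).index = 2 := by
      have := ((P : Subgroup G).subgroupOf (centralizer ({x} : Set G))).card_mul_index
      rw [Nat.card_congr (subgroupOfEquivOfLe hPC).toEquiv, hPc, h.card_centralizer_x] at this
      omega
    haveI := normal_of_index_eq_two h2
    have hq2 := pow_index_mem (H := (P : Subgroup G).subgroupOf (centralizer ({x} : Set G)))
      ⟨x, mem_centralizer_singleton_iff.2 rfl⟩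
    rw [h2, mem_subgroupOf, SubmonoidClass.coe_pow] at hq2
    have := (P : Subgroup G).pow_mem hq2 2
    rwa [← pow_mul, show x ^ (2 * 2) = x ^ 3 * x by rw [← pow_succ],
      show x ^ 3 = 1 by rw [← hxo, pow_orderOf_eq_one], one_mul] at this
  have hE9 : Nat.card E = 9 := by
    have hd : Nat.card E ∣ 3 ^ 3 := (card_dvd_of_le inf_le_left).trans (by rw [hPc]; norm_num)
    obtain ⟨j, hj, hj'⟩ := (Nat.dvd_prime_pow Nat.prime_three).1 hd
    rw [hj'] at hbig ⊢
    interval_cases j
    · norm_num at hbig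
    · norm_num at hbig
    · rfl
    · exfalso
      refine hne (Sylow.ext ?_)
      have e1 : E = (P : Subgroup G) := eq_of_le_of_card_ge inf_le_left (by rw [hPc, hj']; norm_num)
      exact (eq_of_le_of_card_ge (e1 ▸ inf_le_right : (P : Subgroup G) ≤ P') (by rw [hPc, hP'c])).symm
  have hnorm : ∀ Q : Sylow 3 G, E ≤ (Q : Subgroup G) → (Q : Subgroup G) ≤ normalizer (E : Set G) := by
    intro Q hEQ
    have hQc := h.card_sylow_three Q
    refine (normal_subgroupOf_iff_le_normalizer hEQ).1 ?_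
    have h3 : (E.subgroupOf (Q : Subgroup G)).index = 3 := by
      have := (E.subgroupOf (Q : Subgroup G)).card_mul_index
      rw [Nat.card_congr (subgroupOfEquivOfLe hEQ).toEquiv, hE9, hQc] at this
      omega
    refine normal_of_index_eq_minFac_card ?_
    rw [h3, hQc]; norm_num
  have hPn := hnorm P inf_le_left
  have hP'n := hnorm P' inf_le_right
  have hEne : E ≠ ⊥ := fun e => by rw [e, card_bot] at hE9; norm_num at hE9
  have hcomm : ∀ a ∈ E, ∀ b ∈ E, a * b = b * a := fun a ha b hb => congrArg Subtype.val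
    ((IsPGroup.isMulCommutative_of_card_eq_prime_sq (G := E) (p := 3) (by rw [hE9]; norm_num)).is_comm.comm
      ⟨a, ha⟩ ⟨b, hb⟩)
  have hno : ∀ y, orderOf y = 3 → (∀ p ∈ (P : Subgroup G), p * y = y * p) →
      ¬ ∀ p ∈ (P' : Subgroup G), p * y = y * p := fun y hy h1 h2 => hne (h.sylow_unique hy
    (fun p hp => mem_centralizer_singleton_iff.2 (h2 p hp)) fun p hp => mem_centralizer_singleton_iff.2 (h1 p hp))
  have hcube : ∀ e ∈ E, e ^ 3 = 1 := by
    intro e he
    by_contra h3
    have h9 : e ^ 9 = 1 := by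
      have := congrArg Subtype.val (pow_card_eq_one' (x := (⟨e, he⟩ : E)))
      rwa [hE9, SubmonoidClass.coe_pow] at this
    have ho : orderOf e = 9 := by
      have := orderOf_eq_prime_pow (p := 3) (n := 1) (x := e) (by simpa using h3) (by simpa using h9)
      simpa using this
    have hEz : zpowers e = E :=
      eq_of_le_of_card_ge (zpowers_le.2 he) (by rw [hE9, Nat.card_zpowers, ho])
    have hcen : ∀ Q : Sylow 3 G, E ≤ (Q : Subgroup G) → ∀ q ∈ (Q : Subgroup G), q * e ^ 3 = e ^ 3 * q := by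
      intro Q hEQ q hq
      have h1 : q * e * q⁻¹ ∈ zpowers e := by
        rw [hEz]; exact (mem_normalizer_iff.1 (hnorm Q hEQ hq) e).1 he
      obtain ⟨k, hk⟩ := (isOfFinOrder_of_finite e).mem_powers_iff_mem_zpowers.2 h1
      have hk' : e ^ k = q * e * q⁻¹ := hk
      have hit : ∀ j : ℕ, q ^ j * e * (q ^ j)⁻¹ = e ^ (k ^ j) := by
        intro j
        induction j with
        | zero => simp
        | succ j ih =>
          rw [pow_succ' q, mul_inv_rev, show q * q ^ j * e * ((q ^ j)⁻¹ * q⁻¹) = q * (q ^ j * e * (q ^ j)⁻¹) * q⁻¹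
            by group, ih, ← conj_pow, ← hk', ← pow_mul, ← pow_succ']
      have h27 := hit 27
      have hq27 : q ^ 27 = 1 := by
        have := congrArg Subtype.val (pow_card_eq_one' (x := (⟨q, hq⟩ : (Q : Subgroup G))))
        rwa [h.card_sylow_three, SubmonoidClass.coe_pow] at this
      rw [hq27, one_mul, inv_one, mul_one] at h27
      nth_rewrite 1 [← pow_one e] at h27
      rw [pow_eq_pow_iff_modEq, ho] at h27
      have hk3 : k % 3 = 1 := by
        have h1 : 1 ≡ k ^ 27 [MOD 3] := h27.of_dvd (by norm_num)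
        rw [Nat.ModEq, Nat.pow_mod] at h1
        have : k % 3 < 3 := Nat.mod_lt _ (by norm_num)
        interval_cases hk3 : k % 3 <;> simp_all
      have h2 : q * e ^ 3 * q⁻¹ = e ^ 3 := by
        rw [← conj_pow, ← hk', ← pow_mul, pow_eq_pow_iff_modEq, ho, Nat.ModEq]
        omega
      exact mul_inv_eq_iff_eq_mul.1 h2
    have h33 : orderOf (e ^ 3) = 3 := by rw [orderOf_pow' _ (by norm_num), ho]; norm_num
    exact hno _ h33 (hcen P inf_le_left) (hcen P' inf_le_right)
  have ho3 : ∀ e ∈ E, e ≠ 1 → orderOf e = 3 := fun e he h1 => orderOf_eq_prime (hcube e he) h1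
  have hPnab : ∀ w, (∀ p ∈ (P : Subgroup G), p * w = w * p) → w ∈ E → ∀ w' ∈ E, w' ∉ zpowers w →
      w = 1 ∨ ¬ ∀ p ∈ (P : Subgroup G), p * w' = w' * p := by
    intro w hw hwE w' hw' hnot
    refine (em (w = 1)).imp id fun hw1 hw'c => ?_
    obtain ⟨c, hc, hc1, hcc⟩ := exists_central P'.2 inf_le_right hP'n hEne
    have hspan := span_nine (P := E) (ho3 w hwE hw1) (ho3 w' hw' fun e => hnot (e ▸ one_mem _))
      (show Commute w w' from hcomm w hwE w' hw') hnot hE9 hwE hw'
    obtain ⟨a, b, hab⟩ := hspan c hc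
    refine hno c (ho3 c hc hc1) (fun p hp => ?_) hcc
    rw [hab]
    exact (((show Commute p w from hw p hp).pow_right _).mul_right
      ((show Commute p w' from hw'c p hp).pow_right _)).eq
  have hxE : x ∈ E := by
    by_contra hxE
    obtain ⟨c, hc, hc1, hcc⟩ := exists_central P'.2 inf_le_right hP'n hEne
    refine hno c (ho3 c hc hc1) ?_ hcc
    have hle : E ⊔ zpowers x ≤ centralizer ({c} : Set G) := sup_le
      (fun e he => mem_centralizer_singleton_iff.2 (hcomm e he c hc))
      (zpowers_le.2 (mem_centralizer_singleton_iff.2 (hxc c (mem_inf.1 hc).1).symm))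
    have heq : E ⊔ zpowers x = (P : Subgroup G) := by
      refine eq_of_le_of_card_ge (sup_le inf_le_left (zpowers_le.2 hxP)) ?_
      obtain ⟨j, hj, hj'⟩ := (Nat.dvd_prime_pow Nat.prime_three).1 (show Nat.card (E ⊔ zpowers x : Subgroup G) ∣ 3 ^ 3
        from (card_dvd_of_le (sup_le inf_le_left (zpowers_le.2 hxP))).trans (by rw [hPc]; norm_num))
      have h9 : 9 ≤ Nat.card (E ⊔ zpowers x : Subgroup G) :=
        hE9 ▸ Nat.le_of_dvd Nat.card_pos (card_dvd_of_le le_sup_left)
      have hne9 : Nat.card (E ⊔ zpowers x : Subgroup G) ≠ 9 := fun e => hxE <| by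
        rw [eq_of_le_of_card_ge (le_sup_left : E ≤ E ⊔ zpowers x) (by rw [e, hE9])]
        exact mem_sup_right (mem_zpowers x)
      rw [hj'] at h9 hne9 ⊢
      rw [hPc]
      interval_cases j <;> simp_all
    exact fun p hp => mem_centralizer_singleton_iff.1 (hle (heq.ge hp))
  have hync : ∀ y ∈ E, y ∉ zpowers x → ∃ p ∈ (P : Subgroup G), p * y ≠ y * p := by
    intro y hy hnot
    by_contra hcon
    push Not at hcon
    rcases hPnab x hxc hxE y hy hnot with e | e
    · rw [e, orderOf_one] at hxo; norm_num at hxo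
    · exact e hcon
  obtain ⟨x', hx', hx'1, hx'c⟩ := exists_central P'.2 inf_le_right hP'n hEne
  have hx'x : x' ∉ zpowers x := fun hm => by
    obtain ⟨k, hk⟩ := mem_zpowers_iff.1 hm
    exact hno x' (ho3 x' hx' hx'1) (fun p hp => hk ▸ ((show Commute p x from hxc p hp).zpow_right k).eq) hx'c
  have hxx' : x ∉ zpowers x' := fun hm => by
    obtain ⟨k, hk⟩ := mem_zpowers_iff.1 hm
    exact hno x hxo hxc fun p hp => hk ▸ ((show Commute p x' from hx'c p hp).zpow_right k).eq
  have hxnc' : ∃ p ∈ (P' : Subgroup G), p * x ≠ x * p := by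
    by_contra hcon
    push Not at hcon
    exact hno x hxo hxc hcon
  have hspan := span_nine (P := E) hxo (ho3 x' hx' hx'1) (show Commute x x' from hcomm x hxE x' hx') hx'x hE9 hxE hx'
  have htrans : ∀ e ∈ E, e ≠ 1 → ∃ g ∈ normalizer (E : Set G), g * x * g⁻¹ = e := by
    have hcm : ∀ a b : ℕ, x' ^ a * x ^ b = x ^ b * x' ^ a := fun a b =>
      ((show Commute x' x from hcomm x' hx' x hxE).pow_pow a b).eq
    have stepP : ∀ (a a' : Fin 3) (b : Fin 3), b ≠ 0 → ∃ g ∈ normalizer (E : Set G),
        g * (x ^ a.val * x' ^ b.val) * g⁻¹ = x ^ a'.val * x' ^ b.val := by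
      intro a a' b hb
      obtain ⟨u, hu, he⟩ := shift hPc hxo (mem_inf.1 hx').1 (hcube x' hx') hxP hxc (hync x' hx' hx'x) a a' b hb
      exact ⟨u, hPn hu, he⟩
    have stepP' : ∀ (b b' : Fin 3) (a : Fin 3), a ≠ 0 → ∃ g ∈ normalizer (E : Set G),
        g * (x ^ a.val * x' ^ b.val) * g⁻¹ = x ^ a.val * x' ^ b'.val := by
      intro b b' a ha
      obtain ⟨u, hu, he⟩ := shift hP'c (ho3 x' hx' hx'1) (mem_inf.1 hxE).2 (hcube x hxE) (mem_inf.1 hx').2 hx'c
        hxnc' b b' a ha
      rw [hcm, hcm] at he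
      exact ⟨u, hP'n hu, he⟩
    -- every element is conjugate to `x`
    suffices key : ∀ a b : Fin 3, (a, b) ≠ (0, 0) → ∃ g ∈ normalizer (E : Set G),
        g * (x ^ a.val * x' ^ b.val) * g⁻¹ = x by
      intro e he h1
      obtain ⟨a, b, rfl⟩ := hspan e he
      obtain ⟨g, hg, hge⟩ := key a b fun e => h1 (by
        rw [Prod.mk.injEq] at e; rw [e.1, e.2]; simp)
      exact ⟨g⁻¹, inv_mem hg, by conv_lhs => arg 1; arg 2; rw [← hge]
                                 group⟩
    have comp : ∀ u v w : G, (∃ g ∈ normalizer (E : Set G), g * u * g⁻¹ = v) →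
        (∃ g ∈ normalizer (E : Set G), g * v * g⁻¹ = w) → ∃ g ∈ normalizer (E : Set G), g * u * g⁻¹ = w := by
      rintro u v w ⟨g, hg, rfl⟩ ⟨k, hk, rfl⟩
      exact ⟨k * g, mul_mem hk hg, by group⟩
    have k1 : ∀ a : Fin 3, ∀ b : Fin 3, b ≠ 0 →
        ∃ g ∈ normalizer (E : Set G), g * (x ^ a.val * x' ^ b.val) * g⁻¹ = x := by
      intro a b hb
      have := comp _ _ _ (stepP a 1 b hb) (stepP' b 0 1 (by decide))
      simpa using this
    intro a b hab
    by_cases hb : b = 0
    · subst hb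
      exact comp _ _ _ (stepP' 0 1 a fun e => hab (by rw [e])) (k1 a 1 (by decide))
    · exact k1 a b hb
  have hCE : ∀ w, (∀ e ∈ E, w * e = e * w) → w ∈ E := by
    set D := centralizer (E : Set G) with hD
    suffices hDE : D ≤ E from fun w hw => hDE (mem_centralizer_iff.2 fun e he => (hw e he).symm)
    have hDC : D ≤ centralizer ({x} : Set G) := centralizer_le (Set.singleton_subset_iff.2 hxE)
    have hED : E ≤ D := fun a ha => mem_centralizer_iff.2 fun b hb => hcomm b hb a ha
    have hodd : ¬ 2 ∣ Nat.card D := by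
      intro h2
      haveI : Fact (Nat.Prime 2) := ⟨Nat.prime_two⟩
      obtain ⟨u, hu⟩ := exists_prime_orderOf_dvd_card' (G := D) 2 h2
      have h9 : 9 ∣ Nat.card (centralizer ({(u : G)} : Set G)) := hE9 ▸ card_dvd_of_le fun e he =>
        mem_centralizer_singleton_iff.2 (mem_centralizer_iff.1 u.2 e he)
      rw [h.card_invol (by rw [Subgroup.orderOf_coe, hu])] at h9
      norm_num at h9
    have hd54 : Nat.card D ∣ 27 := by
      have h1 := card_dvd_of_le hDC
      rw [h.card_centralizer_x] at h1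
      exact (Nat.prime_two.coprime_iff_not_dvd.2 hodd).symm.dvd_of_dvd_mul_left (show Nat.card D ∣ 2 * 27 from h1)
    by_contra hDE
    have hD27 : Nat.card D = 27 := by
      obtain ⟨j, hj, hj'⟩ := (Nat.dvd_prime_pow Nat.prime_three).1 (show Nat.card D ∣ 3 ^ 3 from hd54)
      have h9 : 9 ≤ Nat.card D := hE9 ▸ Nat.le_of_dvd Nat.card_pos (card_dvd_of_le hED)
      have hne9 : Nat.card D ≠ 9 := fun e => hDE (eq_of_le_of_card_ge hED (by rw [e, hE9])).ge
      rw [hj'] at h9 hne9 ⊢
      interval_cases j <;> simp_all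
    obtain ⟨S, hS⟩ := (IsPGroup.of_card (n := 3) (by rw [hD27]; norm_num) : IsPGroup 3 D).exists_le_sylow
    have hSD : (S : Subgroup G) = D := (eq_of_le_of_card_ge hS (by rw [hD27, h.card_sylow_three])).symm
    have hSP : S = P := h.sylow_unique hxo (hSD ▸ hDC) hPC
    obtain ⟨p, hp, hpn⟩ := hync x' hx' hx'x
    refine hpn (mem_centralizer_iff.1 (show p ∈ D by rw [← hSD, hSP]; exact hp) x' hx').symm
  have htC : t ∈ centralizer ({x} : Set G) := mem_centralizer_singleton_iff.2 (mulI_el h xI).symm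
  have htP := h.centralizer_le_normalizer hPC htC
  have ht_cent : ∀ p ∈ (P : Subgroup G), Commute p t → p ∈ zpowers x := by
    intro p hp hc
    obtain ⟨i, hi⟩ := (h.emb.mem p).1 (mem_centralizer_singleton_iff.2 hc.eq)
    obtain ⟨k, hk, hk'⟩ := (Nat.dvd_prime_pow Nat.prime_three).1 (show orderOf p ∣ 3 ^ 3 by
      have h1 := orderOf_dvd_natCard (⟨p, hp⟩ : (P : Subgroup G))
      rw [Subgroup.orderOf_mk, hPc] at h1
      exact h1)
    have h48 : orderOf p ∣ 48 := by
      rw [← h.emb.card_centralizer, ← Nat.card_zpowers]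
      exact card_dvd_of_le (zpowers_le.2 (mem_centralizer_singleton_iff.2 hc.eq))
    have hp3 : p ^ 3 = 1 := by
      refine orderOf_dvd_iff_pow_eq_one.1 ?_
      rw [hk'] at h48 ⊢
      interval_cases k <;> simp_all
    have hcx : mulI i xI = mulI xI i := h.emb.inj (by rw [h.emb.mul, h.emb.mul, hi]; exact hxc p hp)
    rcases (commuting_xI i hcx).2 (h.emb.inj (by rw [h.emb.pow, h.emb.one, hi, hp3])) with e | e | e <;>
      rw [← hi, e]
    · rw [h.emb.one]; exact one_mem _
    · exact mem_zpowers x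
    · rw [h.emb.inv]; exact inv_mem (mem_zpowers x)
  have htE : t ∈ normalizer (E : Set G) := by
    have ht2 : t⁻¹ = t := inv_eq_of_mul_eq_one_left h.emb.t_invol.1
    have hconjP : ∀ p ∈ (P : Subgroup G), t * p * t⁻¹ ∈ (P : Subgroup G) := fun p hp =>
      (mem_normalizer_iff.1 htP p).1 hp
    let Z : Subgroup (P : Subgroup G) := zpowers ⟨x, hxP⟩
    haveI hZn : Z.Normal := ⟨fun w hw g => by
      obtain ⟨k, rfl⟩ := mem_zpowers_iff.1 hw
      have : Commute g (⟨x, hxP⟩ : (P : Subgroup G)) := Subtype.ext (hxc g g.2)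
      rw [(this.zpow_right k).eq, mul_inv_cancel_right]
      exact hw⟩
    have hq : Nat.card ((P : Subgroup G) ⧸ Z) = 3 ^ 2 := by
      have h1 := Z.card_eq_card_quotient_mul_card_subgroup
      rw [hPc, show Nat.card Z = 3 from (Nat.card_zpowers _).trans (by rw [Subgroup.orderOf_mk, hxo])] at h1
      omega
    have hab : ∀ c d : (P : Subgroup G) ⧸ Z, c * d = d * c := fun c d =>
      (IsPGroup.isMulCommutative_of_card_eq_prime_sq hq).is_comm.comm c d
    have hinv : ∀ p ∈ (P : Subgroup G), p * (t * p * t⁻¹) ∈ zpowers x := by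
      intro p hp
      set r := p * (t * p * t⁻¹) with hr
      have hrP : r ∈ (P : Subgroup G) := mul_mem hp (hconjP p hp)
      have hcl : (⟨r, hrP⟩ : (P : Subgroup G))⁻¹ * ⟨t * r * t⁻¹, hconjP r hrP⟩ ∈ Z := by
        rw [← QuotientGroup.eq]
        have : (⟨t * r * t⁻¹, hconjP r hrP⟩ : (P : Subgroup G)) = ⟨t * p * t⁻¹, hconjP p hp⟩ * ⟨p, hp⟩ := by
          refine Subtype.ext ?_
          show t * r * t⁻¹ = t * p * t⁻¹ * p
          rw [hr, show t * (p * (t * p * t⁻¹)) * t⁻¹ = t * p * t * p * (t⁻¹ * t⁻¹) by group, ht2,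
            h.emb.t_invol.1, mul_one]
        rw [show (⟨r, hrP⟩ : (P : Subgroup G)) = ⟨p, hp⟩ * ⟨t * p * t⁻¹, hconjP p hp⟩ from rfl, this,
          QuotientGroup.mk_mul, QuotientGroup.mk_mul]
        exact hab _ _
      obtain ⟨k, hk⟩ := (isOfFinOrder_of_finite (⟨x, hxP⟩ : (P : Subgroup G))).mem_powers_iff_mem_zpowers.2 hcl
      have hk' : x ^ k = r⁻¹ * (t * r * t⁻¹) := congrArg Subtype.val hk
      have htr : t * r * t⁻¹ = r * x ^ k := by rw [hk']; group
      have htx : Commute t (x ^ k) := (show Commute t x from (mulI_el h xI).symm).pow_right k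
      have h2 : x ^ k * x ^ k = 1 := by
        have e1 : t * (t * r * t⁻¹) * t⁻¹ = r := by
          rw [show t * (t * r * t⁻¹) * t⁻¹ = (t * t) * r * (t⁻¹ * t⁻¹) by group, ht2, h.emb.t_invol.1, one_mul,
            mul_one]
        rw [htr, show t * (r * x ^ k) * t⁻¹ = (t * r) * (x ^ k * t⁻¹) by group, htx.inv_left.symm.eq,
          show (t * r) * (t⁻¹ * x ^ k) = t * r * t⁻¹ * x ^ k by group, htr, mul_assoc, mul_eq_left] at e1
        exact e1
      rw [← pow_add, ← orderOf_dvd_iff_pow_eq_one, hxo] at h2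
      have hk0 : x ^ k = 1 := orderOf_dvd_iff_pow_eq_one.1 (hxo.symm ▸ (by omega : 3 ∣ k))
      refine ht_cent r hrP (mul_inv_eq_iff_eq_mul.1 ?_).symm
      rw [htr, hk0, mul_one]
    have hzE : zpowers x ≤ E := zpowers_le.2 hxE
    have hfwd : ∀ e ∈ E, t * e * t⁻¹ ∈ E := by
      intro e he
      have := mul_mem (inv_mem he) (hzE (hinv e (mem_inf.1 he).1))
      rwa [inv_mul_cancel_left] at this
    refine mem_normalizer_iff.2 fun e => ⟨hfwd e, fun he => ?_⟩
    have := hfwd _ he
    rwa [show t * (t * e * t⁻¹) * t⁻¹ = (t * t) * e * (t⁻¹ * t⁻¹) by group, ht2, h.emb.t_invol.1, one_mul,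
      mul_one] at this
  have hcent : centralizer ({x} : Set G) ≤ normalizer (E : Set G) := by
    intro c hc
    have h2 : ((P : Subgroup G).subgroupOf (centralizer ({x} : Set G))).index = 2 := by
      have := ((P : Subgroup G).subgroupOf (centralizer ({x} : Set G))).card_mul_index
      rw [Nat.card_congr (subgroupOfEquivOfLe hPC).toEquiv, hPc, h.card_centralizer_x] at this
      omega
    have htn : t ∉ (P : Subgroup G) := fun hm => by
      have h1 := orderOf_dvd_natCard (⟨t, hm⟩ : (P : Subgroup G))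
      rw [Subgroup.orderOf_mk, hPc, h.t_order] at h1
      norm_num at h1
    by_cases hcP : c ∈ (P : Subgroup G)
    · exact hPn hcP
    have hct : c * t ∈ (P : Subgroup G) := by
      have := (mul_mem_iff_of_index_two h2 (a := ⟨c, hc⟩) (b := ⟨t, htC⟩)).2
        (iff_of_false (by simpa [mem_subgroupOf] using hcP) (by simpa [mem_subgroupOf] using htn))
      simpa [mem_subgroupOf] using this
    have := mul_mem (hPn hct) (inv_mem htE)
    rwa [mul_inv_cancel_right] at this
  refine ⟨E, ⟨hE9, hcomm, hcube, hxE, hCE, htrans, hcent, ?_⟩⟩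
  let O : Set G := {e | e ∈ E ∧ e ≠ 1}
  set M := normalizer (E : Set G) with hM
  let act : MulAction M G := MulAction.compHom G ((MulAut.conj : G →* MulAut G).comp M.subtype)
  have horbit : MulAction.orbit M x = O := by
    ext e
    constructor
    · rintro ⟨g, rfl⟩
      refine ⟨(mem_normalizer_iff.1 g.2 x).1 hxE, fun e => ?_⟩
      have : (g : G) * x * (g : G)⁻¹ = 1 := e
      rw [conj_eq_one_iff] at this
      rw [this, orderOf_one] at hxo; norm_num at hxo
    · rintro ⟨he, h1⟩
      obtain ⟨g, hg, hge⟩ := htrans e he h1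
      exact ⟨⟨g, hg⟩, hge⟩
  have hO : O.ncard = 8 := by
    have : O = (E : Set G) \ {1} := by ext e; simp [O]
    rw [this, Set.ncard_diff_singleton_of_mem (one_mem E), ← Nat.card_coe_set_eq]
    show Nat.card E - 1 = 8
    rw [hE9]
  have hst : Nat.card (MulAction.stabilizer M x) = 54 := by
    rw [← h.card_centralizer_x]
    refine Nat.card_congr ⟨fun g => ⟨(g : M), mem_centralizer_singleton_iff.2 (mul_inv_eq_iff_eq_mul.1 g.2)⟩,
      fun c => ⟨⟨c, hcent c.2⟩, mul_inv_eq_iff_eq_mul.2 (mem_centralizer_singleton_iff.1 c.2)⟩,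
      fun g => rfl, fun c => rfl⟩
  have := (MulAction.stabilizer M x).index_mul_card
  rw [MulAction.index_stabilizer, horbit, hO, hst] at this
  exact this.symm

end CfsgLib.Char.LThreeThree
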