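import Cfsg.Agent.Lib.Invol.GLTwoThree
import Cfsg.Agent.Lib.Fusion.System.MetacyclicTwoNormal

/-!
# Recognition of `GL(2,3)` by centraliser orders
-/

set_option autoImplicit false
set_option linter.all false

open Subgroup

namespace CfsgLib.Char.LThreeThree

/-- The four-group in `S₄`. -/
def vFour : Subgroup (Equiv.Perm (Fin 4)) where
  carrier := {g | g = 1 ∨ (g * g = 1 ∧ ∀ i, g i ≠ i)}
  one_mem' := Or.inl rfl
  mul_mem' := by decide +kernel +revert
  inv_mem' := by decide +kernel +revert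

theorem vFour_mem {g : Equiv.Perm (Fin 4)} : g ∈ vFour ↔ g = 1 ∨ (g * g = 1 ∧ ∀ i, g i ≠ i) := Iff.rfl

theorem vFour_norm : ∀ g : Equiv.Perm (Fin 4), (g = 1 ∨ (g * g = 1 ∧ ∀ i, g i ≠ i)) →
    ∀ h : Equiv.Perm (Fin 4), (h * g * h⁻¹ = 1 ∨ (h * g * h⁻¹ * (h * g * h⁻¹) = 1 ∧ ∀ i, (h * g * h⁻¹) i ≠ i)) := by
  decide +kernel

theorem vFour_self : ∀ g : Equiv.Perm (Fin 4),
    (∀ v : Equiv.Perm (Fin 4), (v = 1 ∨ (v * v = 1 ∧ ∀ i, v i ≠ i)) → g * v = v * g) →
    (g = 1 ∨ (g * g = 1 ∧ ∀ i, g i ≠ i)) := by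
  decide +kernel

theorem vFour_core : ∀ g : Equiv.Perm (Fin 4), (g = 1 ∨ (g * g = 1 ∧ ∀ i, g i ≠ i)) ∨
    ∃ h : Equiv.Perm (Fin 4), g * (h * g * h⁻¹) ≠ 1 ∧
      g * (h * g * h⁻¹) * (g * (h * g * h⁻¹)) * (g * (h * g * h⁻¹)) = 1 := by
  decide +kernel

theorem vFour_card : Fintype.card {g : Equiv.Perm (Fin 4) // g = 1 ∨ (g * g = 1 ∧ ∀ i, g i ≠ i)} = 4 := by
  decide +kernel

theorem vFour_two : ∃ a b : Equiv.Perm (Fin 4), (a * a = 1 ∧ ∀ i, a i ≠ i) ∧ (b * b = 1 ∧ ∀ i, b i ≠ i) ∧ a ≠ b := by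
  decide +kernel

theorem vFour_trans : ∀ a b : Equiv.Perm (Fin 4), (a * a = 1 ∧ ∀ i, a i ≠ i) → (b * b = 1 ∧ ∀ i, b i ≠ i) →
    ∃ g : Equiv.Perm (Fin 4), g * a * g⁻¹ = b := by
  decide +kernel

theorem dihedral_two_invol : (DihedralGroup.sr 0 : DihedralGroup 4) * .sr 0 = 1 ∧
    (DihedralGroup.sr 1 : DihedralGroup 4) * .sr 1 = 1 ∧ (DihedralGroup.sr 0 : DihedralGroup 4) ≠ 1 ∧
    (DihedralGroup.sr 1 : DihedralGroup 4) ≠ 1 ∧ (DihedralGroup.sr 0 : DihedralGroup 4) ≠ .sr 1 := by
  decide +kernel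

universe u

variable {Q : Type u} [Group Q] [Finite Q]

theorem gl_two_three_of_centralizers (hQ : Nat.card Q = 48) {z : Q} (hz : orderOf z = 2)
    (hzc : ∀ w : Q, w * z = z * w)
    (h3 : ∀ w : Q, orderOf w = 3 → Nat.card (centralizer ({w} : Set Q)) = 6)
    {t : Q} (ht : orderOf t = 2) (htz : t ≠ z) (h2 : Nat.card (centralizer ({t} : Set Q)) ≤ 4) :
    Nonempty (Q ≃* GL (Fin 2) (ZMod 3)) := by
  classical
  haveI : Fact (Nat.Prime 3) := ⟨Nat.prime_three⟩
  haveI : Fact (Nat.Prime 2) := ⟨Nat.prime_two⟩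
  haveI : Finite (GL (Fin 2) (ZMod 3)) := inferInstance
  have hPc : ∀ P : Sylow 3 Q, Nat.card (P : Subgroup Q) = 3 := by
    intro P
    rw [P.card_eq_multiplicity, hQ, show (48 : ℕ) = 2 ^ 4 * 3 ^ 1 by norm_num,
      Nat.factorization_mul (by norm_num) (by norm_num), Nat.prime_two.factorization_pow,
      Nat.prime_three.factorization_pow]
    simp
  have hgen : ∀ P : Sylow 3 Q, ∃ x, orderOf x = 3 ∧ (P : Subgroup Q) = zpowers x := by
    intro P
    obtain ⟨x, hx⟩ := exists_prime_orderOf_dvd_card' (G := (P : Subgroup Q)) 3 (by rw [hPc P])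
    refine ⟨x, by rw [Subgroup.orderOf_coe, hx], (eq_of_le_of_card_ge (zpowers_le.2 x.2) ?_).symm⟩
    rw [hPc P, Nat.card_zpowers, Subgroup.orderOf_coe, hx]
  have hC : ∀ P : Sylow 3 Q, Nat.card (centralizer ((P : Subgroup Q) : Set Q)) = 6 := by
    intro P
    obtain ⟨x, hx, e⟩ := hgen P
    rw [e, zpowers_eq_closure, centralizer_closure]
    exact h3 x hx
  have hn4 : Nat.card (Sylow 3 Q) = 4 := by
    obtain ⟨P⟩ : Nonempty (Sylow 3 Q) := inferInstance
    have h6 : 6 ∣ Nat.card (normalizer ((P : Subgroup Q) : Set Q)) :=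
      hC P ▸ card_dvd_of_le (centralizer_le_normalizer _)
    have hmul : Nat.card (Sylow 3 Q) * Nat.card (normalizer ((P : Subgroup Q) : Set Q)) = 48 := by
      rw [P.card_eq_index_normalizer, ← hQ]; exact index_mul_card _
    have hmod := card_sylow_modEq_one 3 Q
    obtain ⟨m, hm⟩ := h6
    rw [hm] at hmul
    have hd : Nat.card (Sylow 3 Q) ∣ 8 := ⟨m, by nlinarith⟩
    have hne : Nat.card (Sylow 3 Q) ≠ 1 := by
      intro e
      rw [P.card_eq_index_normalizer, index_eq_one] at e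
      haveI : (P : Subgroup Q).Normal := normalizer_eq_top_iff.1 e
      have hPc' := hPc P
      obtain ⟨x, hx, hPx⟩ := hgen P
      have hsub : (Set.range fun g : Q => g * x * g⁻¹) ⊆ ({x, x⁻¹} : Set Q) := by
        rintro _ ⟨g, rfl⟩
        have h1 : g * x * g⁻¹ ∈ zpowers x := hPx ▸ Normal.conj_mem inferInstance x (hPx ▸ mem_zpowers x) g
        obtain ⟨k, hk⟩ := (isOfFinOrder_of_finite x).mem_powers_iff_mem_zpowers.2 h1
        have hk' : x ^ k = g * x * g⁻¹ := hk
        show g * x * g⁻¹ = x ∨ g * x * g⁻¹ = x⁻¹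
        rcases (show k % 3 = 0 ∨ k % 3 = 1 ∨ k % 3 = 2 by omega) with e | e | e <;>
          rw [← pow_mod_orderOf, hx, e] at hk'
        · rw [pow_zero, eq_comm, conj_eq_one_iff] at hk'; rw [hk', orderOf_one] at hx; norm_num at hx
        · left; rw [← hk', pow_one]
        · right; rw [← hk']; refine eq_inv_of_mul_eq_one_left ?_
          rw [← pow_succ, show 2 + 1 = orderOf x from hx.symm, pow_orderOf_eq_one]
      have horb : MulAction.orbit (ConjAct Q) x ⊆ ({x, x⁻¹} : Set Q) := by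
        rintro _ ⟨g, rfl⟩; exact hsub ⟨ConjAct.ofConjAct g, rfl⟩
      have h1 := Set.ncard_le_ncard horb (Set.toFinite _)
      rw [← MulAction.index_stabilizer] at h1
      have h2' : Nat.card (MulAction.stabilizer (ConjAct Q) x) ≤ 6 := by
        rw [← h3 x hx]
        refine Nat.card_le_card_of_injective
          (fun g => (⟨ConjAct.ofConjAct g.1, mem_centralizer_singleton_iff.2 (mul_inv_eq_iff_eq_mul.1 g.2)⟩ :
            centralizer ({x} : Set Q))) fun a b e => by simpa using e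
      have h48 := (MulAction.stabilizer (ConjAct Q) x).index_mul_card
      rw [show Nat.card (ConjAct Q) = 48 from hQ] at h48
      have := h1.trans ((Set.ncard_insert_le _ _).trans (by rw [Set.ncard_singleton]))
      nlinarith
    have key : ∀ n < 9, n ∣ 8 → n % 3 = 1 % 3 → n ≠ 1 → n = 4 := by decide
    exact key _ (Nat.lt_succ_of_le (Nat.le_of_dvd (by norm_num) hd)) hd hmod hne
  have ε : Sylow 3 Q ≃ Fin 4 := (Finite.equivFinOfCardEq hn4)
  let ρ : Q →* Equiv.Perm (Fin 4) := (Equiv.permCongrHom ε).toMonoidHom.comp (MulAction.toPermHom Q (Sylow 3 Q))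
  have hker : ∀ k ∈ ρ.ker, ∀ P : Sylow 3 Q, k ∈ normalizer ((P : Subgroup Q) : Set Q) := by
    intro k hk P
    refine Sylow.smul_eq_iff_mem_normalizer.1 ?_
    have h1 : MulAction.toPermHom Q (Sylow 3 Q) k = 1 :=
      (Equiv.permCongrHom ε).injective ((MonoidHom.mem_ker.1 hk).trans (map_one _).symm)
    exact Equiv.ext_iff.1 h1 P
  obtain ⟨P₁, P₂, hP12⟩ : ∃ a b : Sylow 3 Q, a ≠ b := by
    haveI : Nontrivial (Sylow 3 Q) := Finite.one_lt_card_iff_nontrivial.1 (by rw [hn4]; norm_num)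
    exact exists_pair_ne _
  have hKle : Nat.card ρ.ker ≤ 2 := by
    have hK3 : ¬ 3 ∣ Nat.card ρ.ker := by
      intro hd
      obtain ⟨x, hx⟩ := exists_prime_orderOf_dvd_card' (G := ρ.ker) 3 hd
      rw [← Subgroup.orderOf_coe] at hx
      have hall : ∀ P : Sylow 3 Q, (P : Subgroup Q) = zpowers (x : Q) := by
        intro P
        have h1 := (IsPGroup.of_card (n := 1) (by rw [Nat.card_zpowers, hx, pow_one]) :
          IsPGroup 3 (zpowers (x : Q))).inf_normalizer_sylow P
        have h2 : zpowers (x : Q) ≤ (P : Subgroup Q) :=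
          ((le_inf le_rfl (zpowers_le.2 (hker _ x.2 P))).trans h1.le).trans inf_le_right
        exact (eq_of_le_of_card_ge h2 (by rw [hPc P, Nat.card_zpowers, hx])).symm
      exact hP12 (Sylow.ext ((hall P₁).trans (hall P₂).symm))
    have hle : ρ.ker ≤ centralizer ((P₁ : Subgroup Q) : Set Q) := by
      intro k hk
      refine mem_centralizer_iff.2 fun p hp => ?_
      set c := k * p * k⁻¹ * p⁻¹ with hc
      have hc1 : c ∈ ρ.ker := by
        rw [hc, show k * p * k⁻¹ * p⁻¹ = k * (p * k⁻¹ * p⁻¹) by group]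
        exact mul_mem hk (Normal.conj_mem inferInstance _ (inv_mem hk) p)
      have hc2 : c ∈ (P₁ : Subgroup Q) :=
        mul_mem ((mem_normalizer_iff.1 (hker k hk P₁) p).1 hp) (inv_mem hp)
      have ho3 : orderOf c ∣ 3 := hPc P₁ ▸ Subgroup.orderOf_dvd_natCard _ hc2
      rcases (Nat.dvd_prime Nat.prime_three).1 ho3 with e | e
      · exact (mul_inv_eq_iff_eq_mul.1 (mul_inv_eq_one.1 (orderOf_eq_one_iff.1 e))).symm
      · exact absurd (e ▸ Subgroup.orderOf_dvd_natCard _ hc1) hK3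
    have hd := card_dvd_of_le hle
    rw [hC P₁] at hd
    exact Nat.le_of_dvd (by norm_num) ((Nat.prime_three.coprime_iff_not_dvd.2 hK3).symm.dvd_of_dvd_mul_left
      (show Nat.card ρ.ker ∣ 3 * 2 from hd))
  have hzK : z ∈ ρ.ker := by
    refine MonoidHom.mem_ker.2 ?_
    have h1 : MulAction.toPermHom Q (Sylow 3 Q) z = 1 := Equiv.ext fun P =>
      Sylow.smul_eq_iff_mem_normalizer.2 ((centralizer_le_normalizer _)
        (mem_centralizer_iff.2 fun p _ => hzc p))
    show Equiv.permCongrHom ε (MulAction.toPermHom Q (Sylow 3 Q) z) = 1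
    rw [h1, map_one]
  have hK : ρ.ker = zpowers z :=
    (eq_of_le_of_card_ge (zpowers_le.2 hzK) (by rw [Nat.card_zpowers, hz]; exact hKle)).symm
  have hK2 : Nat.card ρ.ker = 2 := by rw [hK, Nat.card_zpowers, hz]
  have hsurj : ρ.range = ⊤ := by
    refine eq_top_of_le_card _ ?_
    have h1 := ρ.ker.index_mul_card
    rw [index_ker, hK2, hQ] at h1
    rw [Nat.card_perm, Nat.card_fin]
    show 24 ≤ _
    omega
  let R : Subgroup Q := vFour.comap ρ
  haveI hRn : R.Normal := ⟨fun r hr g => by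
    show ρ (g * r * g⁻¹) ∈ vFour
    rw [map_mul, map_mul, map_inv]
    exact vFour_norm _ hr _⟩
  have hV : Nat.card vFour = 4 := by
    refine Eq.trans ?_ (Nat.card_eq_fintype_card.trans vFour_card)
    exact Nat.card_congr (Equiv.subtypeEquivRight fun g => Iff.rfl)
  have hR8 : Nat.card R = 8 := by
    have h1 := R.index_mul_card
    have h2 := vFour.index_mul_card
    rw [index_comap_of_surjective _ (MonoidHom.range_eq_top.1 hsurj), hQ] at h1
    rw [hV, Nat.card_perm, Nat.card_fin] at h2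
    simp only [Nat.factorial] at h2
    nlinarith
  have htR : t ∉ R := by
    intro hwR
    have hsub : MulAction.orbit (ConjAct Q) t ⊆ (R : Set Q) := by
      rintro _ ⟨g, rfl⟩
      exact hRn.conj_mem t hwR (ConjAct.ofConjAct g)
    have h1 := Set.ncard_le_ncard hsub (Set.toFinite _)
    rw [← Nat.card_coe_set_eq (R : Set Q), show Nat.card ↥(R : Set Q) = Nat.card R from rfl, hR8,
      ← MulAction.index_stabilizer] at h1
    have h2' : Nat.card (MulAction.stabilizer (ConjAct Q) t) ≤ 4 := by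
      refine le_trans ?_ h2
      refine Nat.card_le_card_of_injective
        (fun g => (⟨ConjAct.ofConjAct g.1, mem_centralizer_singleton_iff.2 (mul_inv_eq_iff_eq_mul.1 g.2)⟩ :
          centralizer ({t} : Set Q))) fun a b e => by simpa using e
    have h48 := (MulAction.stabilizer (ConjAct Q) t).index_mul_card
    rw [show Nat.card (ConjAct Q) = 48 from hQ] at h48
    nlinarith
  have hkz : ∀ k ∈ ρ.ker, k = 1 ∨ k = z := by
    intro w hw
    rw [hK] at hw
    obtain ⟨k, hk⟩ := mem_zpowers_iff.1 hw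
    rw [← zpow_mod_orderOf, hz, show k % ((2 : ℕ) : ℤ) = k % 2 from rfl] at hk
    rcases Int.emod_two_eq_zero_or_one k with e | e <;> rw [e] at hk
    · exact Or.inl (by rw [← hk, zpow_zero])
    · exact Or.inr (by rw [← hk, zpow_one])
  have hzz : z * z = 1 := by rw [← pow_two, ← hz, pow_orderOf_eq_one]
  have hsq' : ∀ r ∈ R, ρ r ≠ 1 → r * r = 1 ∨ r * r = z := fun r hr h1 => hkz _ (MonoidHom.mem_ker.2 (by
    rw [map_mul]
    exact ((vFour_mem.1 hr).resolve_left h1).1))
  have hsame : ∀ r ∈ R, ρ r ≠ 1 → r * r = z → ∀ s ∈ R, ρ s ≠ 1 → s * s = z := by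
    intro r hr hr1 hrz s hs hs1
    obtain ⟨g', hg'⟩ := vFour_trans (ρ r) (ρ s) ((vFour_mem.1 hr).resolve_left hr1) ((vFour_mem.1 hs).resolve_left hs1)
    obtain ⟨g, rfl⟩ := MonoidHom.range_eq_top.1 hsurj g'
    have hk : s * (g * r * g⁻¹)⁻¹ ∈ ρ.ker := MonoidHom.mem_ker.2 (by
      rw [map_mul, map_inv, map_mul, map_mul, map_inv, hg', mul_inv_cancel])
    have hconj : g * r * g⁻¹ * (g * r * g⁻¹) = z := by
      rw [show g * r * g⁻¹ * (g * r * g⁻¹) = g * (r * r) * g⁻¹ by group, hrz, hzc g, mul_inv_cancel_right]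
    rcases hkz _ hk with e | e
    · rw [mul_inv_eq_one.1 e, hconj]
    · rw [mul_inv_eq_iff_eq_mul.1 e, show z * (g * r * g⁻¹) * (z * (g * r * g⁻¹)) =
        z * ((g * r * g⁻¹) * z) * (g * r * g⁻¹) by group, hzc, show z * (z * (g * r * g⁻¹)) * (g * r * g⁻¹) =
        (z * z) * (g * r * g⁻¹ * (g * r * g⁻¹)) by group, hzz, hconj, one_mul]
  have hsq : ∀ r ∈ R, ρ r ≠ 1 → r * r = z := by
    by_contra hcon
    push Not at hcon
    obtain ⟨r₀, hr₀, hr₀1, hr₀z⟩ := hcon
    have hexp : ∀ r ∈ R, r * r = 1 := by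
      intro r hr
      by_cases h1 : ρ r = 1
      · rcases hkz r (MonoidHom.mem_ker.2 h1) with e | e <;> rw [e]
        · rw [one_mul]
        · exact hzz
      · exact (hsq' r hr h1).resolve_right fun e => hr₀z (hsame r hr h1 e r₀ hr₀ hr₀1)
    have hab : ∀ a ∈ R, ∀ b ∈ R, a * b = b * a := fun a ha b hb => by
      have h1 := hexp _ (mul_mem ha hb)
      rw [eq_inv_of_mul_eq_one_left h1, mul_inv_rev, inv_eq_of_mul_eq_one_left (hexp a ha),
        inv_eq_of_mul_eq_one_left (hexp b hb)]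
    have htt : t * t = 1 := by rw [← pow_two, ← ht, pow_orderOf_eq_one]
    have hti : t⁻¹ = t := inv_eq_of_mul_eq_one_left htt
    have hconjR : ∀ r ∈ R, t * r * t ∈ R := fun r hr => by
      have := hRn.conj_mem r hr t
      rwa [hti] at this
    let φ : R →* R :=
      { toFun := fun r => ⟨t * r * t * r, mul_mem (hconjR r r.2) r.2⟩
        map_one' := Subtype.ext (by show t * 1 * t * 1 = 1; rw [mul_one, mul_one, htt])
        map_mul' := fun a b => Subtype.ext (by
          show t * (a * b : Q) * t * (a * b : Q) = t * a * t * a * (t * b * t * b)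
          calc t * ((a : Q) * b) * t * ((a : Q) * b) = t * a * ((t * t) * b * t * ((a : Q) * b)) := by
                rw [htt]; group
            _ = t * a * t * ((t * b * t) * a) * b := by group
            _ = t * a * t * (a * (t * b * t)) * b := by rw [hab _ (hconjR b b.2) _ a.2]
            _ = t * a * t * a * (t * b * t * b) := by group) }
    have hker : φ.ker.map R.subtype ≤ centralizer ({t} : Set Q) ⊓ R := by
      rintro _ ⟨r, hr, rfl⟩
      have h1 : t * (r : Q) * t * r = 1 := congrArg Subtype.val (MonoidHom.mem_ker.1 hr)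
      refine ⟨mem_centralizer_singleton_iff.2 ?_, r.2⟩
      have h2' : t * (r : Q) * t = r := by
        rw [eq_inv_of_mul_eq_one_left h1]
        exact inv_eq_of_mul_eq_one_left (hexp r r.2)
      calc (r : Q) * t = t * r * t * t := by rw [h2']
        _ = t * r := by rw [mul_assoc, htt, mul_one]
    have hker2 : Nat.card φ.ker ≤ 2 := by
      rw [Nat.card_congr (equivMapOfInjective φ.ker R.subtype (subtype_injective R)).toEquiv]
      refine (card_le_of_le hker).trans ?_
      have hlt : centralizer ({t} : Set Q) ⊓ R < centralizer ({t} : Set Q) := lt_of_le_of_ne inf_le_left fun e =>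
        htR (mem_inf.1 (e.symm.le (mem_centralizer_singleton_iff.2 rfl))).2
      have hd := card_dvd_of_le hlt.le
      have hne : Nat.card ↥(centralizer ({t} : Set Q) ⊓ R) ≠ Nat.card (centralizer ({t} : Set Q)) :=
        fun e => hlt.ne (eq_of_le_of_card_ge hlt.le e.ge)
      obtain ⟨m, hm⟩ := hd
      have hpos := Nat.card_pos (α := centralizer ({t} : Set Q))
      rcases m with _ | _ | m
      · omega
      · omega
      · nlinarith
    have hran : φ.range ≤ φ.ker := by
      rintro _ ⟨r, rfl⟩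
      refine MonoidHom.mem_ker.2 (Subtype.ext ?_)
      show t * (t * r * t * r : Q) * t * (t * r * t * r) = 1
      calc t * (t * (r : Q) * t * r) * t * (t * r * t * r)
          = (t * t) * r * (t * r * (t * t) * r * t) * r := by group
        _ = r * (t * (r * r) * t) * r := by rw [htt]; group
        _ = 1 := by rw [hexp r r.2, mul_one, htt, mul_one, hexp r r.2]
    have h8 := φ.ker.index_mul_card
    rw [index_ker, hR8] at h8
    have := card_le_of_le hran
    nlinarith
  have huniq : ∀ w ∈ R, w * w = 1 → w = 1 ∨ w = z := by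
    intro w hw hww
    by_cases h1 : ρ w = 1
    · exact hkz w (MonoidHom.mem_ker.2 h1)
    · rw [hsq w hw h1] at hww
      rw [hww, orderOf_one] at hz
      norm_num at hz
  have hna : ¬ IsMulCommutative R := by
    intro hcomm
    obtain ⟨a, b, ha, hb, hab⟩ := vFour_two
    obtain ⟨r, rfl⟩ := MonoidHom.range_eq_top.1 hsurj a
    obtain ⟨s, rfl⟩ := MonoidHom.range_eq_top.1 hsurj b
    have hr : r ∈ R := Or.inr ha
    have hs : s ∈ R := Or.inr hb
    have ha1 : ρ r ≠ 1 := fun e => ha.2 0 (by rw [e]; rfl)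
    have hb1 : ρ s ≠ 1 := fun e => hb.2 0 (by rw [e]; rfl)
    have hrs : r * s = s * r := congrArg Subtype.val (hcomm.is_comm.comm (⟨r, hr⟩ : R) ⟨s, hs⟩)
    have h1 : r * s * (r * s) = 1 := by
      rw [show r * s * (r * s) = r * (s * r) * s by group, ← hrs, show r * (r * s) * s = (r * r) * (s * s) by group,
        hsq r hr ha1, hsq s hs hb1, ← pow_two, ← hz, pow_orderOf_eq_one]
    have h2 : ρ r * ρ s = 1 := by
      rcases huniq _ (mul_mem hr hs) h1 with e | e
      · rw [← map_mul, e, map_one]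
      · rw [← map_mul, e]; exact MonoidHom.mem_ker.1 hzK
    refine hab ?_
    rw [eq_inv_of_mul_eq_one_left h2]
    exact inv_eq_of_mul_eq_one_left hb.1
  obtain ⟨e⟩ : Nonempty (R ≃* QuaternionGroup 2) := by
    refine (CfsgLib.Fusion.MetaTwo.dihedral_or_quaternion_eight hR8 hna).resolve_left ?_
    rintro ⟨e⟩
    obtain ⟨h0, h1, h0', h1', hne⟩ := dihedral_two_invol
    have key : ∀ d : DihedralGroup 4, d * d = 1 → d ≠ 1 → ((e.symm d : R) : Q) = z := fun d hd hd1 => by
      refine (huniq _ (e.symm d).2 ?_).resolve_left fun e' => hd1 ?_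
      · rw [← Subgroup.coe_mul, ← map_mul, hd, map_one, Subgroup.coe_one]
      · have : e.symm d = 1 := Subtype.ext e'
        exact e.symm.map_eq_one_iff.1 this
    exact hne (e.symm.injective (Subtype.ext ((key _ h0 h0').trans (key _ h1 h1').symm)))
  have hself : centralizer (R : Set Q) ≤ R := by
    intro w hw
    refine vFour_self _ fun v hv => ?_
    obtain ⟨r, rfl⟩ := MonoidHom.range_eq_top.1 hsurj v
    rw [← map_mul, ← map_mul, mem_centralizer_iff.1 hw r hv]
  have hO : Cfsg.pCore 2 Q ≤ R := by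
    refine sSup_le fun N hN => ?_
    obtain ⟨hNn, hN2⟩ := hN
    intro w hw
    refine (vFour_core (ρ w)).resolve_right ?_
    rintro ⟨g', h1, h3'⟩
    obtain ⟨g, rfl⟩ := MonoidHom.range_eq_top.1 hsurj g'
    have hm : w * (g * w * g⁻¹) ∈ N := N.mul_mem hw (hNn.conj_mem w hw g)
    obtain ⟨k, hk⟩ := hN2 ⟨_, hm⟩
    have hk' : (w * (g * w * g⁻¹)) ^ 2 ^ k = 1 := congrArg Subtype.val hk
    rw [← map_inv, ← map_mul, ← map_mul, ← map_mul] at h1
    have hd : orderOf (ρ (w * (g * w * g⁻¹))) ∣ 1 := by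
      rw [← Nat.Coprime.gcd_eq_one (Nat.Coprime.pow_left k (by norm_num : Nat.Coprime 2 3))]
      refine Nat.dvd_gcd (orderOf_dvd_iff_pow_eq_one.2 (by rw [← map_pow, hk', map_one])) ?_
      refine orderOf_dvd_iff_pow_eq_one.2 ?_
      rw [pow_succ, pow_two, map_mul, map_mul, map_mul, map_inv]
      exact h3'
    exact h1 (orderOf_eq_one_iff.1 (Nat.dvd_one.1 hd))
  obtain ⟨F⟩ := CfsgLib.GLTwoThree.nonempty_frame R e hself hQ hO ht htR
  obtain ⟨F'⟩ := CfsgLib.GLTwoThree.nonempty_frame_gl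
  exact CfsgLib.GLTwoThree.nonempty_equiv F F'

end CfsgLib.Char.LThreeThree
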