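import Cfsg.Agent.Lib.Char.GLThreeCent.Local

/-!
# Groups of order 5616 with an involution centraliser `GL(2,3)`: the three-local subgroups
-/

set_option autoImplicit false
set_option linter.all false

open Subgroup

namespace CfsgLib.Char.LThreeThree

open CfsgLib.Char.GLThreeCent

/-- An element of order three. -/
def xI : Fin 48 := ⟨codes.idxOf 31, by decide +kernel⟩

/-- An involution inverting it. -/
def sI : Fin 48 := ⟨codes.idxOf 29, by decide +kernel⟩

theorem xI_facts : powI xI 3 = oneI ∧ xI ≠ oneI ∧ isInv sI ∧ sI ≠ tI ∧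
    mulI (mulI sI xI) sI = invI xI := by decide +kernel

theorem order_three_conj : ∀ i : Fin 48, powI i 3 = oneI → i ≠ oneI →
    ∃ j : Fin 48, mulI (mulI j i) (invI j) = xI := by decide +kernel

theorem commuting_xI : ∀ i : Fin 48, mulI i xI = mulI xI i →
    (powI i 4 = oneI → i = oneI ∨ i = tI) ∧ (powI i 3 = oneI → i = oneI ∨ i = xI ∨ i = invI xI) := by
  decide +kernel

/-- The hypotheses. -/
structure Hyp {G : Type*} [Group G] (t : G) (el : Fin 48 → G) : Prop where
  emb : Emb t el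
  card : Nat.card G = 5616
  simple : IsSimpleGroup G
  no2 : ∀ H : Subgroup G, H.index ≠ 2

variable {G : Type*} [Group G] [Finite G] {t : G} {el : Fin 48 → G}

theorem Hyp.invol_conj (h : Hyp t el) {u : G} (hu : orderOf u = 2) : ∃ g : G, g * u * g⁻¹ = t := by
  obtain ⟨g, hg⟩ := isConj_iff.1 (h.emb.isConj_invol h.no2 u (CfsgLib.Invol.invol_mul_self hu)
    (CfsgLib.Invol.invol_ne_one hu)).symm
  exact ⟨g, hg⟩

theorem card_centralizer_conj (g y : G) :
    Nat.card (centralizer ({g * y * g⁻¹} : Set G)) = Nat.card (centralizer ({y} : Set G)) := by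
  rw [show centralizer ({g * y * g⁻¹} : Set G) =
      (centralizer ({y} : Set G)).map (MulAut.conj g).toMonoidHom from by
    ext c
    rw [Subgroup.mem_map_equiv, MulAut.conj_symm_apply, mem_centralizer_singleton_iff,
      mem_centralizer_singleton_iff]
    constructor <;> intro h
    · calc g⁻¹ * c * g * y = g⁻¹ * (c * (g * y * g⁻¹)) * g := by group
        _ = g⁻¹ * (g * y * g⁻¹ * c) * g := by rw [h]
        _ = y * (g⁻¹ * c * g) := by group
    · calc c * (g * y * g⁻¹) = g * (g⁻¹ * c * g * y) * g⁻¹ := by group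
        _ = g * (y * (g⁻¹ * c * g)) * g⁻¹ := by rw [h]
        _ = g * y * g⁻¹ * c := by group]
  exact Nat.card_congr ((centralizer ({y} : Set G)).equivMapOfInjective _ (MulAut.conj g).injective).toEquiv.symm

theorem Hyp.card_invol (h : Hyp t el) {u : G} (hu : orderOf u = 2) :
    Nat.card (centralizer ({u} : Set G)) = 48 := by
  obtain ⟨g, hg⟩ := h.invol_conj hu
  rw [← h.emb.card_centralizer, ← hg, card_centralizer_conj]

theorem mulI_el (h : Hyp t el) (i : Fin 48) : el i * t = t * el i := h.emb.commute_t i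

theorem Hyp.x_order (h : Hyp t el) : orderOf (el xI) = 3 := by
  haveI : Fact (Nat.Prime 3) := ⟨Nat.prime_three⟩
  exact orderOf_eq_prime (by rw [← h.emb.pow, xI_facts.1, h.emb.one])
    (fun e => xI_facts.2.1 (h.emb.eq_one_iff.1 e))

theorem Hyp.t_order (h : Hyp t el) : orderOf t = 2 :=
  orderOf_eq_prime (by rw [pow_two]; exact h.emb.t_invol.1) h.emb.t_invol.2

theorem Hyp.s_facts (h : Hyp t el) : orderOf (el sI) = 2 ∧ el sI * el xI * el sI = (el xI)⁻¹ ∧
    orderOf (el sI * t) = 2 ∧ el sI ≠ t := by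
  obtain ⟨-, -, hs, hst, hinv⟩ := xI_facts
  obtain ⟨hs1, hs2⟩ := h.emb.isInv_iff.2 hs
  refine ⟨orderOf_eq_prime (by rw [pow_two]; exact hs1) hs2, by rw [← h.emb.mul, ← h.emb.mul, hinv, h.emb.inv], ?_, ?_⟩
  · refine orderOf_eq_prime ?_ fun e => hst (h.emb.inj ?_)
    · rw [pow_two, show el sI * t * (el sI * t) = el sI * (t * el sI) * t by group, ← mulI_el h,
        show el sI * (el sI * t) * t = (el sI * el sI) * (t * t) by group, hs1, h.emb.t_invol.1, one_mul]
    · rw [h.emb.map_t, eq_inv_of_mul_eq_one_left e, inv_eq_of_mul_eq_one_left h.emb.t_invol.1]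
  · exact fun e => hst (h.emb.inj (e.trans h.emb.map_t.symm))

theorem Hyp.order_three_conj' (h : Hyp t el) {y : G} (hy : orderOf y = 3) (hc : Commute y t) :
    ∃ g : G, g * y * g⁻¹ = el xI := by
  obtain ⟨i, rfl⟩ := (h.emb.mem y).1 (mem_centralizer_singleton_iff.2 hc.eq)
  obtain ⟨j, hj⟩ := order_three_conj i
    (h.emb.inj (by rw [h.emb.pow, h.emb.one, ← hy, pow_orderOf_eq_one]))
    (fun e => by rw [e, h.emb.one, orderOf_one] at hy; norm_num at hy)
  exact ⟨el j, by rw [← h.emb.inv, ← h.emb.mul, ← h.emb.mul, hj]⟩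

theorem Hyp.card_eq_of_invol (h : Hyp t el) {y u : G} (hy : orderOf y = 3) (hu : orderOf u = 2)
    (hc : Commute y u) :
    Nat.card (centralizer ({y} : Set G)) = Nat.card (centralizer ({el xI} : Set G)) ∧
      ∃ g : G, g * y * g⁻¹ = el xI := by
  obtain ⟨g, hg⟩ := h.invol_conj hu
  have hy' : orderOf (g * y * g⁻¹) = 3 :=
    (orderOf_injective (MulAut.conj g).toMonoidHom (MulAut.conj g).injective y).trans hy
  have hc' : Commute (g * y * g⁻¹) t := by
    rw [← hg]
    exact hc.map (MulAut.conj g).toMonoidHom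
  obtain ⟨k, hk⟩ := h.order_three_conj' hy' hc'
  refine ⟨by rw [← hk, card_centralizer_conj, card_centralizer_conj], k * g, ?_⟩
  rw [← hk]; group

theorem Hyp.no_thirteen (h : Hyp t el) {y : G} (hy : orderOf y = 13) :
    Nat.card (centralizer ({y} : Set G)) = 13 := by
  classical
  haveI : Fact (Nat.Prime 13) := ⟨by norm_num⟩
  haveI : Fact (Nat.Prime 2) := ⟨Nat.prime_two⟩
  haveI := h.simple
  have hv : (5616 : ℕ).factorization 13 = 1 := by
    rw [show (5616 : ℕ) = 13 ^ 1 * 432 by norm_num, Nat.factorization_mul (by norm_num) (by norm_num),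
      (Fact.out : Nat.Prime 13).factorization_pow]
    simp [Nat.factorization_eq_zero_of_not_dvd (show ¬ 13 ∣ 432 by norm_num)]
  obtain ⟨S, hS⟩ := (IsPGroup.of_card (n := 1) (by rw [Nat.card_zpowers, hy, pow_one]) :
    IsPGroup 13 (zpowers y)).exists_le_sylow
  have hScard : Nat.card (S : Subgroup G) = 13 := by rw [S.card_eq_multiplicity, h.card, hv, pow_one]
  have hSeq : (S : Subgroup G) = zpowers y :=
    (eq_of_le_of_card_ge hS (by rw [Nat.card_zpowers, hy, hScard])).symm
  have hC : centralizer ({y} : Set G) = centralizer ((S : Subgroup G) : Set G) := by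
    rw [hSeq, zpowers_eq_closure, centralizer_closure]
  set n := Nat.card (Sylow 13 G) with hn
  have hmod : n % 13 = 1 := card_sylow_modEq_one 13 G
  have hidx : n * Nat.card (normalizer ((S : Subgroup G) : Set G)) = 5616 := by
    rw [hn, S.card_eq_index_normalizer, ← h.card]
    exact index_mul_card _
  have hnd : n ∣ 432 := by
    have h1 : (S : Subgroup G).index * 13 = 5616 := by
      conv_lhs => arg 2; rw [← hScard]
      rw [index_mul_card, h.card]
    have h2 := S.card_dvd_index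
    rw [show (S : Subgroup G).index = 432 by omega] at h2
    exact h2
  have hn144 : n = 144 := by
    have hmem : n ∈ Nat.divisors 432 := Nat.mem_divisors.2 ⟨hnd, by norm_num⟩
    rw [show Nat.divisors 432 = {1, 2, 3, 4, 6, 8, 9, 12, 16, 18, 24, 27, 36, 48, 54, 72, 108, 144, 216, 432}
      from by decide +kernel] at hmem
    simp only [Finset.mem_insert, Finset.mem_singleton] at hmem
    have h3 : n = 1 ∨ n = 27 ∨ n = 144 := by omega
    rcases h3 with h1 | h27 | h144
    · exfalso
      rw [hn, S.card_eq_index_normalizer, index_eq_one] at h1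
      rcases (normalizer_eq_top_iff.1 h1).eq_bot_or_eq_top with e | e
      · rw [e, card_bot] at hScard; norm_num at hScard
      · rw [e, card_top, h.card] at hScard; norm_num at hScard
    · exfalso
      set N := normalizer ((S : Subgroup G) : Set G) with hN
      rw [h27] at hidx
      have hN208 : Nat.card N = 208 := by omega
      let U : Sylow 2 N := default
      have hU : Nat.card (U : Subgroup N) = 16 := by
        rw [U.card_eq_multiplicity, hN208, show (208 : ℕ) = 2 ^ 4 * 13 by norm_num,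
          Nat.factorization_mul (by norm_num) (by norm_num), Nat.prime_two.factorization_pow]
        simp [Nat.factorization_eq_zero_of_not_dvd (show ¬ 2 ∣ 13 by norm_num)]
      have hres : ∀ u : U, ∃ k : Fin 13, ((u : N) : G) * y * ((u : N) : G)⁻¹ = y ^ k.val ∧ k ≠ 0 := by
        intro u
        have h1 : ((u : N) : G) * y * ((u : N) : G)⁻¹ ∈ zpowers y := by
          rw [← hSeq]; exact (mem_normalizer_iff.1 (u : N).2 y).1 (hSeq ▸ mem_zpowers y)
        obtain ⟨k, hk⟩ := (isOfFinOrder_of_finite y).mem_powers_iff_mem_zpowers.2 h1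
        have hk' : y ^ k = ((u : N) : G) * y * ((u : N) : G)⁻¹ := hk
        refine ⟨⟨k % 13, Nat.mod_lt _ (by norm_num)⟩, ?_, fun e => ?_⟩
        · rw [← hk', ← pow_mod_orderOf y k, hy]
        · have e' : k % 13 = 0 := congrArg Fin.val e
          rw [← pow_mod_orderOf y k, hy, e', pow_zero, eq_comm, conj_eq_one_iff] at hk'
          rw [hk', orderOf_one] at hy; norm_num at hy
      choose f hf hf0 using hres
      obtain ⟨u, v, huv, he⟩ : ∃ u v : U, u ≠ v ∧ f u = f v := by
        by_contra hcon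
        push Not at hcon
        have := Nat.card_le_card_of_injective (fun u : U => (⟨f u, hf0 u⟩ : {k : Fin 13 // k ≠ 0}))
          (fun u v e => by by_contra hne; exact hcon u v hne (congrArg Subtype.val e))
        replace this : Nat.card (U : Subgroup N) ≤ Nat.card {k : Fin 13 // k ≠ 0} := this
        rw [hU, Nat.card_eq_fintype_card, show Fintype.card {k : Fin 13 // k ≠ 0} = 12 by decide] at this
        omega
      set w := (v⁻¹ * u : U) with hw
      have hw1 : w ≠ 1 := fun e => huv (inv_mul_eq_one.1 e).symm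
      have hwc : Commute ((w : N) : G) y := by
        have e1 := hf u
        rw [he, ← hf v] at e1
        show ((v : N) : G)⁻¹ * ((u : N) : G) * y = y * (((v : N) : G)⁻¹ * ((u : N) : G))
        calc ((v : N) : G)⁻¹ * ((u : N) : G) * y
            = ((v : N) : G)⁻¹ * (((u : N) : G) * y * ((u : N) : G)⁻¹) * ((u : N) : G) := by group
          _ = y * (((v : N) : G)⁻¹ * ((u : N) : G)) := by rw [e1]; group
      obtain ⟨k, hk⟩ := IsPGroup.iff_orderOf.1 U.2 w
      rcases k with _ | k
      · exact hw1 (orderOf_eq_one_iff.1 (by rw [hk, pow_zero]))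
      have hwo : orderOf ((w : N) : G) = 2 ^ (k + 1) := by
        rw [Subgroup.orderOf_coe, Subgroup.orderOf_coe, hk]
      have hinv : orderOf (((w : N) : G) ^ 2 ^ k) = 2 := by
        rw [orderOf_pow' _ (by positivity), hwo, Nat.gcd_eq_right (pow_dvd_pow 2 (by omega)),
          Nat.pow_div (by omega) (by norm_num)]
        norm_num
      have h13 : 13 ∣ Nat.card (centralizer ({((w : N) : G) ^ 2 ^ k} : Set G)) := by
        rw [← hy, ← Nat.card_zpowers]
        exact card_dvd_of_le (zpowers_le.2 (mem_centralizer_singleton_iff.2 (hwc.pow_left _).symm.eq))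
      rw [h.card_invol hinv] at h13
      norm_num at h13
    · exact h144
  rw [hn144] at hidx
  have hN39 : Nat.card (normalizer ((S : Subgroup G) : Set G)) = 39 := by omega
  have hle : centralizer ((S : Subgroup G) : Set G) ≤ normalizer ((S : Subgroup G) : Set G) :=
    centralizer_le_normalizer _
  have hd := card_dvd_of_le hle
  rw [hN39] at hd
  have h13 : 13 ∣ Nat.card (centralizer ((S : Subgroup G) : Set G)) := by
    rw [← hC, ← hy, ← Nat.card_zpowers]
    exact card_dvd_of_le (zpowers_le.2 (mem_centralizer_singleton_iff.2 rfl))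
  rw [hC]
  obtain ⟨m, hm⟩ := h13
  rw [hm] at hd ⊢
  have hm3 : m ∣ 3 := (Nat.mul_dvd_mul_iff_left (by norm_num : 0 < 13)).1 hd
  rcases (Nat.dvd_prime Nat.prime_three).1 hm3 with rfl | rfl
  · norm_num
  exfalso
  have heq : normalizer ((S : Subgroup G) : Set G) ≤ centralizer ((S : Subgroup G) : Set G) :=
    (eq_of_le_of_card_ge hle (by rw [hN39, hm])).ge
  have hcomp := MonoidHom.ker_transferSylow_isComplement' S heq
  rcases (inferInstance : (MonoidHom.transferSylow S heq).ker.Normal).eq_bot_or_eq_top with e | e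
  · have := hcomp.card_mul
    rw [e, card_bot, one_mul, hScard, h.card] at this
    norm_num at this
  · have := hcomp.card_mul
    rw [e, card_top, hScard, h.card] at this
    norm_num at this

theorem Hyp.not_thirteen (h : Hyp t el) {y : G} {r : ℕ} (hr : r.Prime) (hr13 : r ≠ 13) (hy : orderOf y = r) :
    ¬ 13 ∣ Nat.card (centralizer ({y} : Set G)) := by
  haveI : Fact (Nat.Prime 13) := ⟨by norm_num⟩
  intro hd
  obtain ⟨w, hw⟩ := exists_prime_orderOf_dvd_card' (G := centralizer ({y} : Set G)) 13 hd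
  have hw' : orderOf (w : G) = 13 := by rw [Subgroup.orderOf_coe, hw]
  have hyd : r ∣ Nat.card (centralizer ({(w : G)} : Set G)) := by
    rw [← hy, ← Nat.card_zpowers]
    exact card_dvd_of_le (zpowers_le.2 (mem_centralizer_singleton_iff.2
      (mem_centralizer_singleton_iff.1 w.2).symm))
  rw [h.no_thirteen hw'] at hyd
  exact hr13 ((Nat.prime_dvd_prime_iff_eq hr (by norm_num)).1 hyd)

theorem Hyp.card_sylow_three (h : Hyp t el) (P : Sylow 3 G) : Nat.card (P : Subgroup G) = 27 := by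
  haveI : Fact (Nat.Prime 3) := ⟨Nat.prime_three⟩
  rw [P.card_eq_multiplicity, h.card, show (5616 : ℕ) = 3 ^ 3 * 208 by norm_num,
    Nat.factorization_mul (by norm_num) (by norm_num), Nat.prime_three.factorization_pow]
  simp [Nat.factorization_eq_zero_of_not_dvd (show ¬ 3 ∣ 208 by norm_num)]

/-- The order of the centraliser of an element of order three. -/
theorem Hyp.centralizer_cases (h : Hyp t el) {y : G} (hy : orderOf y = 3) :
    (∃ u, orderOf u = 2 ∧ Commute y u) ∨ Nat.card (centralizer ({y} : Set G)) ∣ 27 := by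
  haveI : Fact (Nat.Prime 2) := ⟨Nat.prime_two⟩
  by_cases h2 : 2 ∣ Nat.card (centralizer ({y} : Set G))
  · left
    obtain ⟨u, hu⟩ := exists_prime_orderOf_dvd_card' (G := centralizer ({y} : Set G)) 2 h2
    exact ⟨u, by rw [Subgroup.orderOf_coe, hu],
      (show Commute y (u : G) from (mem_centralizer_singleton_iff.1 u.2).symm)⟩
  · right
    have h13 := h.not_thirteen Nat.prime_three (by norm_num) hy
    have hd : Nat.card (centralizer ({y} : Set G)) ∣ 27 * (2 ^ 4 * 13) := by
      refine (card_subgroup_dvd_card _).trans ?_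
      rw [h.card]; norm_num
    refine (Nat.Coprime.dvd_of_dvd_mul_right ?_ hd)
    exact Nat.Coprime.mul_right ((Nat.prime_two.coprime_iff_not_dvd.2 h2).symm.pow_right 4)
      (((by norm_num : Nat.Prime 13).coprime_iff_not_dvd.2 h13).symm)

/-- Shifting along the centre in a group of order 27. -/
theorem shift {P : Subgroup G} (hP : Nat.card P = 27) {z y : G} (hz : orderOf z = 3)
    (hy : y ∈ P) (hy3 : y ^ 3 = 1) (hzP : z ∈ P) (hzc : ∀ p ∈ P, p * z = z * p)
    (hync : ∃ p ∈ P, p * y ≠ y * p) (a a' b : Fin 3) (hb : b ≠ 0) :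
    ∃ u ∈ P, u * (z ^ a.val * y ^ b.val) * u⁻¹ = z ^ a'.val * y ^ b.val := by
  classical
  haveI : Fact (Nat.Prime 3) := ⟨Nat.prime_three⟩
  obtain ⟨p, hpP, hpy⟩ := hync
  let Z : Subgroup P := zpowers ⟨z, hzP⟩
  haveI hZn : Z.Normal := ⟨fun w hw g => by
    obtain ⟨k, rfl⟩ := mem_zpowers_iff.1 hw
    have : Commute g (⟨z, hzP⟩ : P) := Subtype.ext (hzc g g.2)
    rw [(this.zpow_right k).eq, mul_inv_cancel_right]
    exact hw⟩
  have hq : Nat.card (P ⧸ Z) = 3 ^ 2 := by
    have h1 := Z.card_eq_card_quotient_mul_card_subgroup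
    rw [hP, show Nat.card Z = 3 from (Nat.card_zpowers _).trans (by rw [Subgroup.orderOf_mk, hz])] at h1
    omega
  have hab : ∀ c d : P ⧸ Z, c * d = d * c := fun c d =>
    (IsPGroup.isMulCommutative_of_card_eq_prime_sq hq).is_comm.comm c d
  have hcomm : (⟨p, hpP⟩ * ⟨y, hy⟩ * (⟨p, hpP⟩ : P)⁻¹ * (⟨y, hy⟩ : P)⁻¹ : P) ∈ Z := by
    rw [← QuotientGroup.eq_one_iff]
    simp only [QuotientGroup.mk_mul, QuotientGroup.mk_inv]
    rw [hab ((⟨p, hpP⟩ : P) : P ⧸ Z) ((⟨y, hy⟩ : P) : P ⧸ Z)]
    group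
  obtain ⟨k, hk⟩ := (isOfFinOrder_of_finite (⟨z, hzP⟩ : P)).mem_powers_iff_mem_zpowers.2 hcomm
  have hk' : z ^ k = p * y * p⁻¹ * y⁻¹ := congrArg Subtype.val hk
  have hk3 : ¬ 3 ∣ k := fun hd => by
    rw [orderOf_dvd_iff_pow_eq_one.1 (hz.symm ▸ hd), eq_comm, mul_inv_eq_one, mul_inv_eq_iff_eq_mul] at hk'
    exact hpy hk'
  have hconj : p * y * p⁻¹ = z ^ k * y := by rw [hk']; group
  have hzy : Commute z y := (hzc y hy).symm
  have hpow : ∀ j : ℕ, p ^ j * y * (p ^ j)⁻¹ = z ^ (k * j) * y := by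
    intro j
    induction j with
    | zero => simp
    | succ j ih =>
      rw [pow_succ' p, mul_inv_rev, show p * p ^ j * y * ((p ^ j)⁻¹ * p⁻¹) = p * (p ^ j * y * (p ^ j)⁻¹) * p⁻¹ by
        group, ih, show p * (z ^ (k * j) * y) * p⁻¹ = (p * z ^ (k * j)) * y * p⁻¹ by group,
        ((show Commute p z from hzc p hpP).pow_right _).eq,
        show z ^ (k * j) * p * y * p⁻¹ = z ^ (k * j) * (p * y * p⁻¹) by group, hconj, ← mul_assoc, ← pow_add, mul_add_one]
  obtain ⟨j, hj⟩ : ∃ j : ℕ, (a.val + k * j * b.val) % 3 = a'.val := by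
    have key : ∀ (A A' B : Fin 3) (K : Fin 3), B ≠ 0 → K ≠ 0 →
        ∃ J : Fin 3, (A.val + K.val * J.val * B.val) % 3 = A'.val := by decide
    obtain ⟨J, hJ⟩ := key a a' b ⟨k % 3, Nat.mod_lt _ (by norm_num)⟩ hb
      (fun e => hk3 (Nat.dvd_of_mod_eq_zero (congrArg Fin.val e)))
    refine ⟨J.val, ?_⟩
    rw [← hJ]
    simp [Nat.add_mod, Nat.mul_mod]
  refine ⟨p ^ j, P.pow_mem hpP j, ?_⟩
  have hzp : Commute (p ^ j) (z ^ a.val) := ((show Commute p z from hzc p hpP).pow_pow _ _)
  rw [show p ^ j * (z ^ a.val * y ^ b.val) * (p ^ j)⁻¹ = (p ^ j * z ^ a.val) * y ^ b.val * (p ^ j)⁻¹ by group,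
    hzp.eq, show z ^ a.val * p ^ j * y ^ b.val * (p ^ j)⁻¹ = z ^ a.val * (p ^ j * y ^ b.val * (p ^ j)⁻¹) by group,
    ← conj_pow, hpow, (hzy.pow_left _).mul_pow, ← pow_mul, ← mul_assoc, ← pow_add, ← pow_mod_orderOf z, hz, hj]

theorem span_nine {P : Subgroup G} {z y : G} (hz : orderOf z = 3) (hy : orderOf y = 3) (hzy : Commute z y)
    (hne : y ∉ zpowers z) (hPc : Nat.card P = 9) (hzP : z ∈ P) (hyP : y ∈ P) :
    ∀ e ∈ P, ∃ a b : Fin 3, e = z ^ a.val * y ^ b.val := by
  classical
  let f : Fin 3 × Fin 3 → P := fun v => ⟨z ^ v.1.val * y ^ v.2.val, P.mul_mem (P.pow_mem hzP _) (P.pow_mem hyP _)⟩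
  have hinj : Function.Injective f := by
    rintro ⟨a, b⟩ ⟨c, d⟩ e
    have e' : z ^ a.val * y ^ b.val = z ^ c.val * y ^ d.val := congrArg Subtype.val e
    have hbd : b = d := by
      by_contra hne'
      obtain ⟨n, hn⟩ : ∃ n : ℕ, (b.val + n) % 3 = d.val % 3 ∧ ¬ 3 ∣ n := ⟨(d.val + 3 - b.val) % 3, by omega,
        fun h => hne' (Fin.ext (by omega))⟩
      have hyn : y ^ n ∈ zpowers z := by
        have h1 : y ^ (b.val + n) = y ^ d.val := pow_eq_pow_iff_modEq.2 (by rw [hy]; exact hn.1)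
        rw [← h1, pow_add] at e'
        have e'' : y ^ n = (z ^ c.val)⁻¹ * z ^ a.val := by
          rw [eq_inv_mul_iff_mul_eq]
          have : z ^ c.val * (y ^ b.val * y ^ n) = z ^ c.val * y ^ n * y ^ b.val := by
            rw [(Commute.pow_pow (Commute.refl y) b.val n).eq]; group
          rw [this] at e'
          exact (mul_right_cancel e').symm
        rw [e'']
        exact mul_mem (inv_mem (pow_mem (mem_zpowers z) _)) (pow_mem (mem_zpowers z) _)
      refine hne ?_
      obtain ⟨i, hi⟩ : ∃ i : ℕ, n * i % 3 = 1 := by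
        rcases (show n % 3 = 1 ∨ n % 3 = 2 by omega) with h | h
        · exact ⟨1, by omega⟩
        · exact ⟨2, by omega⟩
      have : (y ^ n) ^ i = y := by
        rw [← pow_mul, ← pow_mod_orderOf, hy, hi, pow_one]
      exact this ▸ pow_mem hyn i
    subst hbd
    rw [mul_left_inj, pow_eq_pow_iff_modEq, hz, Nat.ModEq] at e'
    exact Prod.ext (Fin.ext (show a.val = c.val by have := a.isLt; have := c.isLt; omega)) rfl
  obtain ⟨-, hs⟩ := (Nat.bijective_iff_injective_and_card f).2 ⟨hinj, by simp [hPc]⟩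
  intro e he
  obtain ⟨⟨a, b⟩, hab⟩ := hs ⟨e, he⟩
  exact ⟨a, b, (congrArg Subtype.val hab).symm⟩

theorem Hyp.card_centralizer_two (h : Hyp t el) :
    ∃ m, Nat.card (centralizer ({el xI} : Set G)) = 2 * 3 ^ m ∧ 1 ≤ m ∧ m ≤ 3 := by
  classical
  haveI : Fact (Nat.Prime 2) := ⟨Nat.prime_two⟩
  haveI : Fact (Nat.Prime 3) := ⟨Nat.prime_three⟩
  set C := centralizer ({el xI} : Set G) with hC
  have htC : t ∈ C := mem_centralizer_singleton_iff.2 (mulI_el h xI).symm
  have h13 := h.not_thirteen Nat.prime_three (by norm_num) h.x_order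
  have hd : Nat.card C ∣ 2 ^ 4 * 3 ^ 3 * 13 := by
    refine (card_subgroup_dvd_card _).trans ?_
    rw [h.card]; norm_num
  have hd' : Nat.card C ∣ 2 ^ 4 * 3 ^ 3 :=
    ((by norm_num : Nat.Prime 13).coprime_iff_not_dvd.2 h13).symm.dvd_of_dvd_mul_right hd
  have hT : Subgroup.zpowers (⟨t, htC⟩ : C) ≤ Subgroup.zpowers (⟨t, htC⟩ : C) := le_rfl
  obtain ⟨T, hT⟩ := (IsPGroup.of_card (n := 1) (by rw [Nat.card_zpowers, Subgroup.orderOf_mk, h.t_order, pow_one]) :
    IsPGroup 2 (zpowers (⟨t, htC⟩ : C))).exists_le_sylow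
  have htT : (⟨t, htC⟩ : C) ∈ (T : Subgroup C) := hT (mem_zpowers _)
  have hsmall : ∀ u ∈ (T : Subgroup C), Commute (u : G) t → u = 1 ∨ (u : G) = t := by
    intro u hu hc
    obtain ⟨i, hi⟩ := (h.emb.mem (u : G)).1 (mem_centralizer_singleton_iff.2 hc.eq)
    obtain ⟨k, hk⟩ := IsPGroup.iff_orderOf.1 T.2 ⟨u, hu⟩
    rw [Subgroup.orderOf_mk] at hk
    have hcx : mulI i xI = mulI xI i := h.emb.inj (by
      rw [h.emb.mul, h.emb.mul, hi]
      exact mem_centralizer_singleton_iff.1 u.2)
    have hk4 : orderOf (u : G) ∣ 4 := by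
      have h48 : orderOf (u : G) ∣ 48 := by
        rw [← h.emb.card_centralizer, ← Nat.card_zpowers]
        exact card_dvd_of_le (zpowers_le.2 (mem_centralizer_singleton_iff.2 hc.eq))
      have h16 : orderOf (u : G) ∣ 16 := by
        rw [Subgroup.orderOf_coe, hk] at h48 ⊢
        exact (Nat.Coprime.pow_left k (by norm_num : Nat.Coprime 2 3)).dvd_of_dvd_mul_right
          (show 2 ^ k ∣ 16 * 3 by norm_num; exact h48)
      by_contra hn4
      -- an element of order at least eight in the centraliser would commute with `x`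
      have h8 : 8 ∣ orderOf (u : G) := by
        obtain ⟨j, hj, hjo⟩ := (Nat.dvd_prime_pow Nat.prime_two).1 (show orderOf (u : G) ∣ 2 ^ 4 from h16)
        rw [hjo] at hn4 ⊢
        refine pow_dvd_pow 2 (m := 3) ?_
        by_contra hj3
        exact hn4 ((pow_dvd_pow 2 (show j ≤ 2 by omega)))
      set v := (u : G) ^ (orderOf (u : G) / 4) with hv
      have hvo : orderOf v = 4 := by
        rw [hv, orderOf_pow' _ (by obtain ⟨c, hc'⟩ := h8; have := orderOf_pos (u : G); omega),
          Nat.gcd_eq_right (Nat.div_dvd_of_dvd ((by norm_num : (4 : ℕ) ∣ 8).trans h8)),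
          Nat.div_div_self ((by norm_num : (4 : ℕ) ∣ 8).trans h8) (orderOf_pos _).ne']
      obtain ⟨j, hj⟩ := (h.emb.mem v).1 (mem_centralizer_singleton_iff.2 (hc.pow_left _).eq)
      have hjx : mulI j xI = mulI xI j := h.emb.inj (by
        rw [h.emb.mul, h.emb.mul, hj]
        exact ((show Commute (u : G) (el xI) from mem_centralizer_singleton_iff.1 u.2).pow_left _).eq)
      rcases (commuting_xI j hjx).1 (h.emb.inj (by rw [h.emb.pow, h.emb.one, hj, ← hvo, pow_orderOf_eq_one]))
        with e | e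
      · rw [e, h.emb.one] at hj; rw [← hj, orderOf_one] at hvo; norm_num at hvo
      · rw [e, h.emb.map_t] at hj; rw [← hj, h.t_order] at hvo; norm_num at hvo
    rcases (commuting_xI i hcx).1 (h.emb.inj (by rw [h.emb.pow, h.emb.one, hi]; exact orderOf_dvd_iff_pow_eq_one.1 hk4))
      with e | e
    · left; rw [e, h.emb.one] at hi; exact Subtype.ext hi.symm
    · right; rw [e, h.emb.map_t] at hi; exact hi.symm
  have hT2 : (T : Subgroup C) = zpowers (⟨t, htC⟩ : C) := by
    by_contra hne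
    haveI : Group.IsNilpotent (T : Subgroup C) := T.2.isNilpotent
    let Z : Subgroup (T : Subgroup C) := zpowers ⟨⟨t, htC⟩, htT⟩
    have hZ : Z < ⊤ := by
      refine lt_top_iff_ne_top.2 fun e => hne (le_antisymm (fun v hv => ?_) hT)
      have : (⟨v, hv⟩ : (T : Subgroup C)) ∈ Z := e ▸ mem_top _
      obtain ⟨k, hk⟩ := mem_zpowers_iff.1 this
      exact mem_zpowers_iff.2 ⟨k, congrArg Subtype.val hk⟩
    obtain ⟨v, hvN, hvZ⟩ := SetLike.exists_of_lt (Group.normalizerCondition_of_isNilpotent Z hZ)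
    refine hvZ ?_
    have h1 := (mem_normalizer_iff.1 hvN ⟨⟨t, htC⟩, htT⟩).1 (mem_zpowers _)
    obtain ⟨k, hk⟩ := mem_zpowers_iff.1 h1
    have hk' : t ^ k = ((v : C) : G) * t * ((v : C) : G)⁻¹ :=
      congrArg (fun w : (T : Subgroup C) => ((w : C) : G)) hk
    have hc : Commute ((v : C) : G) t := by
      rcases Int.emod_two_eq_zero_or_one k with hk2 | hk2 <;>
        rw [← zpow_mod_orderOf, h.t_order, show k % ((2 : ℕ) : ℤ) = k % 2 from rfl, hk2] at hk'
      · rw [zpow_zero, eq_comm, conj_eq_one_iff] at hk'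
        exact absurd hk' h.emb.t_invol.2
      · rw [zpow_one] at hk'
        exact (eq_mul_inv_iff_mul_eq.1 hk').symm
    rcases hsmall v v.2 hc with e | e
    · rw [show v = 1 from Subtype.ext e]; exact one_mem _
    · rw [show v = ⟨⟨t, htC⟩, htT⟩ from Subtype.ext (Subtype.ext e)]; exact mem_zpowers _
  have hTc : Nat.card (T : Subgroup C) = 2 := by
    rw [hT2, Nat.card_zpowers, Subgroup.orderOf_mk, h.t_order]
  have hf2 : (Nat.card C).factorization 2 = 1 := by
    have := T.card_eq_multiplicity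
    rw [hTc] at this
    exact (Nat.pow_right_injective (le_refl 2) (this.symm.trans (pow_one 2).symm))
  obtain ⟨a, b, ha, hb, hab⟩ : ∃ a b, a ≤ 4 ∧ b ≤ 3 ∧ Nat.card C = 2 ^ a * 3 ^ b := by
    obtain ⟨a', b', ha', hb', e⟩ := Nat.dvd_mul.1 hd'
    obtain ⟨a, ha, rfl⟩ := (Nat.dvd_prime_pow Nat.prime_two).1 ha'
    obtain ⟨b, hb, rfl⟩ := (Nat.dvd_prime_pow Nat.prime_three).1 hb'
    exact ⟨a, b, ha, hb, e.symm⟩
  rw [hab, Nat.factorization_mul (by positivity) (by positivity), Nat.prime_two.factorization_pow,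
    Nat.prime_three.factorization_pow] at hf2
  simp at hf2
  refine ⟨b, by rw [hab, hf2, pow_one], ?_, hb⟩
  by_contra hb0
  have : 3 ∣ Nat.card C := by
    rw [← h.x_order, ← Nat.card_zpowers]
    exact card_dvd_of_le (zpowers_le.2 (mem_centralizer_singleton_iff.2 rfl))
  rw [hab, show b = 0 by omega, hf2] at this
  norm_num at this

theorem Hyp.card_centralizer_x (h : Hyp t el) : Nat.card (centralizer ({el xI} : Set G)) = 54 := by
  classical
  haveI : Fact (Nat.Prime 3) := ⟨Nat.prime_three⟩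
  obtain ⟨m, hm, hm1, hm3⟩ := h.card_centralizer_two
  suffices h27 : 27 ∣ Nat.card (centralizer ({el xI} : Set G)) by
    rw [hm] at h27 ⊢
    interval_cases m <;> simp_all
  have hx := h.x_order
  set x := el xI with hxdef
  by_contra hno
  obtain ⟨P, hP⟩ := (IsPGroup.of_card (n := 1) (by rw [Nat.card_zpowers, hx, pow_one]) :
    IsPGroup 3 (zpowers x)).exists_le_sylow
  have hxP : x ∈ (P : Subgroup G) := hP (mem_zpowers x)
  have hPc := h.card_sylow_three P
  haveI : Nontrivial (P : Subgroup G) := Finite.one_lt_card_iff_nontrivial.1 (by rw [hPc]; norm_num)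
  haveI := P.2.center_nontrivial
  obtain ⟨k, hk⟩ := IsPGroup.iff_card.1 (P.2.to_subgroup (center (P : Subgroup G)))
  have hk0 : k ≠ 0 := fun e => absurd (Finite.one_lt_card (α := center (P : Subgroup G)))
    (by rw [hk, e, pow_zero]; exact lt_irrefl 1)
  obtain ⟨⟨⟨z, hzP⟩, hzc⟩, hz⟩ := exists_prime_orderOf_dvd_card' (G := center (P : Subgroup G)) 3
    (hk ▸ dvd_pow_self 3 hk0)
  rw [← Subgroup.orderOf_coe, ← Subgroup.orderOf_coe] at hz
  simp only at hz
  have hzc' : ∀ p ∈ (P : Subgroup G), p * z = z * p := fun p hp =>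
    congrArg Subtype.val (mem_center_iff.1 hzc ⟨p, hp⟩)
  have hzodd : ∀ u, orderOf u = 2 → ¬ Commute z u := by
    intro u hu hc
    refine hno ((h.card_eq_of_invol hz hu hc).1 ▸ ?_)
    rw [← hPc]
    exact card_dvd_of_le fun p hp => mem_centralizer_singleton_iff.2 (hzc' p hp)
  have hxnc : ∃ p ∈ (P : Subgroup G), p * x ≠ x * p := by
    by_contra hcon
    push Not at hcon
    refine hno ?_
    rw [← hPc]
    exact card_dvd_of_le fun p hp => mem_centralizer_singleton_iff.2 (hcon p hp)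
  have hxz : x ∉ zpowers z := fun hmem => by
    obtain ⟨p, hp, hpx⟩ := hxnc
    obtain ⟨k, hk⟩ := mem_zpowers_iff.1 hmem
    exact hpx (hk ▸ ((show Commute p z from hzc' p hp).zpow_right k).eq)
  set C := centralizer ({x} : Set G) with hC
  set E := (P : Subgroup G) ⊓ C with hE
  have hxE : x ∈ E := ⟨hxP, mem_centralizer_singleton_iff.2 rfl⟩
  have hzE : z ∈ E := ⟨hzP, mem_centralizer_singleton_iff.2 (hzc' x hxP).symm⟩
  have hE9 : Nat.card E = 9 := by
    obtain ⟨j, hj⟩ := IsPGroup.iff_card.1 (P.2.to_le (inf_le_left : E ≤ P))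
    have h1 : ¬ 27 ∣ 3 ^ j := fun hd => hno ((hj ▸ hd).trans (card_dvd_of_le inf_le_right))
    have h2 : 3 < 3 ^ j := by
      rw [← hj]
      have hle : zpowers z ≤ E := zpowers_le.2 hzE
      have hlt := Set.ncard_lt_ncard (s := (zpowers z : Set G)) (t := (E : Set G))
        ⟨hle, fun hcon => hxz (hcon hxE)⟩ (Set.toFinite _)
      rw [← Nat.card_coe_set_eq, ← Nat.card_coe_set_eq] at hlt
      refine lt_of_eq_of_lt ?_ hlt
      exact (hz.symm.trans (Nat.card_zpowers z).symm)
    have hj2 : j < 3 := by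
      by_contra hc
      exact h1 (pow_dvd_pow 3 (show 3 ≤ j by omega))
    rw [hj]; interval_cases j <;> norm_num at h2 <;> rfl
  have hm2 : m = 2 := by
    have h9 : 9 ∣ Nat.card C := hE9 ▸ card_dvd_of_le inf_le_right
    rw [hm] at h9 hno
    interval_cases m <;> simp_all
  have hnormE : ∀ g ∈ C, ∀ e ∈ E, g * e * g⁻¹ ∈ E := by
    have h2 : (E.subgroupOf C).index = 2 := by
      have := (E.subgroupOf C).card_mul_index
      rw [Nat.card_congr (subgroupOfEquivOfLe (inf_le_right : E ≤ C)).toEquiv, hE9, hm, hm2] at this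
      omega
    intro g hg e he
    exact ((normal_of_index_eq_two h2).conj_mem ⟨e, (mem_inf.1 he).2⟩ he ⟨g, hg⟩ : _)
  have hspan := span_nine (P := E) hz hx (show Commute z x from (hzc' x hxP).symm) hxz hE9 hzE hxE
  have hkey : ∀ g, (∀ e ∈ E, g * e * g⁻¹ ∈ E) → g * z * g⁻¹ = z ∨ g * z * g⁻¹ = z⁻¹ := by
    intro g hg
    obtain ⟨a, b, hab⟩ := hspan _ (hg z hzE)
    by_cases hb : b = 0
    · subst hb
      simp only [Fin.val_zero, pow_zero, mul_one] at hab
      fin_cases a <;> simp at hab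
      · rw [hab, orderOf_one] at hz; norm_num at hz
      · exact Or.inl hab
      · right
        rw [hab]
        refine eq_inv_of_mul_eq_one_left ?_
        rw [← pow_succ, show 2 + 1 = orderOf z from hz.symm, pow_orderOf_eq_one]
    exfalso
    obtain ⟨u, hu, huv⟩ := shift hPc hz hxP (by rw [← hx, pow_orderOf_eq_one]) hzP hzc' hxnc a 0 b hb
    refine hno ?_
    have h27 : 27 ∣ Nat.card (centralizer ({g * z * g⁻¹} : Set G)) := by
      rw [card_centralizer_conj, ← hPc]
      exact card_dvd_of_le fun p hp => mem_centralizer_singleton_iff.2 (hzc' p hp)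
    rw [hab, ← card_centralizer_conj u, huv, Fin.val_zero, pow_zero, one_mul] at h27
    refine h27.trans (card_dvd_of_le fun p hp => mem_centralizer_singleton_iff.2 ?_)
    have hp' : Commute p (x ^ b.val) := mem_centralizer_singleton_iff.1 hp
    have : b.val = 1 ∨ b.val = 2 := by
      have h0 : b.val ≠ 0 := fun e => hb (Fin.ext e)
      omega
    rcases this with e | e <;> rw [e] at hp'
    · rwa [pow_one] at hp'
    · have h4 := hp'.pow_right 2
      rw [← pow_mul, show x ^ (2 * 2) = x ^ 3 * x by rw [← pow_succ], ← hx, pow_orderOf_eq_one, one_mul] at h4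
      exact h4.eq
  obtain ⟨hs, hsx, hst, -⟩ := h.s_facts
  have hsinv : (el sI)⁻¹ = el sI := inv_eq_of_mul_eq_one_left (CfsgLib.Invol.invol_mul_self hs)
  have htn : ∀ e ∈ E, t * e * t⁻¹ ∈ E :=
    hnormE t (mem_centralizer_singleton_iff.2 (mulI_el h xI).symm)
  have hsC : ∀ e ∈ E, el sI * e * (el sI)⁻¹ ∈ E := by
    intro e he
    have hCn : ∀ c ∈ C, el sI * c * (el sI)⁻¹ ∈ C := by
      intro c hc
      have hci : Commute (el sI * c * (el sI)⁻¹) (el sI * x * (el sI)⁻¹) :=
        (show Commute c x from mem_centralizer_singleton_iff.1 hc).map (MulAut.conj (el sI)).toMonoidHom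
      rw [show el sI * x * (el sI)⁻¹ = x⁻¹ by rw [hsinv, hxdef, hsx]] at hci
      exact mem_centralizer_singleton_iff.2 (Commute.inv_right_iff.1 hci).eq
    have h2 : (E.subgroupOf C).index = 2 := by
      have := (E.subgroupOf C).card_mul_index
      rw [Nat.card_congr (subgroupOfEquivOfLe (inf_le_right : E ≤ C)).toEquiv, hE9, hm, hm2] at this
      omega
    haveI := normal_of_index_eq_two h2
    have hp := pow_index_mem (H := E.subgroupOf C) ⟨_, hCn e ((mem_inf.1 he).2)⟩
    rw [h2, mem_subgroupOf, SubmonoidClass.coe_pow] at hp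
    have h3 : (el sI * e * (el sI)⁻¹) ^ 3 = 1 := by
      obtain ⟨a, b, rfl⟩ := hspan e he
      rw [conj_pow, ((show Commute z x from (hzc' x hxP).symm).pow_pow _ _).mul_pow,
        ← pow_mul, ← pow_mul, orderOf_dvd_iff_pow_eq_one.1 (hz.symm ▸ dvd_mul_left 3 _),
        orderOf_dvd_iff_pow_eq_one.1 (hx.symm ▸ dvd_mul_left 3 _)]
      group
    have := E.pow_mem hp 2
    rw [← pow_mul, show (el sI * e * (el sI)⁻¹) ^ (2 * 2) = el sI * e * (el sI)⁻¹ by
      rw [show 2 * 2 = 3 + 1 from rfl, pow_succ, h3, one_mul]] at this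
    exact this
  rcases hkey t htn with e | e
  · exact hzodd t h.t_order (mul_inv_eq_iff_eq_mul.1 e).symm
  rcases hkey (el sI) hsC with e' | e'
  · exact hzodd _ hs (mul_inv_eq_iff_eq_mul.1 e').symm
  refine hzodd _ hst (mul_inv_eq_iff_eq_mul.1 ?_).symm
  rw [show el sI * t * z * (el sI * t)⁻¹ = el sI * (t * z * t⁻¹) * (el sI)⁻¹ by group, e,
    show el sI * z⁻¹ * (el sI)⁻¹ = (el sI * z * (el sI)⁻¹)⁻¹ by group, e', inv_inv]

end CfsgLib.Char.LThreeThree
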