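import Mathlib

/-!
# The projective plane of order three
-/

set_option autoImplicit false
set_option linter.all false

namespace CfsgLib.Char.LThreeThree

/-- The six sides of the standard quadrangle `0, 1, 2, 3`. -/
def sides : List (List (Fin 13)) :=
  [[0, 1, 4, 7], [2, 3, 4, 12], [0, 2, 5, 8], [1, 3, 5, 11], [0, 3, 6, 9], [1, 2, 6, 10]]

/-- The other seven lines. -/
def others : List (List (Fin 13)) :=
  [[4, 5, 9, 10], [4, 6, 8, 11], [5, 6, 7, 12], [0, 10, 11, 12], [1, 8, 9, 12], [2, 7, 9, 11],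
    [3, 7, 8, 10]]

/-- Collinearity in the standard plane. -/
def col (a b c : Fin 13) : Prop := ∃ l ∈ sides ++ others, a ∈ l ∧ b ∈ l ∧ c ∈ l

instance (a b c : Fin 13) : Decidable (col a b c) := by unfold col; infer_instance

/-- The collineations of the standard plane. -/
def collineations : Subgroup (Equiv.Perm (Fin 13)) where
  carrier := {σ | ∀ a b c, col (σ a) (σ b) (σ c) ↔ col a b c}
  one_mem' := fun _ _ _ => Iff.rfl
  mul_mem' := fun {σ τ} hσ hτ a b c => (hσ _ _ _).trans (hτ a b c)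
  inv_mem' := fun {σ} hσ a b c => by
    rw [← hσ]
    simp

theorem diag_unique : ∀ x : Fin 13,
    (col 0 1 x → col 2 3 x → x = 4) ∧ (col 0 2 x → col 1 3 x → x = 5) ∧
    (col 0 3 x → col 1 2 x → x = 6) := by decide +kernel

theorem extra_unique : ∀ x : Fin 13,
    (col 0 1 x → x = 0 ∨ x = 1 ∨ x = 4 ∨ x = 7) ∧ (col 2 3 x → x = 2 ∨ x = 3 ∨ x = 4 ∨ x = 12) ∧
    (col 0 2 x → x = 0 ∨ x = 2 ∨ x = 5 ∨ x = 8) ∧ (col 1 3 x → x = 1 ∨ x = 3 ∨ x = 5 ∨ x = 11) ∧
    (col 0 3 x → x = 0 ∨ x = 3 ∨ x = 6 ∨ x = 9) ∧ (col 1 2 x → x = 1 ∨ x = 2 ∨ x = 6 ∨ x = 10) := by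
  decide +kernel

theorem side_col : col 0 1 4 ∧ col 2 3 4 ∧ col 0 2 5 ∧ col 1 3 5 ∧ col 0 3 6 ∧ col 1 2 6 ∧
    col 0 1 7 ∧ col 2 3 12 ∧ col 0 2 8 ∧ col 1 3 11 ∧ col 0 3 9 ∧ col 1 2 10 := by decide +kernel

theorem eq_one_of_fix {σ : Equiv.Perm (Fin 13)} (hσ : σ ∈ collineations) (h0 : σ 0 = 0) (h1 : σ 1 = 1)
    (h2 : σ 2 = 2) (h3 : σ 3 = 3) : σ = 1 := by
  have key : ∀ a b x : Fin 13, σ a = a → σ b = b → col a b x → col a b (σ x) := fun a b x ha hb h => by
    have := (hσ a b x).2 h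
    rwa [ha, hb] at this
  obtain ⟨c4, c4', c5, c5', c6, c6', c7, c12, c8, c11, c9, c10⟩ := side_col
  have h4 : σ 4 = 4 := (diag_unique _).1 (key _ _ _ h0 h1 c4) (key _ _ _ h2 h3 c4')
  have h5 : σ 5 = 5 := (diag_unique _).2.1 (key _ _ _ h0 h2 c5) (key _ _ _ h1 h3 c5')
  have h6 : σ 6 = 6 := (diag_unique _).2.2 (key _ _ _ h0 h3 c6) (key _ _ _ h1 h2 c6')
  have ne : ∀ a x : Fin 13, σ a = a → x ≠ a → σ x ≠ a := fun a x ha hx e => hx (σ.injective (e.trans ha.symm))
  have fourth : ∀ a b d x : Fin 13, σ a = a → σ b = b → σ d = d → x ≠ a → x ≠ b → x ≠ d → col a b x →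
      (∀ y, col a b y → y = a ∨ y = b ∨ y = d ∨ y = x) → σ x = x := fun a b d x ha hb hd xa xb xd hc hu => by
    rcases hu _ (key a b x ha hb hc) with h | h | h | h
    exacts [absurd h (ne a x ha xa), absurd h (ne b x hb xb), absurd h (ne d x hd xd), h]
  have h7 := fourth 0 1 4 7 h0 h1 h4 (by decide) (by decide) (by decide) c7 fun y => (extra_unique y).1
  have h12 := fourth 2 3 4 12 h2 h3 h4 (by decide) (by decide) (by decide) c12 fun y => (extra_unique y).2.1
  have h8 := fourth 0 2 5 8 h0 h2 h5 (by decide) (by decide) (by decide) c8 fun y => (extra_unique y).2.2.1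
  have h11 := fourth 1 3 5 11 h1 h3 h5 (by decide) (by decide) (by decide) c11
    fun y => (extra_unique y).2.2.2.1
  have h9 := fourth 0 3 6 9 h0 h3 h6 (by decide) (by decide) (by decide) c9
    fun y => (extra_unique y).2.2.2.2.1
  have h10 := fourth 1 2 6 10 h1 h2 h6 (by decide) (by decide) (by decide) c10
    fun y => (extra_unique y).2.2.2.2.2
  refine Equiv.ext fun x => ?_
  fin_cases x <;> assumption

/-- Ordered quadrangles. -/
def quadB (a b c d : Fin 13) : Bool :=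
  decide (a ≠ b) && !decide (col a b c) && !decide (col a b d) && !decide (col a c d) && !decide (col b c d)

theorem quad_base : quadB 0 1 2 3 = true := by decide +kernel

theorem card_quads : (∑ a : Fin 13, ∑ b : Fin 13, ∑ c : Fin 13, ∑ d : Fin 13,
    if quadB a b c d then 1 else 0) = 5616 := by decide +kernel

theorem card_collineations_le : Nat.card collineations ≤ 5616 := by
  classical
  let Q := {q : Fin 13 × Fin 13 × Fin 13 × Fin 13 // quadB q.1 q.2.1 q.2.2.1 q.2.2.2 = true}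
  have himg : ∀ σ : collineations, quadB (σ.1 0) (σ.1 1) (σ.1 2) (σ.1 3) = true := by
    rintro ⟨σ, hσ⟩
    have hq := quad_base
    simp only [quadB, Bool.and_eq_true, decide_eq_true_eq, Bool.not_eq_true',
      decide_eq_false_iff_not] at hq ⊢
    obtain ⟨⟨⟨⟨q1, q2⟩, q3⟩, q4⟩, q5⟩ := hq
    exact ⟨⟨⟨⟨σ.injective.ne q1, mt (hσ _ _ _).1 q2⟩, mt (hσ _ _ _).1 q3⟩, mt (hσ _ _ _).1 q4⟩,
      mt (hσ _ _ _).1 q5⟩
  have hinj : Function.Injective (fun σ : collineations =>
      (⟨(σ.1 0, σ.1 1, σ.1 2, σ.1 3), himg σ⟩ : Q)) := fun σ τ e => by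
    simp only [Subtype.mk.injEq, Prod.mk.injEq] at e
    obtain ⟨e0, e1, e2, e3⟩ := e
    have hm : τ.1⁻¹ * σ.1 ∈ collineations := collineations.mul_mem (collineations.inv_mem τ.2) σ.2
    have hf : ∀ x, σ.1 x = τ.1 x → (τ.1⁻¹ * σ.1) x = x := fun x hx => by
      simp [Equiv.Perm.mul_apply, hx]
    have h1 := eq_one_of_fix hm (hf 0 e0) (hf 1 e1) (hf 2 e2) (hf 3 e3)
    exact Subtype.ext (inv_mul_eq_one.1 h1).symm
  refine (Nat.card_le_card_of_injective _ hinj).trans ?_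
  rw [Nat.card_eq_fintype_card, Fintype.card_subtype, Finset.card_filter]
  simp only [Fintype.sum_prod_type]
  exact card_quads.le

/-- A space with thirteen points whose lines have four points each. -/
structure Space {Ω : Type*} (L : Ω → Ω → Set Ω) : Prop where
  card : Nat.card Ω = 13
  left : ∀ a b, a ≠ b → a ∈ L a b
  right : ∀ a b, a ≠ b → b ∈ L a b
  four : ∀ a b, a ≠ b → (L a b).ncard = 4
  closed : ∀ a b c d, a ≠ b → c ∈ L a b → d ∈ L a b → c ≠ d → L c d = L a b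

variable {Ω : Type*} [Finite Ω] {L : Ω → Ω → Set Ω}

theorem Space.eq_of_two (h : Space L) {a b a' b' x y : Ω} (hab : a ≠ b) (hab' : a' ≠ b')
    (hx : x ∈ L a b) (hx' : x ∈ L a' b') (hy : y ∈ L a b) (hy' : y ∈ L a' b') (hxy : x ≠ y) :
    L a b = L a' b' :=
  (h.closed a b x y hab hx hy hxy).symm.trans (h.closed a' b' x y hab' hx' hy' hxy)

theorem Space.meet (h : Space L) {a b a' b' : Ω} (hab : a ≠ b) (hab' : a' ≠ b') :
    ∃ x, x ∈ L a b ∧ x ∈ L a' b' := by
  classical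
  haveI : Fintype Ω := Fintype.ofFinite Ω
  by_cases ha : a' ∈ L a b
  · exact ⟨a', ha, h.left a' b' hab'⟩
  set S : Finset Ω := (L a b).toFinset with hS
  have hS4 : S.card = 4 := by rw [hS, ← Set.ncard_eq_toFinset_card', h.four a b hab]
  let T : Ω → Finset Ω := fun y => (L a' y).toFinset.erase a'
  have hne : ∀ y ∈ S, a' ≠ y := fun y hy e => ha (by rw [hS, Set.mem_toFinset] at hy; exact e ▸ hy)
  have hT : ∀ y ∈ S, (T y).card = 3 := fun y hy => by
    rw [Finset.card_erase_of_mem (Set.mem_toFinset.2 (h.left _ _ (hne y hy))), ← Set.ncard_eq_toFinset_card',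
      h.four _ _ (hne y hy)]
  have hdis : (S : Set Ω).PairwiseDisjoint T := by
    intro y hy z hz hyz
    rw [Function.onFun, Finset.disjoint_left]
    intro x hxy hxz
    simp only [T, Finset.mem_erase, Set.mem_toFinset] at hxy hxz
    have he := h.eq_of_two (hne y hy) (hne z hz) (h.left _ _ (hne y hy)) (h.left _ _ (hne z hz)) hxy.2 hxz.2
      (Ne.symm hxy.1)
    have hzy : z ∈ L a' y := he ▸ h.right _ _ (hne z hz)
    have hay := hne y hy
    rw [hS, Finset.mem_coe, Set.mem_toFinset] at hy hz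
    have := h.eq_of_two hay hab (h.right _ _ hay) hy hzy hz hyz
    exact ha (this ▸ h.left _ _ hay)
  have hU : S.biUnion T = Finset.univ.erase a' := by
    refine Finset.eq_of_subset_of_card_le (fun x hx => ?_) ?_
    · obtain ⟨y, -, hxy⟩ := Finset.mem_biUnion.1 hx
      exact Finset.mem_erase.2 ⟨(Finset.mem_erase.1 hxy).1, Finset.mem_univ _⟩
    · rw [Finset.card_biUnion hdis, Finset.sum_congr rfl hT, Finset.sum_const, hS4,
        Finset.card_erase_of_mem (Finset.mem_univ _), Finset.card_univ, ← Nat.card_eq_fintype_card, h.card]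
      norm_num
  have hb : b' ∈ S.biUnion T := hU ▸ Finset.mem_erase.2 ⟨hab'.symm, Finset.mem_univ _⟩
  obtain ⟨y, hy, hby⟩ := Finset.mem_biUnion.1 hb
  have he := h.eq_of_two (hne y hy) hab' (h.left _ _ (hne y hy)) (h.left _ _ hab')
    (Set.mem_toFinset.1 (Finset.mem_erase.1 hby).2) (h.right _ _ hab') hab'
  exact ⟨y, Set.mem_toFinset.1 (hS ▸ hy), he ▸ h.right _ _ (hne y hy)⟩

theorem Space.fourth (h : Space L) {a b d : Ω} (hab : a ≠ b) :
    ∃ e ∈ L a b, e ≠ a ∧ e ≠ b ∧ e ≠ d := by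
  classical
  by_contra hcon
  push Not at hcon
  have hsub : L a b ⊆ {a, b, d} := fun e he => by
    by_cases h1 : e = a
    · exact Or.inl h1
    by_cases h2 : e = b
    · exact Or.inr (Or.inl h2)
    exact Or.inr (Or.inr (hcon e he h1 h2))
  have h1 := Set.ncard_le_ncard hsub (Set.toFinite _)
  rw [h.four a b hab] at h1
  have h3 : ({a, b, d} : Set Ω).ncard ≤ 3 :=
    (Set.ncard_insert_le _ _).trans (Nat.succ_le_succ ((Set.ncard_insert_le _ _).trans (by simp)))
  omega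

theorem Space.exists_quad (h : Space L) :
    ∃ p₁ p₂ p₃ p₄ : Ω, p₁ ≠ p₂ ∧ p₁ ≠ p₃ ∧ p₂ ≠ p₃ ∧ p₃ ∉ L p₁ p₂ ∧ p₄ ∉ L p₁ p₂ ∧ p₄ ∉ L p₁ p₃ ∧
      p₄ ∉ L p₂ p₃ := by
  classical
  haveI : Nontrivial Ω := Finite.one_lt_card_iff_nontrivial.1 (by rw [h.card]; norm_num)
  obtain ⟨a, b, hab⟩ := exists_pair_ne Ω
  obtain ⟨c, hc⟩ : ∃ c, c ∉ L a b := by
    by_contra hcon
    push Not at hcon
    have := Set.ncard_le_ncard (s := (Set.univ : Set Ω)) (fun x _ => hcon x) (Set.toFinite _)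
    rw [Set.ncard_univ, h.card, h.four a b hab] at this
    omega
  have hac : a ≠ c := fun e => hc (e ▸ h.left a b hab)
  have hbc : b ≠ c := fun e => hc (e ▸ h.right a b hab)
  obtain ⟨d, hd⟩ : ∃ d, d ∉ L a b ∪ L a c ∪ L b c := by
    by_contra hcon
    push Not at hcon
    have := Set.ncard_le_ncard (s := (Set.univ : Set Ω)) (fun x _ => hcon x) (Set.toFinite _)
    rw [Set.ncard_univ, h.card] at this
    have h1 := Set.ncard_union_le (L a b ∪ L a c) (L b c)
    have h2 := Set.ncard_union_le (L a b) (L a c)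
    rw [h.four a b hab, h.four a c hac] at h2
    rw [h.four b c hbc] at h1
    omega
  simp only [Set.mem_union, not_or] at hd
  exact ⟨a, b, c, d, hab, hac, hbc, hc, hd.1.1, hd.1.2, hd.2⟩

/-- The two points spanning each side. -/
def sideEnds : Fin 6 → Fin 13 × Fin 13 :=
  ![(0, 1), (2, 3), (0, 2), (1, 3), (0, 3), (1, 2)]

/-- The points of each side. -/
def side (k : Fin 6) : List (Fin 13) := sides[k.val]'(by exact k.isLt)

/-- `x` is kept off the line through `a` and `b` by a side. -/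
def sep (a b x : Fin 13) : Bool :=
  decide (∃ k : Fin 6, x ∈ side k ∧ ((a ∈ side k ∧ a ≠ x ∧ b ∉ side k) ∨ (b ∈ side k ∧ b ≠ x ∧ a ∉ side k)))

theorem others_data : ∀ l ∈ others, ∀ x : Fin 13, x ∉ l →
    ∀ a b, l[0]? = some a → l[1]? = some b →
      sep a b x = true ∨ ∀ y : Fin 13, y ≠ a → y ≠ b → y ≠ x → sep a b y = true ∨ sep a x y = true ∨ sep b x y = true := by
  decide +kernel

theorem sides_cover : ∀ x : Fin 13, ∃ k : Fin 6, x ∈ side k := by decide +kernel

theorem side_card : ∀ k : Fin 6, 4 ≤ (side k).toFinset.card := by decide +kernel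

theorem sides_meet : ∀ j k : Fin 6, ∃ w : Fin 13, w ∈ side j ∧ w ∈ side k := by decide +kernel

theorem pairs_cover : ∀ a b : Fin 13, ∃ l ∈ sides ++ others, a ∈ l ∧ b ∈ l := by decide +kernel

theorem Space.exists_labelling (h : Space L) :
    ∃ φ : Fin 13 ≃ Ω, ∀ a b c, col a b c ↔ ∃ u v, u ≠ v ∧ φ a ∈ L u v ∧ φ b ∈ L u v ∧ φ c ∈ L u v := by
  classical
  obtain ⟨p₁, p₂, p₃, p₄, n12, n13, n23, h3, h4a, h4b, h4c⟩ := h.exists_quad
  have n14 : p₁ ≠ p₄ := fun e => h4a (e ▸ h.left _ _ n12)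
  have n24 : p₂ ≠ p₄ := fun e => h4a (e ▸ h.right _ _ n12)
  have n34 : p₃ ≠ p₄ := fun e => h4b (e ▸ h.right _ _ n13)
  -- no three collinear
  have c123 : ∀ a b, a ≠ b → p₁ ∈ L a b → p₂ ∈ L a b → p₃ ∉ L a b := fun a b hab u v w =>
    h3 (h.closed a b p₁ p₂ hab u v n12 ▸ w)
  have c124 : ∀ a b, a ≠ b → p₁ ∈ L a b → p₂ ∈ L a b → p₄ ∉ L a b := fun a b hab u v w =>
    h4a (h.closed a b p₁ p₂ hab u v n12 ▸ w)
  have c134 : ∀ a b, a ≠ b → p₁ ∈ L a b → p₃ ∈ L a b → p₄ ∉ L a b := fun a b hab u v w =>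
    h4b (h.closed a b p₁ p₃ hab u v n13 ▸ w)
  have c234 : ∀ a b, a ≠ b → p₂ ∈ L a b → p₃ ∈ L a b → p₄ ∉ L a b := fun a b hab u v w =>
    h4c (h.closed a b p₂ p₃ hab u v n23 ▸ w)
  obtain ⟨d₁, d1a, d1b⟩ := h.meet n12 n34
  obtain ⟨d₂, d2a, d2b⟩ := h.meet n13 n24
  obtain ⟨d₃, d3a, d3b⟩ := h.meet n14 n23
  obtain ⟨e₁₂, e7, e7a, e7b, e7c⟩ := h.fourth (d := d₁) n12
  obtain ⟨e₁₃, e8, e8a, e8b, e8c⟩ := h.fourth (d := d₂) n13
  obtain ⟨e₁₄, e9, e9a, e9b, e9c⟩ := h.fourth (d := d₃) n14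
  obtain ⟨e₂₃, e10, e10a, e10b, e10c⟩ := h.fourth (d := d₃) n23
  obtain ⟨e₂₄, e11, e11a, e11b, e11c⟩ := h.fourth (d := d₂) n24
  obtain ⟨e₃₄, e12, e12a, e12b, e12c⟩ := h.fourth (d := d₁) n34
  let f : Fin 13 → Ω := ![p₁, p₂, p₃, p₄, d₁, d₂, d₃, e₁₂, e₁₃, e₁₄, e₂₃, e₂₄, e₃₄]
  have hend : ∀ k, f (sideEnds k).1 ≠ f (sideEnds k).2 := by
    intro k; fin_cases k
    exacts [n12, n34, n13, n24, n14, n23]
  let S : Fin 6 → Set Ω := fun k => L (f (sideEnds k).1) (f (sideEnds k).2)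
  have hmem : ∀ k, ∀ x ∈ side k, f x ∈ S k := by
    intro k x hx
    fin_cases k <;> (simp [side, sides] at hx; rcases hx with rfl | rfl | rfl | rfl)
    exacts [h.left _ _ n12, h.right _ _ n12, d1a, e7, h.left _ _ n34, h.right _ _ n34, d1b, e12,
      h.left _ _ n13, h.right _ _ n13, d2a, e8, h.left _ _ n24, h.right _ _ n24, d2b, e11,
      h.left _ _ n14, h.right _ _ n14, d3a, e9, h.left _ _ n23, h.right _ _ n23, d3b, e10]
  have hside_inj : ∀ k, ∀ x ∈ side k, ∀ y ∈ side k, f x = f y → x = y := by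
    have nd12 : d₁ ≠ p₁ ∧ d₁ ≠ p₂ := ⟨fun e => c134 _ _ n34 (e ▸ d1b) (h.left _ _ n34) (h.right _ _ n34),
      fun e => c234 _ _ n34 (e ▸ d1b) (h.left _ _ n34) (h.right _ _ n34)⟩
    have nd34 : d₁ ≠ p₃ ∧ d₁ ≠ p₄ := ⟨fun e => h3 (e ▸ d1a), fun e => h4a (e ▸ d1a)⟩
    have nd13 : d₂ ≠ p₁ ∧ d₂ ≠ p₃ := ⟨fun e => c124 _ _ n24 (e ▸ d2b) (h.left _ _ n24) (h.right _ _ n24),
      fun e => c234 _ _ n24 (h.left _ _ n24) (e ▸ d2b) (h.right _ _ n24)⟩
    have nd24 : d₂ ≠ p₂ ∧ d₂ ≠ p₄ := ⟨fun e => c123 _ _ n13 (h.left _ _ n13) (e ▸ d2a) (h.right _ _ n13),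
      fun e => h4b (e ▸ d2a)⟩
    have nd14 : d₃ ≠ p₁ ∧ d₃ ≠ p₄ := ⟨fun e => c123 _ _ n23 (e ▸ d3b) (h.left _ _ n23) (h.right _ _ n23),
      fun e => h4c (e ▸ d3b)⟩
    have nd23 : d₃ ≠ p₂ ∧ d₃ ≠ p₃ := ⟨fun e => c124 _ _ n14 (h.left _ _ n14) (e ▸ d3a) (h.right _ _ n14),
      fun e => c134 _ _ n14 (h.left _ _ n14) (e ▸ d3a) (h.right _ _ n14)⟩
    intro k x hx y hy e
    fin_cases k <;> (simp [side, sides] at hx hy; rcases hx with rfl | rfl | rfl | rfl <;>
      rcases hy with rfl | rfl | rfl | rfl) <;> first | rfl | (simp [f] at e; simp_all [eq_comm])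
  have hS : ∀ j k, j ≠ k → S j ≠ S k := by
    intro j k hjk e
    have ha := hmem j
    have hb := hmem k
    rw [← e] at hb
    have h1 := hend j
    fin_cases j <;> fin_cases k <;> first
      | exact absurd rfl hjk
      | (exact c123 _ _ h1 (by first | exact ha 0 (by decide) | exact hb 0 (by decide))
          (by first | exact ha 1 (by decide) | exact hb 1 (by decide))
          (by first | exact ha 2 (by decide) | exact hb 2 (by decide)))
      | (exact c124 _ _ h1 (by first | exact ha 0 (by decide) | exact hb 0 (by decide))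
          (by first | exact ha 1 (by decide) | exact hb 1 (by decide))
          (by first | exact ha 3 (by decide) | exact hb 3 (by decide)))
      | (exact c134 _ _ h1 (by first | exact ha 0 (by decide) | exact hb 0 (by decide))
          (by first | exact ha 2 (by decide) | exact hb 2 (by decide))
          (by first | exact ha 3 (by decide) | exact hb 3 (by decide)))
      | (exact c234 _ _ h1 (by first | exact ha 1 (by decide) | exact hb 1 (by decide))
          (by first | exact ha 2 (by decide) | exact hb 2 (by decide))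
          (by first | exact ha 3 (by decide) | exact hb 3 (by decide)))
  have hinj : Function.Injective f := by
    intro x y e
    obtain ⟨j, hj⟩ := sides_cover x
    obtain ⟨k, hk⟩ := sides_cover y
    by_cases hjk : j = k
    · subst hjk; exact hside_inj j x hj y hk e
    obtain ⟨w, hwj, hwk⟩ := sides_meet j k
    have hx : f x = f w := by
      by_contra hne
      exact hS j k hjk (h.eq_of_two (hend j) (hend k) (hmem j x hj) (e ▸ hmem k y hk) (hmem j w hwj)
        (hmem k w hwk) hne)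
    rw [hside_inj j x hj w hwj hx, hside_inj k y hk w hwk (e ▸ hx)]
  haveI : Fintype Ω := Fintype.ofFinite Ω
  have hbij : Function.Bijective f := (Fintype.bijective_iff_injective_and_card f).2
    ⟨hinj, by rw [Fintype.card_fin, ← Nat.card_eq_fintype_card, h.card]⟩
  -- the lines
  have hline4 : ∀ {a b : Fin 13} {u v : Ω}, ∀ l : List (Fin 13), l.length = 4 → l.Nodup → u ≠ v →
      (∀ x, f x ∈ L u v → x ∈ l) → ∀ x ∈ l, f x ∈ L u v := by
    intro a b u v l hl hnd huv hsub x hx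
    have h1 : L u v ⊆ f '' {y | y ∈ l} := fun z hz => by
      obtain ⟨y, rfl⟩ := hbij.2 z
      exact ⟨y, hsub y hz, rfl⟩
    have h2 : (f '' {y | y ∈ l}).ncard ≤ 4 := by
      refine (Set.ncard_image_le (Set.toFinite _)).trans (le_of_eq ?_)
      rw [show {y | y ∈ l} = (l.toFinset : Set (Fin 13)) by ext; simp, Set.ncard_coe_finset,
        List.toFinset_card_of_nodup hnd, hl]
    have h3 := Set.eq_of_subset_of_ncard_le h1 (by rw [h.four u v huv]; exact h2) (Set.toFinite _)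
    rw [h3]; exact ⟨x, hx, rfl⟩
  have hsep : ∀ a b x, sep a b x = true → a ≠ b → f x ∉ L (f a) (f b) := by
    intro a b x hs hab hx
    simp only [sep, decide_eq_true_eq] at hs
    obtain ⟨k, hxk, ⟨hak, hax, hbk⟩ | ⟨hbk, hbx, hak⟩⟩ := hs
    · have he := h.eq_of_two (hinj.ne hab) (hend k) (h.left _ _ (hinj.ne hab)) (hmem k a hak) hx
        (hmem k x hxk) (hinj.ne hax)
      have hb' : f b ∈ S k := by rw [show S k = L (f (sideEnds k).1) (f (sideEnds k).2) from rfl, ← he]; exact h.right _ _ (hinj.ne hab)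
      have h1 : S k ⊆ f '' {y | y ∈ side k} := by
        refine (Set.eq_of_subset_of_ncard_le (fun z => ?_) ?_ (Set.toFinite _)).ge
        · rintro ⟨y, hy, rfl⟩; exact hmem k y hy
        · rw [show S k = L (f (sideEnds k).1) (f (sideEnds k).2) from rfl, h.four _ _ (hend k),
            Set.ncard_image_of_injective _ hinj, show {y | y ∈ side k} = ((side k).toFinset : Set (Fin 13)) by
              ext; simp, Set.ncard_coe_finset]
          exact side_card k
      obtain ⟨y, hy, hyb⟩ := h1 hb'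
      exact hbk (hinj hyb ▸ hy)
    · have he := h.eq_of_two (hinj.ne hab) (hend k) (h.right _ _ (hinj.ne hab)) (hmem k b hbk) hx
        (hmem k x hxk) (hinj.ne hbx)
      have ha' : f a ∈ S k := by rw [show S k = L (f (sideEnds k).1) (f (sideEnds k).2) from rfl, ← he]; exact h.left _ _ (hinj.ne hab)
      have h1 : S k ⊆ f '' {y | y ∈ side k} := by
        refine (Set.eq_of_subset_of_ncard_le (fun z => ?_) ?_ (Set.toFinite _)).ge
        · rintro ⟨y, hy, rfl⟩; exact hmem k y hy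
        · rw [show S k = L (f (sideEnds k).1) (f (sideEnds k).2) from rfl, h.four _ _ (hend k),
            Set.ncard_image_of_injective _ hinj, show {y | y ∈ side k} = ((side k).toFinset : Set (Fin 13)) by
              ext; simp, Set.ncard_coe_finset]
          exact side_card k
      obtain ⟨y, hy, hya⟩ := h1 ha'
      exact hak (hinj hya ▸ hy)
  have hlines : ∀ l ∈ sides ++ others, ∃ u v, u ≠ v ∧ ∀ x ∈ l, f x ∈ L u v := by
    intro l hl
    rcases List.mem_append.1 hl with hl | hl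
    · obtain ⟨k, hk, rfl⟩ := List.getElem_of_mem hl
      exact ⟨_, _, hend ⟨k, hk⟩, fun x hx => hmem ⟨k, hk⟩ x hx⟩
    · obtain ⟨hlen, hnd, a, b, ha, hb, hab⟩ : l.length = 4 ∧ l.Nodup ∧ ∃ a b, l[0]? = some a ∧ l[1]? = some b ∧ a ≠ b := by
        revert l; decide +kernel
      refine ⟨f a, f b, hinj.ne hab, hline4 (a := a) (b := b) l hlen hnd (hinj.ne hab) fun x hx => ?_⟩
      by_contra hxl
      rcases others_data l hl x hxl a b ha hb with hs | hs
      · exact hsep a b x hs hab hx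
      obtain ⟨y, hyL, hya, hyb, hyx⟩ := h.fourth (d := f x) (hinj.ne hab)
      obtain ⟨y, rfl⟩ := hbij.2 y
      have hxa : x ≠ a := fun e => hxl (e ▸ List.mem_of_getElem? ha)
      have hxb : x ≠ b := fun e => hxl (e ▸ List.mem_of_getElem? hb)
      rcases hs y (fun e => hya (congrArg f e)) (fun e => hyb (congrArg f e)) (fun e => hyx (congrArg f e))
        with hs | hs | hs
      · exact hsep a b y hs hab hyL
      · exact hsep a x y hs hxa.symm
          (h.closed _ _ _ _ (hinj.ne hab) (h.left _ _ (hinj.ne hab)) hx (hinj.ne hxa.symm) ▸ hyL)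
      · exact hsep b x y hs hxb.symm
          (h.closed _ _ _ _ (hinj.ne hab) (h.right _ _ (hinj.ne hab)) hx (hinj.ne hxb.symm) ▸ hyL)
  refine ⟨Equiv.ofBijective f hbij, fun a b c => ⟨?_, ?_⟩⟩
  · rintro ⟨l, hl, ha, hb, hc⟩
    obtain ⟨u, v, huv, hall⟩ := hlines l hl
    exact ⟨u, v, huv, hall a ha, hall b hb, hall c hc⟩
  · rintro ⟨u, v, huv, ha, hb, hc⟩
    obtain ⟨u', hu'⟩ := hbij.2 u
    obtain ⟨v', hv'⟩ := hbij.2 v
    obtain ⟨l, hl, hu, hv⟩ := pairs_cover u' v'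
    obtain ⟨u₀, v₀, h0, hall⟩ := hlines l hl
    have he := h.closed u₀ v₀ u v h0 (hu' ▸ hall u' hu) (hv' ▸ hall v' hv) huv
    have hlen : l.length = 4 ∧ l.Nodup := by clear hall hu hv; revert l; decide +kernel
    have himg : L u v = f '' {y | y ∈ l} := by
      rw [he]
      refine (Set.eq_of_subset_of_ncard_le ?_ ?_ (Set.toFinite _)).symm
      · rintro _ ⟨y, hy, rfl⟩; exact hall y hy
      · rw [h.four _ _ h0, Set.ncard_image_of_injective _ hinj,
          show {y | y ∈ l} = (l.toFinset : Set (Fin 13)) by ext; simp, Set.ncard_coe_finset,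
          List.toFinset_card_of_nodup hlen.2, hlen.1]
    rw [himg] at ha hb hc
    obtain ⟨a', ha', ea⟩ := ha
    obtain ⟨b', hb', eb⟩ := hb
    obtain ⟨c', hc', ec⟩ := hc
    exact ⟨l, hl, hinj ea ▸ ha', hinj eb ▸ hb', hinj ec ▸ hc'⟩

end CfsgLib.Char.LThreeThree
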