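import Cfsg.Agent.Lib.Char.LThreeThree.Frame
import Cfsg.Agent.Lib.Char.LThreeThree.Plane

/-!
# A group of order 5616 with an involution centraliser `GL(2,3)` is `L₃(3)`
-/

set_option autoImplicit false
set_option linter.all false

open Subgroup

namespace CfsgLib.Char.LThreeThree

variable {G : Type*} [Group G] [Finite G] {t : G} {el : Fin 48 → G} {E : Subgroup G} {h : Hyp t el}

theorem Frame.mem_norm_of_conj (F : Frame h E) {e g : G} (he : e ∈ E) (h1 : e ≠ 1) (hg : g * e * g⁻¹ ∈ E) :
    g ∈ normalizer (E : Set G) := by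
  obtain ⟨a, ha, hae⟩ := F.trans e he h1
  obtain ⟨b, hb, hbe⟩ := F.trans _ hg (by rwa [Ne, conj_eq_one_iff])
  have hc : b⁻¹ * g * a ∈ centralizer ({el xI} : Set G) := by
    refine mem_centralizer_singleton_iff.2 (mul_inv_eq_iff_eq_mul.1 ?_)
    rw [show b⁻¹ * g * a * el xI * (b⁻¹ * g * a)⁻¹ = b⁻¹ * (g * (a * el xI * a⁻¹) * g⁻¹) * b by group, hae, ← hbe]
    group
  have := mul_mem (mul_mem hb (F.cent hc)) (inv_mem ha)
  rwa [show b * (b⁻¹ * g * a) * a⁻¹ = g by group] at this

theorem Frame.isPGroup (F : Frame h E) : IsPGroup 3 E := IsPGroup.of_card (n := 2) (by rw [F.card]; norm_num)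

theorem Frame.le_norm (F : Frame h E) : E ≤ normalizer (E : Set G) := le_normalizer

theorem Frame.le_sylow (F : Frame h E) {Q : Sylow 3 G} (hQ : (Q : Subgroup G) ≤ normalizer (E : Set G)) :
    E ≤ (Q : Subgroup G) := by
  exact le_sup_right.trans (Q.3 (Q.2.to_sup_of_normal_right' F.isPGroup hQ) le_sup_left).le

theorem Frame.sylow_le (F : Frame h E) {Q : Sylow 3 G} (hQ : E ≤ (Q : Subgroup G)) :
    (Q : Subgroup G) ≤ normalizer (E : Set G) := by
  have hQc := h.card_sylow_three Q
  refine (normal_subgroupOf_iff_le_normalizer hQ).1 ?_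
  have h3 : (E.subgroupOf (Q : Subgroup G)).index = 3 := by
    have := (E.subgroupOf (Q : Subgroup G)).card_mul_index
    rw [Nat.card_congr (subgroupOfEquivOfLe hQ).toEquiv, F.card, hQc] at this
    omega
  refine normal_of_index_eq_minFac_card ?_
  rw [h3, hQc]; norm_num

theorem Frame.sylow_norm (F : Frame h E) {Q : Sylow 3 G} (hQ : (Q : Subgroup G) ≤ normalizer (E : Set G))
    {n : G} (hn : n ∈ normalizer ((Q : Subgroup G) : Set G)) : n ∈ normalizer (E : Set G) := by
  haveI : Fact (Nat.Prime 3) := ⟨Nat.prime_three⟩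
  have hEQ := F.le_sylow hQ
  obtain ⟨c, hc, hc1, hcc⟩ := exists_central Q.2 hEQ hQ (fun e => by
    have := F.card; rw [e, card_bot] at this; norm_num at this)
  refine F.mem_norm_of_conj hc hc1 (F.self _ fun e he => ?_)
  have hq : n⁻¹ * e * n ∈ (Q : Subgroup G) := by
    have := (mem_normalizer_iff.1 (inv_mem hn) e).1 (hEQ he)
    rwa [inv_inv] at this
  calc n * c * n⁻¹ * e = n * (c * (n⁻¹ * e * n)) * n⁻¹ := by group
    _ = n * (n⁻¹ * e * n * c) * n⁻¹ := by rw [hcc _ hq]
    _ = e * (n * c * n⁻¹) := by group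

/-- No Sylow subgroup normalizes two conjugates of `E`. -/
theorem Frame.conj_eq (F : Frame h E) {g : G} {Q : Sylow 3 G} (hQ : (Q : Subgroup G) ≤ normalizer (E : Set G))
    (hQ' : ∀ q ∈ (Q : Subgroup G), g⁻¹ * q * g ∈ normalizer (E : Set G)) : g ∈ normalizer (E : Set G) := by
  haveI : Fact (Nat.Prime 3) := ⟨Nat.prime_three⟩
  set M := normalizer (E : Set G) with hM
  have hQ'' : ((g⁻¹ • Q : Sylow 3 G) : Subgroup G) ≤ M := by
    rintro w ⟨q, hq, rfl⟩
    have := hQ' q hq
    show g⁻¹ * q * g⁻¹⁻¹ ∈ M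
    rwa [inv_inv]
  obtain ⟨⟨m, hm⟩, hmQ⟩ := MulAction.exists_smul_eq M (Q.subtype hQ) ((g⁻¹ • Q).subtype hQ'')
  rw [Sylow.smul_subtype] at hmQ
  have he : m • Q = g⁻¹ • Q := Sylow.subtype_injective hmQ
  have hn := F.sylow_norm hQ (Sylow.smul_eq_iff_mem_normalizer.1
    (show (g * m) • Q = Q by rw [mul_smul, he, smul_inv_smul]))
  exact (mul_mem_cancel_right hm).1 hn

/-- Two conjugates of `E` meet trivially unless they are equal. -/
theorem Frame.inter (F : Frame h E) {g e : G} (he : e ∈ E) (he' : g⁻¹ * e * g ∈ E) (h1 : e ≠ 1) :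
    g ∈ normalizer (E : Set G) := by
  have := F.mem_norm_of_conj (g := g⁻¹) he h1 (by rwa [inv_inv])
  simpa using inv_mem this

local notation "Pts" E => G ⧸ normalizer ((E : Subgroup G) : Set G)

/-- Membership in the conjugate of `E` attached to a point. -/
def inE (E : Subgroup G) (a : Pts E) (v : G) : Prop := a.out⁻¹ * v * a.out ∈ E

theorem inE_mk (g v : G) :
    inE E (QuotientGroup.mk g : Pts E) v ↔ g⁻¹ * v * g ∈ E := by
  obtain ⟨m, hm⟩ := QuotientGroup.mk_out_eq_mul (normalizer (E : Set G)) g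
  rw [inE, hm, show (g * (m : G))⁻¹ * v * (g * (m : G)) = (m : G)⁻¹ * (g⁻¹ * v * g) * (m : G) by group]
  have := mem_normalizer_iff.1 (inv_mem m.2) (g⁻¹ * v * g)
  rw [inv_inv] at this
  exact this.symm

theorem inE_smul (g v : G) (a : Pts E) : inE E (g • a) v ↔ inE E a (g⁻¹ * v * g) := by
  obtain ⟨a, rfl⟩ := QuotientGroup.mk_surjective a
  rw [show g • (QuotientGroup.mk a : Pts E) = QuotientGroup.mk (g * a) from rfl, inE_mk, inE_mk]
  simp [mul_assoc]

theorem fix_mk (g v : G) :
    v • (QuotientGroup.mk g : Pts E) = QuotientGroup.mk g ↔ g⁻¹ * v * g ∈ normalizer (E : Set G) := by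
  rw [show v • (QuotientGroup.mk g : Pts E) = QuotientGroup.mk (v * g) from rfl, eq_comm, QuotientGroup.eq]
  simp [mul_assoc]

theorem inE_fix {a : Pts E} {v : G} (hv : inE E a v) : v • a = a := by
  obtain ⟨a, rfl⟩ := QuotientGroup.mk_surjective a
  exact (fix_mk a v).2 (le_normalizer ((inE_mk a v).1 hv))

theorem Frame.card_pts (F : Frame h E) : Nat.card (Pts E) = 13 := by
  have := (normalizer (E : Set G)).index_mul_card
  rw [F.card_norm, h.card] at this
  show (normalizer (E : Set G)).index = 13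
  omega

/-- `E` fixes only its own point. -/
theorem Frame.fix_base (F : Frame h E) {b : Pts E} (hb : ∀ e ∈ E, e • b = b) :
    b = QuotientGroup.mk 1 := by
  obtain ⟨g, rfl⟩ := QuotientGroup.mk_surjective b
  suffices g ∈ normalizer (E : Set G) by rw [QuotientGroup.eq]; simpa using this
  set E' := E.map (MulAut.conj g).toMonoidHom with hE'
  have hle : E ≤ normalizer (E' : Set G) := by
    intro e he
    have he' : g⁻¹ * e * g ∈ normalizer (E : Set G) := (fix_mk g e).1 (hb e he)
    refine mem_normalizer_iff.2 fun w => ?_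
    rw [hE', Subgroup.mem_map_equiv, Subgroup.mem_map_equiv, MulAut.conj_symm_apply, MulAut.conj_symm_apply,
      show g⁻¹ * (e * w * e⁻¹) * g = (g⁻¹ * e * g) * (g⁻¹ * w * g) * (g⁻¹ * e * g)⁻¹ by group]
    exact mem_normalizer_iff.1 he' _
  obtain ⟨Q, hQ⟩ := (F.isPGroup.to_sup_of_normal_right' (F.isPGroup.map _) hle).exists_le_sylow
  have hQM := F.sylow_le (le_sup_left.trans hQ)
  refine F.conj_eq hQM ?_
  have hQ' : E ≤ ((g⁻¹ • Q : Sylow 3 G) : Subgroup G) := fun e he =>
    ⟨g * e * g⁻¹, hQ (mem_sup_right ⟨e, he, rfl⟩), by show g⁻¹ * (g * e * g⁻¹) * g⁻¹⁻¹ = e; group⟩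
  intro q hq
  refine F.sylow_le hQ' ⟨q, hq, ?_⟩
  show g⁻¹ * q * g⁻¹⁻¹ = g⁻¹ * q * g
  rw [inv_inv]

theorem Frame.ncard_fix_conj (F : Frame h E) {a : Pts E} {k : G} (hk : inE E a k) (h1 : k ≠ 1) :
    {c : Pts E | k • c = c}.ncard = {c : Pts E | el xI • c = c}.ncard := by
  obtain ⟨a, rfl⟩ := QuotientGroup.mk_surjective a
  obtain ⟨m, -, hm⟩ := F.trans _ ((inE_mk a k).1 hk) (fun e => h1 (by
    have := congrArg (fun w => a * w * a⁻¹) e
    simpa [mul_assoc] using this))
  have hk' : k = (a * m) * el xI * (a * m)⁻¹ := by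
    rw [show (a * m) * el xI * (a * m)⁻¹ = a * (m * el xI * m⁻¹) * a⁻¹ by group, hm]; group
  have himg : {c : Pts E | k • c = c} = (fun c : Pts E => (a * m) • c) '' {c : Pts E | el xI • c = c} := by
    ext c
    constructor
    · intro hc
      refine ⟨(a * m)⁻¹ • c, ?_, smul_inv_smul _ _⟩
      show el xI • (a * m)⁻¹ • c = (a * m)⁻¹ • c
      rw [eq_inv_smul_iff, smul_smul, smul_smul, ← hk']
      exact hc
    · rintro ⟨c, hc, rfl⟩
      show k • (a * m) • c = (a * m) • c
      rw [smul_smul, hk', inv_mul_cancel_right, mul_smul _ (el xI), show el xI • c = c from hc]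
  rw [himg, Set.ncard_image_of_injective _ (MulAction.injective _)]

/-- The orbits of `E` away from its point. -/
theorem Frame.orbits (F : Frame h E) :
    {c : Pts E | el xI • c = c}.ncard = 4 ∧ ∀ b : Pts E, b ≠ QuotientGroup.mk 1 →
      ∃ k ∈ E, k ≠ 1 ∧ k • b = b ∧ ∀ k' ∈ E, k' • b = b → k' ∈ zpowers k := by
  classical
  haveI : Fact (Nat.Prime 3) := ⟨Nat.prime_three⟩
  haveI : Fintype G := Fintype.ofFinite G
  haveI : Fintype (Pts E) := Fintype.ofFinite _
  set o : Pts E := QuotientGroup.mk 1 with ho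
  set r := {c : Pts E | el xI • c = c}.ncard with hr
  let P : Finset (Pts E) := Finset.univ.erase o
  let Es : Finset G := Finset.univ.filter fun e => e ∈ E ∧ e ≠ 1
  have hEs : Es.card = 8 := by
    rw [show Es = (Finset.univ.filter fun e => e ∈ E).erase 1 by ext; simp [Es, and_comm],
      Finset.card_erase_of_mem (by simp [one_mem]), ← Fintype.card_subtype, ← Nat.card_eq_fintype_card, F.card]
  have hP : P.card = 12 := by
    rw [Finset.card_erase_of_mem (Finset.mem_univ _), Finset.card_univ, ← Nat.card_eq_fintype_card, F.card_pts]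
  have hfixo : ∀ e ∈ E, e • o = o := fun e he => inE_fix ((inE_mk 1 e).2 (by simpa using he))
  have hcount : ∀ e ∈ Es, (P.filter fun b => e • b = b).card + 1 = r := by
    intro e he
    simp only [Es, Finset.mem_filter] at he
    have h1 := F.ncard_fix_conj (a := o) ((inE_mk 1 e).2 (by simpa using he.2.1)) he.2.2
    rw [hr, ← h1, Set.ncard_eq_toFinset_card']
    rw [show ({c : Pts E | e • c = c}.toFinset) = insert o (P.filter fun b => e • b = b) by
      ext c
      simp only [Set.mem_toFinset, Set.mem_setOf_eq, Finset.mem_insert, Finset.mem_filter, P, Finset.mem_erase,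
        Finset.mem_univ, and_true]
      constructor
      · intro hc; exact (em (c = o)).imp id fun hne => ⟨hne, hc⟩
      · rintro (rfl | ⟨-, hc⟩)
        exacts [hfixo e he.2.1, hc]]
    rw [Finset.card_insert_of_notMem (by simp [P])]
  -- stabilisers
  let K : (Pts E) → Subgroup G := fun b => E ⊓ MulAction.stabilizer G b
  have hKs : ∀ b ∈ P, (Es.filter fun e => e • b = b).card + 1 = Nat.card (K b) := by
    intro b hb
    rw [show Es.filter (fun e => e • b = b) = (Finset.univ.filter fun e => e ∈ K b).erase 1 by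
      ext e; simp [Es, K, MulAction.mem_stabilizer_iff]; tauto, Finset.card_erase_of_mem (by simp [one_mem]),
      ← Fintype.card_subtype, ← Nat.card_eq_fintype_card]
    have := Nat.card_pos (α := K b)
    omega
  have hKc : ∀ b ∈ P, Nat.card (K b) = 1 ∨ Nat.card (K b) = 3 := by
    intro b hb
    have hd : Nat.card (K b) ∣ 3 ^ 2 := (card_dvd_of_le inf_le_left).trans (by rw [F.card]; norm_num)
    obtain ⟨j, hj, hj'⟩ := (Nat.dvd_prime_pow Nat.prime_three).1 hd
    have hne : Nat.card (K b) ≠ 9 := fun e9 => by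
      have he : K b = E := eq_of_le_of_card_ge inf_le_left (by rw [e9, F.card])
      exact (Finset.mem_erase.1 hb).1 (F.fix_base fun e he' => (mem_inf.1 (he.symm.le he')).2)
    rw [hj'] at hne ⊢
    interval_cases j <;> simp_all
  have hdouble : ∑ b ∈ P, (Es.filter fun e => e • b = b).card = ∑ e ∈ Es, (P.filter fun b => e • b = b).card :=
    Finset.sum_card_bipartiteAbove_eq_sum_card_bipartiteBelow (fun (b : Pts E) (e : G) => e • b = b)
  set F₁ := P.filter fun b => Nat.card (K b) = 1 with hF₁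
  have hsum : ∑ b ∈ P, (Es.filter fun e => e • b = b).card + 2 * F₁.card = 24 := by
    rw [hF₁, Finset.card_filter, Finset.mul_sum, ← Finset.sum_add_distrib,
      Finset.sum_congr rfl (g := fun _ => 2) fun b hb => ?_, Finset.sum_const, hP]
    · rfl
    · rcases hKc b hb with e | e
      · have := hKs b hb
        rw [e] at this
        rw [if_pos e]; omega
      · have := hKs b hb
        rw [e] at this
        rw [if_neg (by omega : Nat.card (K b) ≠ 1)]; omega
  have hr8 : ∑ e ∈ Es, (P.filter fun b => e • b = b).card = 8 * (r - 1) := by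
    rw [Finset.sum_congr rfl (g := fun _ => r - 1) (fun e he => by have := hcount e he; omega), Finset.sum_const,
      hEs, smul_eq_mul]
  -- free orbits
  have horb : ∀ b ∈ F₁, ∃ O : Finset (Pts E), O.card = 9 ∧ O ⊆ F₁ ∧ b ∈ O ∧ (∀ e ∈ E, ∀ c ∈ O, e • c ∈ O) ∧ ∀ w ∈ O, ∃ e ∈ E, e • w = b := by
    intro b hb
    obtain ⟨hbP, hb1⟩ := Finset.mem_filter.1 hb
    have hbo := (Finset.mem_erase.1 hbP).1
    refine ⟨(Finset.univ.filter fun e => e ∈ E).image (fun e => e • b), ?_, ?_, ?_, ?_, ?_⟩
    · rw [Finset.card_image_of_injOn, ← Fintype.card_subtype, ← Nat.card_eq_fintype_card, F.card]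
      intro e he e' he' hee
      simp only [Finset.coe_filter, Finset.mem_univ, true_and, Set.mem_setOf_eq] at he he'
      have : e'⁻¹ * e ∈ K b := mem_inf.2 ⟨mul_mem (inv_mem he') he, by
        rw [MulAction.mem_stabilizer_iff, mul_smul, show e • b = e' • b from hee, inv_smul_smul]⟩
      rw [card_eq_one.1 hb1, mem_bot, inv_mul_eq_one] at this
      exact this.symm
    · intro c hc
      obtain ⟨e, he, rfl⟩ := Finset.mem_image.1 hc
      simp only [Finset.mem_filter, Finset.mem_univ, true_and] at he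
      refine Finset.mem_filter.2 ⟨Finset.mem_erase.2 ⟨fun e' => hbo ?_, Finset.mem_univ _⟩, ?_⟩
      · rw [eq_inv_smul_iff.2 e', hfixo _ (inv_mem he)]
      · rw [← hb1]
        refine congrArg (fun H : Subgroup G => Nat.card H) ?_
        ext k
        simp only [K, mem_inf, MulAction.mem_stabilizer_iff]
        refine and_congr_right fun hk => ?_
        rw [smul_smul, F.comm k hk e he, ← smul_smul, smul_left_cancel_iff]
    · exact Finset.mem_image.2 ⟨1, by simp [one_mem], one_smul _ _⟩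
    · intro e he c hc
      obtain ⟨e', he', rfl⟩ := Finset.mem_image.1 hc
      exact Finset.mem_image.2 ⟨e * e', by simp at he' ⊢; exact mul_mem he he', mul_smul e e' b⟩
    · intro w hw
      obtain ⟨e', he', rfl⟩ := Finset.mem_image.1 hw
      exact ⟨e'⁻¹, inv_mem (Finset.mem_filter.1 he').2, inv_smul_smul e' b⟩
  have hF0 : F₁.card = 0 := by
    by_contra hne
    obtain ⟨b, hb⟩ := Finset.card_pos.1 (Nat.pos_of_ne_zero hne)
    obtain ⟨O, hO9, hOsub, hbO, hOst, -⟩ := horb b hb
    have h9 := Finset.card_le_card hOsub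
    have h12 : F₁.card ≤ 12 := hP ▸ Finset.card_filter_le _ _
    obtain ⟨c, hc, hcO⟩ : ∃ c ∈ F₁, c ∉ O := Finset.exists_mem_notMem_of_card_lt_card (by omega)
    obtain ⟨O', hO'9, hO'sub, hcO', -, hback⟩ := horb c hc
    have hdis : Disjoint O O' := by
      rw [Finset.disjoint_left]
      intro w hw hw'
      obtain ⟨e, he, hew⟩ := hback w hw'
      exact hcO (hew ▸ hOst e he w hw)
    have := Finset.card_le_card (Finset.union_subset hOsub hO'sub)
    rw [Finset.card_union_of_disjoint hdis, hO9, hO'9] at this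
    omega
  refine ⟨by omega, fun b hb => ?_⟩
  have hbP : b ∈ P := Finset.mem_erase.2 ⟨hb, Finset.mem_univ _⟩
  have hK3 : Nat.card (K b) = 3 := (hKc b hbP).resolve_left fun e =>
    Finset.notMem_empty b (Finset.card_eq_zero.1 hF0 ▸ Finset.mem_filter.2 ⟨hbP, e⟩)
  obtain ⟨k, hk⟩ := exists_prime_orderOf_dvd_card' (G := K b) 3 (by rw [hK3])
  rw [← Subgroup.orderOf_coe] at hk
  refine ⟨k, (mem_inf.1 k.2).1, fun e => by rw [e, orderOf_one] at hk; norm_num at hk, (mem_inf.1 k.2).2,
    fun k' h1 h2 => ?_⟩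
  rw [eq_of_le_of_card_ge (zpowers_le.2 k.2) (by rw [hK3, Nat.card_zpowers, hk])]
  exact mem_inf.2 ⟨h1, h2⟩

/-- The line through two points. -/
def lineThrough (E : Subgroup G) (a b : Pts E) : Set (Pts E) :=
  {c | ∀ k, inE E a k → k • b = b → k • c = c}

theorem lineThrough_smul (g : G) (a b c : Pts E) :
    g • c ∈ lineThrough E (g • a) (g • b) ↔ c ∈ lineThrough E a b := by
  constructor
  · intro hc k hk hkb
    have h1 := hc (g * k * g⁻¹) ((inE_smul g _ a).2 (by simpa [mul_assoc] using hk))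
      (by rw [smul_smul, inv_mul_cancel_right, mul_smul, hkb])
    rwa [smul_smul, inv_mul_cancel_right, mul_smul, smul_left_cancel_iff] at h1
  · intro hc k hk hkb
    have h1 := hc (g⁻¹ * k * g) ((inE_smul g k a).1 hk)
      (by rw [mul_smul, mul_smul, hkb, inv_smul_smul])
    rwa [mul_smul, mul_smul, inv_smul_eq_iff] at h1

theorem Frame.exists_gen (F : Frame h E) {a b : Pts E} (hab : a ≠ b) :
    ∃ k, k ≠ 1 ∧ inE E a k ∧ k • b = b ∧ ∀ k', inE E a k' → k' • b = b → k' ∈ zpowers k := by
  obtain ⟨g, rfl⟩ := QuotientGroup.mk_surjective a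
  have hb : g⁻¹ • b ≠ QuotientGroup.mk 1 := fun e => hab (by
    rw [inv_smul_eq_iff.1 e, show g • (QuotientGroup.mk 1 : Pts E) = QuotientGroup.mk (g * 1) from rfl, mul_one])
  obtain ⟨k, hk, hk1, hkb, hall⟩ := F.orbits.2 _ hb
  refine ⟨g * k * g⁻¹, by rwa [Ne, conj_eq_one_iff], (inE_mk g _).2 (by simpa [mul_assoc] using hk), ?_, ?_⟩
  · rw [mul_smul, mul_smul, hkb, smul_inv_smul]
  · intro k' hk' hkb'
    obtain ⟨j, hj⟩ := mem_zpowers_iff.1 (hall (g⁻¹ * k' * g) ((inE_mk g k').1 hk')
      (by rw [mul_smul, mul_smul, smul_inv_smul, hkb']))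
    exact mem_zpowers_iff.2 ⟨j, by rw [conj_zpow, hj]; group⟩

theorem Frame.line_eq (F : Frame h E) {a b : Pts E} {k : G} (hk : inE E a k) (hkb : k • b = b)
    (hall : ∀ k', inE E a k' → k' • b = b → k' ∈ zpowers k) : lineThrough E a b = {c | k • c = c} := by
  ext c
  refine ⟨fun hc => hc k hk hkb, fun hc k' hk' hkb' => ?_⟩
  exact (zpowers_le.2 (MulAction.mem_stabilizer_iff.2 hc) : zpowers k ≤ MulAction.stabilizer G c) (hall k' hk' hkb')

theorem Frame.line_four (F : Frame h E) {a b : Pts E} (hab : a ≠ b) : (lineThrough E a b).ncard = 4 := by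
  obtain ⟨k, h1, hk, hkb, hall⟩ := F.exists_gen hab
  rw [F.line_eq hk hkb hall, F.ncard_fix_conj hk h1, F.orbits.1]

theorem Frame.line_left {a b : Pts E} : a ∈ lineThrough E a b := fun k hk _ => inE_fix hk

theorem Frame.line_right {a b : Pts E} : b ∈ lineThrough E a b := fun k _ hkb => hkb

theorem Frame.cube_inE (F : Frame h E) {a : Pts E} {k : G} (hk : inE E a k) : k ^ 3 = 1 := by
  have := F.cube _ hk
  rwa [show a.out⁻¹ * k * a.out = a.out⁻¹ * k * a.out⁻¹⁻¹ by rw [inv_inv], conj_pow, conj_eq_one_iff] at this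

theorem Frame.line_same (F : Frame h E) {a b c : Pts E} (hab : a ≠ b) (hc : c ∈ lineThrough E a b) (hca : c ≠ a) :
    lineThrough E a c = lineThrough E a b := by
  haveI : Fact (Nat.Prime 3) := ⟨Nat.prime_three⟩
  obtain ⟨k, h1, hk, hkb, hall⟩ := F.exists_gen hab
  obtain ⟨k', h1', hk', hkc', hall'⟩ := F.exists_gen (Ne.symm hca)
  have hz : zpowers k = zpowers k' := eq_of_le_of_card_ge (zpowers_le.2 (hall' k hk (hc k hk hkb))) (by
    rw [Nat.card_zpowers, Nat.card_zpowers, orderOf_eq_prime (F.cube_inE hk) h1,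
      orderOf_eq_prime (F.cube_inE hk') h1'])
  refine F.line_eq hk (hc k hk hkb) (fun w hw hwc => ?_) |>.trans (F.line_eq hk hkb hall).symm
  rw [hz]; exact hall' w hw hwc

theorem Frame.line_symm (F : Frame h E) {a b : Pts E} (hab : a ≠ b) :
    lineThrough E a b = lineThrough E b a := by
  obtain ⟨k, h1, hk, hkb, hall⟩ := F.exists_gen hab
  obtain ⟨k', h1', hk', hka', hall'⟩ := F.exists_gen hab.symm
  rw [F.line_eq hk hkb hall, F.line_eq hk' hka' hall']
  have hnorm : ∀ {c : Pts E} {u v : G}, inE E c v → u • c = c → inE E c (u * v * u⁻¹) := fun {c u v} hv hu =>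
    hu ▸ (inE_smul u _ c).2 (by simpa [mul_assoc] using hv)
  have hcomm : Commute k' k := by
    set w := k' * k * k'⁻¹ * k⁻¹ with hw
    have hinv : ∀ {c : Pts E} {v : G}, inE E c v → inE E c v⁻¹ := fun {c v} hv => by
      have := inv_mem hv
      simpa [inE, mul_assoc] using this
    have hmul : ∀ {c : Pts E} {u v : G}, inE E c u → inE E c v → inE E c (u * v) := fun {c u v} hu hv => by
      have := mul_mem hu hv
      simpa [inE, mul_assoc] using this
    have hwa : inE E a w := hmul (hnorm hk hka') (hinv hk)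
    have hwb : inE E b w := by
      rw [show w = k' * (k * k'⁻¹ * k⁻¹) by rw [hw]; group]
      exact hmul hk' (hnorm (hinv hk') hkb)
    by_contra hne
    have hw1 : w ≠ 1 := fun e => hne (mul_inv_eq_iff_eq_mul.1 (mul_inv_eq_one.1 e))
    obtain ⟨g, rfl⟩ := QuotientGroup.mk_surjective a
    obtain ⟨g', rfl⟩ := QuotientGroup.mk_surjective b
    rw [inE_mk] at hwa hwb
    refine hab (QuotientGroup.eq.2 (F.inter hwa ?_ (fun e => hw1 ?_)))
    · rw [show (g⁻¹ * g')⁻¹ * (g⁻¹ * w * g) * (g⁻¹ * g') = g'⁻¹ * w * g' by group]; exact hwb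
    · have := congrArg (fun w => g * w * g⁻¹) e
      simpa [mul_assoc] using this
  set S := {c : Pts E | k • c = c} with hS
  have hSc : S.ncard = 4 := by rw [hS, ← F.line_eq hk hkb hall, F.line_four hab]
  have hk'3 := F.cube_inE hk'
  refine Set.eq_of_subset_of_ncard_le ?_ (by rw [← F.line_eq hk' hka' hall', F.line_four hab.symm, hSc]) (Set.toFinite _)
  intro c hc
  by_contra hne
  replace hne : k' • c ≠ c := hne
  have hperm : ∀ d ∈ S, k' • d ∈ S := fun d hd => by
    show k • k' • d = k' • d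
    rw [smul_smul, ← hcomm.eq, mul_smul, show k • d = d from hd]
  have hfixa : k' • a = a := hka'
  have hfixb : k' • b = b := inE_fix hk'
  set c1 := k' • c with hc1
  set c2 := k' • c1 with hc2
  have hc3 : k' • c2 = c := by rw [hc2, hc1, smul_smul, smul_smul, show k' * k' * k' = k' ^ 3 by rw [pow_succ, pow_two], hk'3, one_smul]
  have hca : ∀ d, k' • d ≠ d → d ≠ a ∧ d ≠ b := fun d hd => ⟨fun e => hd (e ▸ hfixa), fun e => hd (e ▸ hfixb)⟩
  have hn1 : k' • c1 ≠ c1 := fun e => hne (MulAction.injective k' e)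
  have hn2 : k' • c2 ≠ c2 := fun e => hn1 (MulAction.injective k' e)
  have hcc2 : c ≠ c2 := fun e => hn2 (by rw [hc3, ← e])
  have hsub : ({a, b, c, c1, c2} : Set (Pts E)) ⊆ S := by
    rintro d (rfl | rfl | rfl | rfl | rfl)
    exacts [inE_fix hk, hkb, hc, hperm c hc, hperm c1 (hperm c hc)]
  have h5 : ({a, b, c, c1, c2} : Set (Pts E)).ncard = 5 := by
    rw [Set.ncard_insert_of_notMem, Set.ncard_insert_of_notMem, Set.ncard_insert_of_notMem,
      Set.ncard_pair (Ne.symm hn1)]
    · simp only [Set.mem_insert_iff, Set.mem_singleton_iff, not_or]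
      exact ⟨Ne.symm hne, hcc2⟩
    · simp only [Set.mem_insert_iff, Set.mem_singleton_iff, not_or]
      exact ⟨(hca c hne).2.symm, (hca c1 hn1).2.symm, (hca c2 hn2).2.symm⟩
    · simp only [Set.mem_insert_iff, Set.mem_singleton_iff, not_or]
      exact ⟨hab, (hca c hne).1.symm, (hca c1 hn1).1.symm, (hca c2 hn2).1.symm⟩
  have := Set.ncard_le_ncard hsub (Set.toFinite _)
  omega

theorem Frame.space (F : Frame h E) : Space (lineThrough E) where
  card := F.card_pts
  left _ _ _ := Frame.line_left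
  right _ _ _ := Frame.line_right
  four _ _ hab := F.line_four hab
  closed a b c d hab hc hd hcd := by
    by_cases hca : c = a
    · subst hca; exact F.line_same hab hd (Ne.symm hcd)
    by_cases hda : d = a
    · subst hda
      rw [F.line_symm hcd]; exact F.line_same hab hc hca
    have h1 : lineThrough E c a = lineThrough E a b := by
      rw [F.line_symm hca]; exact F.line_same hab hc hca
    have hd' : d ∈ lineThrough E c a := h1 ▸ hd
    rw [F.line_same hca hd' (Ne.symm hcd), h1]

/-- A group satisfying the hypotheses is the collineation group of the plane of order three. -/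
theorem Hyp.iso_collineations (h : Hyp t el) : Nonempty (G ≃* collineations) := by
  classical
  obtain ⟨E, F⟩ := h.exists_frame
  haveI := h.simple
  obtain ⟨φ, hφ⟩ := F.space.exists_labelling
  let ψ : G →* Equiv.Perm (Fin 13) :=
    (Equiv.permCongrHom φ.symm).toMonoidHom.comp (MulAction.toPermHom G (Pts E))
  have hψ : ∀ g x, φ (ψ g x) = g • φ x := fun g x => by simp [ψ, Equiv.permCongr_apply]
  have hmem : ∀ g, ψ g ∈ collineations := by
    intro g a b c
    rw [hφ, hφ, hψ, hψ, hψ]
    constructor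
    · rintro ⟨u, v, huv, h1, h2, h3⟩
      refine ⟨g⁻¹ • u, g⁻¹ • v, fun e => huv (MulAction.injective g⁻¹ e), ?_, ?_, ?_⟩ <;>
        rw [← lineThrough_smul g, smul_inv_smul, smul_inv_smul] <;> assumption
    · rintro ⟨u, v, huv, h1, h2, h3⟩
      exact ⟨g • u, g • v, fun e => huv (MulAction.injective g e), (lineThrough_smul g u v _).2 h1,
        (lineThrough_smul g u v _).2 h2, (lineThrough_smul g u v _).2 h3⟩
  have hker : ψ.ker = ⊥ := by
    refine ((inferInstance : ψ.ker.Normal).eq_bot_or_eq_top).resolve_right fun e => ?_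
    have hM : normalizer (E : Set G) = ⊤ := by
      refine eq_top_iff.2 fun g _ => ?_
      have hg : g • (QuotientGroup.mk 1 : Pts E) = QuotientGroup.mk 1 := by
        have h1 : ψ g = 1 := MonoidHom.mem_ker.1 (e ▸ mem_top g)
        have := hψ g (φ.symm (QuotientGroup.mk 1))
        rwa [h1, Equiv.Perm.one_apply, Equiv.apply_symm_apply, eq_comm] at this
      simpa using (fix_mk 1 g).1 hg
    have := F.card_norm
    rw [hM, card_top, h.card] at this
    norm_num at this
  let ψ' : G →* collineations := ψ.codRestrict collineations hmem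
  have hinj : Function.Injective ψ' := fun u v e =>
    (MonoidHom.ker_eq_bot_iff ψ).1 hker (congrArg Subtype.val e)
  refine ⟨MulEquiv.ofBijective ψ' ((Nat.bijective_iff_injective_and_card ψ').2 ⟨hinj, ?_⟩)⟩
  exact le_antisymm (Nat.card_le_card_of_injective _ hinj) (h.card.symm ▸ card_collineations_le)

end CfsgLib.Char.LThreeThree
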