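import Cfsg.Agent.Lib.Char.GLThreeCent.Local

/-!
# Simplicity from an involution centraliser `GL(2,3)`
-/

set_option autoImplicit false
set_option linter.all false

open Subgroup

namespace CfsgLib.Char.LThreeThree

open CfsgLib.Char.GLThreeCent

/-- The involutions of the model and the identity. -/
def invList : List (Fin 48) := (List.finRange 48).filter fun i => decide (mulI i i = oneI)

theorem invList_mem : ∀ i ∈ invList, mulI i i = oneI := by decide +kernel

theorem invList_gen : ∀ i : Fin 48, ∃ a ∈ invList, ∃ b ∈ invList, mulI (mulI a b) i ∈ invList := by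
  decide +kernel

theorem odd_kills : ∀ i : Fin 48, i ≠ oneI →
    ∃ j : Fin 48, ∃ n : Fin 8, powI (mulI (mulI (mulI j i) (invI j)) i) n.val = tI ∨ powI i n.val = tI ∨
      isInv (powI i n.val) := by
  decide +kernel

theorem four_group : ∃ s : Fin 48, isInv s ∧ s ≠ tI := by decide +kernel

variable {G : Type*} [Group G] [Finite G] {t : G} {el : Fin 48 → G}

theorem normal_eq_bot_or_top (h : Emb t el) (hno2 : ∀ H : Subgroup G, H.index ≠ 2) (N : Subgroup G) [N.Normal] :
    N = ⊥ ∨ N = ⊤ := by
  classical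
  haveI : Fact (Nat.Prime 2) := ⟨Nat.prime_two⟩
  have hconj : ∀ u, u * u = 1 → u ≠ 1 → ∃ g : G, g * u * g⁻¹ = t := fun u h1 h2 =>
    isConj_iff.1 (h.isConj_invol hno2 u h1 h2).symm
  by_cases h2 : 2 ∣ Nat.card N
  · right
    obtain ⟨u, hu⟩ := exists_prime_orderOf_dvd_card' (G := N) 2 h2
    rw [← Subgroup.orderOf_coe] at hu
    obtain ⟨g, hg⟩ := hconj u (CfsgLib.Invol.invol_mul_self hu) (CfsgLib.Invol.invol_ne_one hu)
    have htN : t ∈ N := hg ▸ Normal.conj_mem inferInstance _ u.2 g
    have hinv : ∀ v : G, v * v = 1 → v ∈ N := by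
      intro v hv
      by_cases h1 : v = 1
      · exact h1 ▸ one_mem N
      obtain ⟨g, hg⟩ := hconj v hv h1
      have := Normal.conj_mem (inferInstance : N.Normal) _ htN g⁻¹
      rwa [← hg, show g⁻¹ * (g * v * g⁻¹) * g⁻¹⁻¹ = v by group] at this
    have hL : ∀ i ∈ invList, el i ∈ N := fun i hi => hinv _ (by rw [← h.mul, invList_mem i hi, h.one])
    have hCN : centralizer ({t} : Set G) ≤ N := by
      intro c hc
      obtain ⟨i, rfl⟩ := (h.mem c).1 hc
      obtain ⟨a, ha, b, hb, hab⟩ := invList_gen i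
      have := mul_mem (inv_mem (mul_mem (hL a ha) (hL b hb))) (hL _ hab)
      rwa [h.mul, h.mul, inv_mul_cancel_left] at this
    obtain ⟨S, hS⟩ := h.exists_sylow
    have hSN : (S : Subgroup G) ≤ N := by
      rw [hS]
      rintro _ ⟨i, -, rfl⟩
      exact hCN ((h.mem _).2 ⟨i, rfl⟩)
    have hF := Sylow.normalizer_sup_eq_top' S hSN
    refine top_le_iff.1 (hF.ge.trans (sup_le ?_ le_rfl))
    intro n hn
    refine hCN (mem_centralizer_singleton_iff.2 (mul_inv_eq_iff_eq_mul.1 ?_))
    have htS : t ∈ (S : Subgroup G) := hS ▸ ⟨tI, inP_facts.2.1, h.map_t⟩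
    obtain ⟨i, hiP, hi⟩ : n * t * n⁻¹ ∈ h.sub := hS ▸ (mem_normalizer_iff.1 hn t).1 htS
    have hi' : i = tI := by
      refine inP_centralizer i (fun j hj => h.inj ?_) (h.isInv_iff.1 ?_)
      · rw [h.mul, h.mul, hi]
        have hw : el j ∈ (S : Subgroup G) := hS ▸ ⟨j, hj, rfl⟩
        have hw' : n⁻¹ * el j * n ∈ (S : Subgroup G) := by
          have := (mem_normalizer_iff.1 (inv_mem hn) _).1 hw
          rwa [inv_inv] at this
        obtain ⟨k, -, hk⟩ := hS ▸ hw'
        have hkt : el k * t = t * el k := h.commute_t k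
        rw [hk] at hkt
        refine Eq.symm ?_
        calc el j * (n * t * n⁻¹) = n * ((n⁻¹ * el j * n) * t) * n⁻¹ := by group
          _ = n * (t * (n⁻¹ * el j * n)) * n⁻¹ := by rw [hkt]
          _ = n * t * n⁻¹ * el j := by group
      · rw [hi, show n * t * n⁻¹ * (n * t * n⁻¹) = n * (t * t) * n⁻¹ by group, h.t_invol.1]
        exact ⟨by group, fun e => h.t_invol.2 (conj_eq_one_iff.1 e)⟩
    rw [← hi, hi', h.map_t]
  · left
    have hno : ∀ u ∈ N, u * u = 1 → u = 1 := fun u hu huu => by
      by_contra h1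
      refine h2 ?_
      have ho : orderOf (⟨u, hu⟩ : N) = 2 := by
        rw [Subgroup.orderOf_mk]; exact orderOf_eq_prime (by rw [pow_two]; exact huu) h1
      exact ho ▸ orderOf_dvd_natCard _
    have hCt : ∀ u ∈ N, u * t = t * u → u = 1 := by
      intro u hu hc
      obtain ⟨i, rfl⟩ := (h.mem u).1 (mem_centralizer_singleton_iff.2 hc)
      by_contra h1
      obtain ⟨j, n, hn⟩ := odd_kills i (fun e => h1 (e ▸ h.one))
      rcases hn with e | e | e
      · have hm : el (powI (mulI (mulI (mulI j i) (invI j)) i) n.val) ∈ N := by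
          rw [h.pow, h.mul, h.mul, h.mul, h.inv]
          exact N.pow_mem (mul_mem (Normal.conj_mem inferInstance _ hu _) hu) _
        rw [e, h.map_t] at hm
        exact h.t_invol.2 (hno t hm h.t_invol.1)
      · have hm : el (powI i n.val) ∈ N := h.pow i _ ▸ N.pow_mem hu _
        rw [e, h.map_t] at hm
        exact h.t_invol.2 (hno t hm h.t_invol.1)
      · obtain ⟨e1, e2⟩ := h.isInv_iff.2 e
        exact e2 (hno _ (h.pow i _ ▸ N.pow_mem hu _) e1)
    have hinvert : ∀ v : G, v * v = 1 → v ≠ 1 → ∀ m ∈ N, v * m * v = m⁻¹ := by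
      intro v hv hv1
      have hCv : ∀ u ∈ N, u * v = v * u → u = 1 := by
        intro u hu hc
        obtain ⟨g, hg⟩ := hconj v hv hv1
        refine (conj_eq_one_iff (a := g)).1 (hCt _ (Normal.conj_mem inferInstance u hu g) ?_)
        rw [← hg, show g * u * g⁻¹ * (g * v * g⁻¹) = g * (u * v) * g⁻¹ by group, hc]; group
      have hvi : v⁻¹ = v := inv_eq_of_mul_eq_one_left hv
      have hmem : ∀ m ∈ N, v * m * v ∈ N := fun m hm => by
        have := Normal.conj_mem (inferInstance : N.Normal) m hm v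
        rwa [hvi] at this
      let f : N → N := fun m => ⟨(m : G)⁻¹ * (v * m * v), mul_mem (inv_mem m.2) (hmem m m.2)⟩
      have hinj : Function.Injective f := by
        intro a b e
        have e' : (a : G)⁻¹ * (v * a * v) = (b : G)⁻¹ * (v * b * v) := congrArg Subtype.val e
        have hc : ((b : G) * (a : G)⁻¹) * v = v * ((b : G) * (a : G)⁻¹) := by
          calc ((b : G) * (a : G)⁻¹) * v = (b : G) * ((a : G)⁻¹ * (v * a * v)) * (v⁻¹ * (a : G)⁻¹) := by group
            _ = (b : G) * ((b : G)⁻¹ * (v * b * v)) * (v⁻¹ * (a : G)⁻¹) := by rw [e']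
            _ = v * ((b : G) * (a : G)⁻¹) := by group
        exact Subtype.ext (mul_inv_eq_one.1 (hCv _ (mul_mem b.2 (inv_mem a.2)) hc)).symm
      intro m hm
      obtain ⟨⟨a, ha⟩, hae⟩ := (Finite.injective_iff_surjective.1 hinj) ⟨m, hm⟩
      have hae' : a⁻¹ * (v * a * v) = m := congrArg Subtype.val hae
      rw [← hae', show v * (a⁻¹ * (v * a * v)) * v = v * a⁻¹ * v * a * (v * v) by group, hv, mul_one,
        mul_inv_rev, inv_inv, mul_inv_rev, mul_inv_rev, hvi]
      group
    obtain ⟨s, hs, hst⟩ := four_group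
    obtain ⟨hs1, hs2⟩ := h.isInv_iff.2 hs
    refine (eq_bot_iff_forall N).2 fun m hm => ?_
    have hst1 : el s * t ≠ 1 := fun e => hst (h.inj (by
      rw [h.map_t, eq_inv_of_mul_eq_one_left e, inv_eq_of_mul_eq_one_left h.t_invol.1]))
    have hstst : el s * t * (el s * t) = 1 := by
      rw [show el s * t * (el s * t) = el s * (t * el s) * t by group, ← h.commute_t,
        show el s * (el s * t) * t = (el s * el s) * (t * t) by group, hs1, h.t_invol.1, one_mul]
    have h3 := hinvert _ hstst hst1 m hm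
    have h3' : el s * t * m * (el s * t) = m := by
      rw [show el s * t = t * el s from h.commute_t s]
      conv_lhs => arg 2; rw [← h.commute_t s]
      rw [show t * el s * m * (el s * t) = t * (el s * m * el s) * t by group, hinvert _ hs1 hs2 m hm]
      have := hinvert t h.t_invol.1 h.t_invol.2 _ (inv_mem hm)
      rwa [inv_inv] at this
    refine hno m hm ?_
    rw [h3'] at h3
    nth_rewrite 1 [h3]
    exact inv_mul_cancel m

theorem isSimple (h : Emb t el) (hno2 : ∀ H : Subgroup G, H.index ≠ 2) : IsSimpleGroup G := by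
  haveI : Nontrivial G := ⟨⟨t, 1, h.t_invol.2⟩⟩
  exact ⟨fun N hN => normal_eq_bot_or_top h hno2 N⟩

end CfsgLib.Char.LThreeThree
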