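import Cfsg.Agent.Lib.Char.LThreeThree.GLRecog
import Cfsg.Agent.Lib.Char.MEleven.Order.GL
import Cfsg.Agent.S0985
import Cfsg.Agent.Lib.Invol.OrdersThousand

/-!
# Simple groups of order 5616: some involution centralizer is `GL(2,3)`
-/

set_option autoImplicit false
set_option linter.all false

open Subgroup

namespace CfsgLib.Char.LThreeThree.SimpleOrder

open CfsgLib.Char.LThreeThree

theorem pf_four : ∀ a : Equiv.Perm (Fin 4), Equiv.Perm.sign a = 1 →
    a * a * (a * a) * (a * a * (a * a)) * (a * a * (a * a) * (a * a * (a * a))) = 1 →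
    (a = 1 ∨ (a * a = 1 ∧ ∀ i, a i ≠ i)) := by
  decide +kernel

theorem pf_alt_center : ∀ a : Equiv.Perm (Fin 4), Equiv.Perm.sign a = 1 →
    (∀ b : Equiv.Perm (Fin 4), Equiv.Perm.sign b = 1 → a * b = b * a) → a = 1 := by
  decide +kernel

set_option synthInstance.maxSize 1024 in
theorem pf_double_conj : ∀ a b : Equiv.Perm (Fin 4),
    (a * a = 1 ∧ ∀ i, a i ≠ i) → (b * b = 1 ∧ ∀ i, b i ≠ i) →
    ∃ g : Equiv.Perm (Fin 4), Equiv.Perm.sign g = 1 ∧ g * a * g⁻¹ = b := by
  decide +kernel

/-- A four-cycle. -/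
def sigma4 : Equiv.Perm (Fin 4) := ⟨![1, 2, 3, 0], ![3, 0, 1, 2], by decide, by decide⟩

/-- A transposition inverting the four-cycle. -/
def tau4 : Equiv.Perm (Fin 4) := Equiv.swap 0 2

theorem sigma4_sq : (sigma4 * sigma4) * (sigma4 * sigma4) = 1 ∧ (∀ i, (sigma4 * sigma4) i ≠ i) ∧
    tau4 * tau4 = 1 ∧ tau4 ≠ 1 ∧ ¬ (∀ i, tau4 i ≠ i) := by
  decide +kernel

theorem dih_card : Fintype.card {a : Equiv.Perm (Fin 4) // a * (sigma4 * sigma4) = sigma4 * sigma4 * a} = 8 := by
  decide +kernel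

theorem dih_conj : ∀ a : Equiv.Perm (Fin 4), a * (sigma4 * sigma4) = sigma4 * sigma4 * a →
    a * sigma4 * a⁻¹ = sigma4 ∨ a * sigma4 * a⁻¹ = sigma4⁻¹ := by
  decide +kernel

theorem dih_cases : ∀ a : Equiv.Perm (Fin 4), a * (sigma4 * sigma4) = sigma4 * sigma4 * a →
    a = 1 ∨ (a * a = 1 ∧ ∀ i, a i ≠ i) ∨ (a = sigma4 ∨ a = sigma4⁻¹) ∨
      (a * a = 1 ∧ a ≠ 1 ∧ ¬ ∀ i, a i ≠ i) := by
  decide +kernel

universe u

variable {G : Type u} [Group G] [Finite G]

/-- What the characters give. -/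
structure SHyp (G : Type u) [Group G] : Prop where
  card : Nat.card G = 5616
  conj : ∀ v w : G, orderOf v = 2 → orderOf w = 2 → IsConj v w
  cent : ∀ w : G, orderOf w = 2 → Nat.card (centralizer ({w} : Set G)) = 48
  other : ∀ w : G, orderOf w = 2 → ∃ t : G, orderOf t = 2 ∧ t * w = w * t ∧ t ≠ w
  noelem : ∀ E : Subgroup G, Nat.card E = 16 → (∀ a ∈ E, a * a = 1) → False
  three8 : ∀ y : G, orderOf y = 3 → ∀ V : Subgroup G, Nat.card V = 8 → (∀ v ∈ V, v * y = y * v) → False

variable {w : G}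

theorem SHyp.not_normal (H : SHyp G) (hw : orderOf w = 2) {x : centralizer ({w} : Set G)}
    (hx : orderOf x = 3) (hn : ∀ g, g * x * g⁻¹ ∈ zpowers x) : False := by
  classical
  haveI : Fact (Nat.Prime 2) := ⟨Nat.prime_two⟩
  set X : Subgroup (centralizer ({w} : Set G)) := zpowers x with hX
  have hXc : Nat.card X = 3 := by rw [hX, Nat.card_zpowers, hx]
  haveI hXn : X.Normal := ⟨fun v hv g => by
    obtain ⟨i, rfl⟩ := hv
    show g * x ^ i * g⁻¹ ∈ X
    rw [← conj_zpow]
    exact zpow_mem (hn g) i⟩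
  haveI : IsCyclic X := isCyclic_of_prime_card (p := 3) hXc
  set D := centralizer (X : Set (centralizer ({w} : Set G))) with hD
  have hidx : D.index ∣ 2 := by
    have h1 : (Subgroup.normalizerMonoidHom X).ker.index ∣ Nat.card (MulAut X) := by
      rw [Subgroup.index_ker]; exact Subgroup.card_subgroup_dvd_card _
    rw [Subgroup.normalizerMonoidHom_ker, IsCyclic.card_mulAut, hXc, Nat.totient_prime (by norm_num),
      ← Subgroup.relIndex, Subgroup.normalizer_eq_top_iff.2 hXn, Subgroup.relIndex_top_right] at h1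
    exact h1
  have h8 : 2 ^ 3 ∣ Nat.card D := by
    have h := D.card_mul_index
    rw [H.cent w hw] at h
    rcases (Nat.dvd_prime Nat.prime_two).1 hidx with e | e <;> rw [e] at h
    · exact ⟨6, by omega⟩
    · exact ⟨3, by omega⟩
  obtain ⟨V, hV⟩ := Sylow.exists_subgroup_card_pow_prime (G := D) 2 h8
  refine H.three8 (x : G) (by rw [Subgroup.orderOf_coe, hx]) ((V.map D.subtype).map (centralizer ({w} : Set G)).subtype)
    (by rw [card_map_of_injective (centralizer ({w} : Set G)).subtype_injective, card_map_of_injective D.subtype_injective, hV]; norm_num)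
    ?_
  rintro _ ⟨a, ⟨b, -, rfl⟩, rfl⟩
  exact (congrArg Subtype.val (mem_centralizer_iff.1 b.2 x (mem_zpowers x))).symm

/-- The action on the four Sylow three-subgroups. -/
theorem SHyp.exists_action (H : SHyp G) (hw : orderOf w = 2) :
    ∃ ρ : centralizer ({w} : Set G) →* Equiv.Perm (Fin 4),
      (⟨w, mem_centralizer_singleton_iff.2 rfl⟩ : centralizer ({w} : Set G)) ∈ ρ.ker ∧
      (∀ k ∈ ρ.ker, ∀ y : centralizer ({w} : Set G), orderOf y = 3 → k * y = y * k) ∧
      ((Nat.card ρ.ker = 4 ∧ ρ.range = alternatingGroup (Fin 4)) ∨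
        (Nat.card ρ.ker = 2 ∧ Function.Surjective ρ)) := by
  classical
  haveI : Fact (Nat.Prime 3) := ⟨Nat.prime_three⟩
  haveI : Fact (Nat.Prime 2) := ⟨Nat.prime_two⟩
  have hQ := H.cent w hw
  have hnn := fun x => H.not_normal hw (x := x)
  have hz : orderOf (⟨w, mem_centralizer_singleton_iff.2 rfl⟩ : centralizer ({w} : Set G)) = 2 := by
    rw [Subgroup.orderOf_mk, hw]
  have hzc : ∀ a : centralizer ({w} : Set G), a * (⟨w, mem_centralizer_singleton_iff.2 rfl⟩) =
      ⟨w, mem_centralizer_singleton_iff.2 rfl⟩ * a := fun a => Subtype.ext (mem_centralizer_singleton_iff.1 a.2)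
  generalize hzdef : (⟨w, mem_centralizer_singleton_iff.2 rfl⟩ : centralizer ({w} : Set G)) = z at hz hzc ⊢
  clear hzdef
  revert z
  generalize (centralizer ({w} : Set G)) = C at hQ hnn ⊢
  intro z hz hzc
  have hPc : ∀ P : Sylow 3 C, Nat.card (P : Subgroup C) = 3 := by
    intro P
    rw [P.card_eq_multiplicity, hQ, show (48 : ℕ) = 2 ^ 4 * 3 ^ 1 by norm_num,
      Nat.factorization_mul (by norm_num) (by norm_num), Nat.prime_two.factorization_pow,
      Nat.prime_three.factorization_pow]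
    simp
  have hzN : ∀ P : Sylow 3 C, z ∈ normalizer ((P : Subgroup C) : Set C) := fun P =>
    centralizer_le_normalizer _ (mem_centralizer_iff.2 fun p _ => hzc p)
  have hn4 : Nat.card (Sylow 3 C) = 4 := by
    obtain ⟨P⟩ : Nonempty (Sylow 3 C) := inferInstance
    have h6 : 6 ∣ Nat.card (normalizer ((P : Subgroup C) : Set C)) :=
      (by norm_num : Nat.Coprime 3 2).mul_dvd_of_dvd_of_dvd ((hPc P).symm.dvd.trans (card_dvd_of_le le_normalizer))
        (hz ▸ Subgroup.orderOf_dvd_natCard _ (hzN P))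
    have hmul : Nat.card (Sylow 3 C) * Nat.card (normalizer ((P : Subgroup C) : Set C)) = 48 := by
      rw [P.card_eq_index_normalizer, ← hQ]; exact index_mul_card _
    have hmod := card_sylow_modEq_one 3 C
    obtain ⟨m, hm⟩ := h6
    rw [hm] at hmul
    have hd : Nat.card (Sylow 3 C) ∣ 8 := ⟨m, by nlinarith⟩
    have hne : Nat.card (Sylow 3 C) ≠ 1 := by
      intro e
      rw [P.card_eq_index_normalizer, index_eq_one] at e
      haveI : (P : Subgroup C).Normal := normalizer_eq_top_iff.1 e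
      obtain ⟨x, hx⟩ := exists_prime_orderOf_dvd_card' (G := (P : Subgroup C)) 3 (by rw [hPc P])
      rw [← Subgroup.orderOf_coe] at hx
      have hPx : zpowers (x : C) = (P : Subgroup C) :=
        eq_of_le_of_card_ge (zpowers_le.2 x.2) (by rw [hPc P, Nat.card_zpowers, hx])
      exact hnn x hx fun g => by rw [hPx]; exact Normal.conj_mem inferInstance _ x.2 g
    have key : ∀ n < 9, n ∣ 8 → n % 3 = 1 % 3 → n ≠ 1 → n = 4 := by decide
    exact key _ (Nat.lt_succ_of_le (Nat.le_of_dvd (by norm_num) hd)) hd hmod hne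
  have ε : Sylow 3 C ≃ Fin 4 := Finite.equivFinOfCardEq hn4
  let ρ : C →* Equiv.Perm (Fin 4) := (Equiv.permCongrHom ε).toMonoidHom.comp (MulAction.toPermHom C (Sylow 3 C))
  have hρ : ∀ (g : C) (i : Fin 4), ρ g i = ε (g • ε.symm i) := fun g i => rfl
  have hker : ∀ k ∈ ρ.ker, ∀ P : Sylow 3 C, k ∈ normalizer ((P : Subgroup C) : Set C) := by
    intro k hk P
    refine Sylow.smul_eq_iff_mem_normalizer.1 (ε.injective ?_)
    have h1 := hρ k (ε P)
    rw [MonoidHom.mem_ker.1 hk, ε.symm_apply_apply] at h1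
    exact h1.symm
  obtain ⟨P₁, P₂, hP12⟩ : ∃ a b : Sylow 3 C, a ≠ b := by
    haveI : Nontrivial (Sylow 3 C) := Finite.one_lt_card_iff_nontrivial.1 (by rw [hn4]; norm_num)
    exact exists_pair_ne _
  have hzK : z ∈ ρ.ker := by
    refine MonoidHom.mem_ker.2 (Equiv.ext fun i => ?_)
    rw [hρ, Sylow.smul_eq_iff_mem_normalizer.2 (hzN _), ε.apply_symm_apply]
    rfl
  have hK3 : ¬ 3 ∣ Nat.card ρ.ker := by
    intro hd
    obtain ⟨x, hx⟩ := exists_prime_orderOf_dvd_card' (G := ρ.ker) 3 hd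
    rw [← Subgroup.orderOf_coe] at hx
    have hall : ∀ P : Sylow 3 C, (P : Subgroup C) = zpowers (x : C) := by
      intro P
      have h1 := (IsPGroup.of_card (n := 1) (by rw [Nat.card_zpowers, hx, pow_one]) :
        IsPGroup 3 (zpowers (x : C))).inf_normalizer_sylow P
      have h2 : zpowers (x : C) ≤ (P : Subgroup C) :=
        ((le_inf le_rfl (zpowers_le.2 (hker _ x.2 P))).trans h1.le).trans inf_le_right
      exact (eq_of_le_of_card_ge h2 (by rw [hPc P, Nat.card_zpowers, hx])).symm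
    exact hP12 (Sylow.ext ((hall P₁).trans (hall P₂).symm))
  have hcen3 : ∀ k ∈ ρ.ker, ∀ y : C, orderOf y = 3 → k * y = y * k := by
    intro k hk y hy
    obtain ⟨P, hP⟩ := (IsPGroup.of_card (n := 1) (by rw [Nat.card_zpowers, hy, pow_one]) :
        IsPGroup 3 (zpowers y)).exists_le_sylow
    obtain ⟨c, hc⟩ : ∃ c, c = k * y * k⁻¹ * y⁻¹ := ⟨_, rfl⟩
    have h1 : c ∈ ρ.ker := by
      rw [hc, mul_assoc, mul_assoc]
      exact mul_mem hk (by rw [← mul_assoc]; exact ρ.normal_ker.conj_mem _ (inv_mem hk) y)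
    have h2 : c ∈ (P : Subgroup C) := by
      rw [hc]
      exact mul_mem ((mem_normalizer_iff.1 (hker k hk P) y).1 (hP (mem_zpowers y))) (inv_mem (hP (mem_zpowers y)))
    have h3 : orderOf c = 1 := by
      refine Nat.eq_one_of_dvd_coprimes ((Nat.prime_three.coprime_iff_not_dvd).2 hK3)
        (hPc P ▸ Subgroup.orderOf_dvd_natCard _ h2) (Subgroup.orderOf_dvd_natCard _ h1)
    rw [orderOf_eq_one_iff, hc, mul_inv_eq_one, mul_inv_eq_iff_eq_mul] at h3
    exact h3
  have hmulk : Nat.card ρ.ker * Nat.card ρ.range = 48 := by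
    rw [← hQ, ← Subgroup.index_ker, card_mul_index]
  have h4r : 4 ∣ Nat.card ρ.range := by
    have htr : MulAction.orbit C P₁ = Set.univ := Set.eq_univ_of_forall fun P => MulAction.exists_smul_eq C P₁ P
    have h1 := MulAction.index_stabilizer C P₁
    rw [htr, Set.ncard_univ, hn4] at h1
    have hle : ρ.ker ≤ MulAction.stabilizer C P₁ := fun k hk =>
      Sylow.smul_eq_iff_mem_normalizer.2 (hker k hk P₁)
    rw [← Subgroup.index_ker]
    exact h1.symm.dvd.trans (index_dvd_of_le hle)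
  have h24 : Nat.card ρ.range ∣ 24 := by
    have := card_subgroup_dvd_card ρ.range
    rwa [Nat.card_perm, Nat.card_fin, show Nat.factorial 4 = 24 from rfl] at this
  have h3r : 3 ∣ Nat.card ρ.range :=
    (Nat.prime_three.dvd_mul.1 (hmulk ▸ (by norm_num : 3 ∣ 48))).resolve_left hK3
  refine ⟨ρ, hzK, hcen3, ?_⟩
  have key : ∀ n < 25, n ∣ 24 → 4 ∣ n → 3 ∣ n → n = 12 ∨ n = 24 := by decide
  rcases key _ (Nat.lt_succ_of_le (Nat.le_of_dvd (by norm_num) h24)) h24 h4r h3r with e | e
  · refine Or.inl ⟨by rw [e] at hmulk; omega, Equiv.Perm.eq_alternatingGroup_of_index_eq_two ?_⟩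
    have := ρ.range.card_mul_index
    rw [e, Nat.card_perm, Nat.card_fin, show Nat.factorial 4 = 24 from rfl] at this
    omega
  · refine Or.inr ⟨by rw [e] at hmulk; omega, ?_⟩
    rw [← MonoidHom.range_eq_top]
    exact eq_top_of_card_eq _ (by rw [e, Nat.card_perm, Nat.card_fin]; rfl)

/-- The data of an involution centralizer with image `A₄`. -/
structure ClosedData (w : G) : Prop where
  data : ∃ (T K : Subgroup G), Nat.card T = 16 ∧ T ≤ centralizer ({w} : Set G) ∧
    (∀ a ∈ centralizer ({w} : Set G), a ^ 16 = 1 → a ∈ T) ∧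
    K ≤ T ∧ Nat.card K = 4 ∧ w ∈ K ∧ (∀ k ∈ K, ∀ a ∈ centralizer ({w} : Set G), a * k = k * a) ∧
    (∀ c ∈ centralizer ({w} : Set G), (∀ a ∈ centralizer ({w} : Set G), a * c = c * a) → c ∈ K) ∧
    (∀ t ∈ centralizer ({w} : Set G), orderOf t = 2 → t ∉ K → ∀ d ∈ T, ∃ k ∈ K, d * d = k * k)

theorem closedData_of_action {C : Subgroup G} (hCw : C = centralizer ({w} : Set G)) (hQ : Nat.card C = 48)
    (ρ : C →* Equiv.Perm (Fin 4)) {z : C} (hzw : (z : G) = w) (hz : z ∈ ρ.ker)
    (hc3 : ∀ k ∈ ρ.ker, ∀ y : C, orderOf y = 3 → k * y = y * k)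
    (hk4 : Nat.card ρ.ker = 4) (hA : ρ.range = alternatingGroup (Fin 4)) : ClosedData w := by
  classical
  haveI : Fact (Nat.Prime 3) := ⟨Nat.prime_three⟩
  have hsign : ∀ a : C, Equiv.Perm.sign (ρ a) = 1 := fun a =>
    Equiv.Perm.mem_alternatingGroup.1 (hA ▸ MonoidHom.mem_range.2 ⟨a, rfl⟩)
  -- the kernel is central
  haveI : IsMulCommutative ρ.ker :=
    IsPGroup.isMulCommutative_of_card_eq_prime_sq (p := 2) (by rw [hk4]; norm_num)
  have hcen : ∀ k ∈ ρ.ker, ∀ a : C, a * k = k * a := by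
    intro k hk a
    set L : Subgroup C := closure {y : C | orderOf y = 3} ⊔ ρ.ker with hL
    have hLc : L ≤ centralizer ({k} : Set C) := by
      refine sup_le ((closure_le _).2 fun y hy => mem_centralizer_singleton_iff.2 (hc3 k hk y hy).symm) ?_
      intro b hb
      refine mem_centralizer_singleton_iff.2 ?_
      exact congrArg Subtype.val (IsMulCommutative.is_comm.comm (⟨b, hb⟩ : ρ.ker) ⟨k, hk⟩)
    have hLt : L = ⊤ := by
      refine (eq_top_iff' L).2 fun a => ?_
      have hgen : alternatingGroup (Fin 4) ≤ L.map ρ := by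
        rw [← Equiv.Perm.closure_three_cycles_eq_alternating, closure_le]
        intro c hc
        obtain ⟨a, rfl⟩ : c ∈ ρ.range := hA ▸ Equiv.Perm.mem_alternatingGroup.2 hc.sign
        have ho := hc.orderOf
        refine ⟨a ^ 16, mem_sup_left (subset_closure ?_), ?_⟩
        · have h48 : (a ^ 16) ^ 3 = 1 := by rw [← pow_mul, show 16 * 3 = Nat.card C by rw [hQ], pow_card_eq_one']
          refine orderOf_eq_prime h48 fun e => ?_
          have h1 : ρ a ^ 16 = 1 := by rw [← map_pow, e, map_one]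
          have h2 := orderOf_dvd_of_pow_eq_one h1
          rw [ho] at h2; norm_num at h2
        · rw [map_pow, ← pow_mod_orderOf, ho, pow_one]
      obtain ⟨b, hb, hab⟩ := hgen (Equiv.Perm.mem_alternatingGroup.2 (hsign a))
      have hab' : b⁻¹ * a ∈ ρ.ker := by rw [MonoidHom.mem_ker, map_mul, map_inv, hab, inv_mul_cancel]
      have := mul_mem hb (mem_sup_right (S := closure {y : C | orderOf y = 3}) hab')
      rwa [mul_inv_cancel_left] at this
    exact mem_centralizer_singleton_iff.1 (hLc (hLt ▸ mem_top a))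
  set T : Subgroup C := vFour.comap ρ with hT
  have hVle : vFour ≤ ρ.range := fun a ha =>
    hA ▸ Equiv.Perm.mem_alternatingGroup.2 (CfsgLib.Char.MEleven.Order.pf_sign_of_mem a ha)
  have hTc : Nat.card T = 16 := by
    have hV : Nat.card vFour = 4 :=
      (Nat.card_congr (Equiv.subtypeEquivRight fun g => vFour_mem)).trans
        (Nat.card_eq_fintype_card.trans vFour_card)
    have h2 := T.card_mul_index
    have h3 := Subgroup.relIndex_mul_relIndex ⊥ vFour ρ.range bot_le hVle
    rw [relIndex_bot_left, relIndex_bot_left, hV,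
      show Nat.card ρ.range = 12 by
        have := ρ.ker.card_mul_index
        rw [hk4, Subgroup.index_ker, hQ] at this
        omega] at h3
    rw [hT] at h2 ⊢
    rw [Subgroup.index_comap, hQ, show vFour.relIndex ρ.range = 3 by omega] at h2
    omega
  refine ⟨⟨T.map C.subtype, ρ.ker.map C.subtype, ?_, hCw ▸ map_subtype_le T, ?_, map_mono ?_, ?_,
    hzw ▸ mem_map_of_mem _ hz, ?_, ?_, ?_⟩⟩
  · rw [card_map_of_injective C.subtype_injective, hTc]
  · intro a ha ha16
    refine ⟨⟨a, hCw ▸ ha⟩, ?_, rfl⟩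
    refine pf_four _ (hsign _) ?_
    rw [← map_mul, ← map_mul, ← map_mul, ← map_mul, ← map_one ρ]
    congr 1
    refine Subtype.ext ?_
    show a * a * (a * a) * (a * a * (a * a)) * (a * a * (a * a) * (a * a * (a * a))) = 1
    rw [← ha16]
    simp only [← pow_two, ← pow_mul]
    norm_num
  · exact fun k hk => show ρ k ∈ vFour from Or.inl (MonoidHom.mem_ker.1 hk)
  · rw [card_map_of_injective C.subtype_injective, hk4]
  · rintro _ ⟨k, hk, rfl⟩ a ha
    exact congrArg Subtype.val (hcen k hk ⟨a, hCw ▸ ha⟩)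
  · intro c hc hcc
    refine ⟨⟨c, hCw ▸ hc⟩, MonoidHom.mem_ker.2 (pf_alt_center _ (hsign _) fun b hb => ?_), rfl⟩
    obtain ⟨a, rfl⟩ : b ∈ ρ.range := hA ▸ Equiv.Perm.mem_alternatingGroup.2 hb
    rw [← map_mul, ← map_mul]
    exact congrArg ρ (Subtype.ext (hcc a (hCw ▸ a.2)).symm)
  · rintro t ht hto htK _ ⟨d, hd, rfl⟩
    set t' : C := ⟨t, hCw ▸ ht⟩ with ht'
    have ht2 : t' * t' = 1 := Subtype.ext (show t * t = 1 by rw [← pow_two, ← hto, pow_orderOf_eq_one])
    have htd : ρ t' * ρ t' = 1 ∧ ∀ i, ρ t' i ≠ i := by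
      have h2 : ρ t' * ρ t' = 1 := by rw [← map_mul, ht2, map_one]
      rcases CfsgLib.Char.MEleven.Order.pf_mem_of_sign _ h2 (hsign t') with e | e
      · exact absurd ⟨t', MonoidHom.mem_ker.2 e, rfl⟩ htK
      · exact e
    rcases hd with h1 | hd'
    · exact ⟨_, mem_map_of_mem _ (MonoidHom.mem_ker.2 h1), rfl⟩
    obtain ⟨q, hq, hqe⟩ := pf_double_conj _ _ htd hd'
    obtain ⟨b, rfl⟩ : q ∈ ρ.range := hA ▸ Equiv.Perm.mem_alternatingGroup.2 hq
    obtain ⟨k, hk⟩ : ∃ k, k = (b * t' * b⁻¹)⁻¹ * d := ⟨_, rfl⟩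
    have hkK : k ∈ ρ.ker := by
      rw [hk, MonoidHom.mem_ker, map_mul, map_inv, map_mul, map_mul, map_inv, hqe, inv_mul_cancel]
    have hdd : d * d = k * k := by
      have e1 : d = b * t' * b⁻¹ * k := by rw [hk]; group
      have hc := hcen k hkK (b * t' * b⁻¹)
      rw [e1]
      calc b * t' * b⁻¹ * k * (b * t' * b⁻¹ * k) = b * t' * b⁻¹ * (k * (b * t' * b⁻¹)) * k := by group
        _ = b * t' * b⁻¹ * ((b * t' * b⁻¹) * k) * k := by rw [← hc]
        _ = b * (t' * t') * b⁻¹ * k * k := by group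
        _ = k * k := by rw [ht2]; group
    exact ⟨_, mem_map_of_mem _ hkK, congrArg Subtype.val hdd⟩

/-- Two central elements of a Sylow subgroup, one a square and one not, are not conjugate. -/
theorem false_of_square (S : Sylow 2 G) {a b : G} (haS : a ∈ (S : Subgroup G))
    (hbS : b ∈ (S : Subgroup G)) (hac : ∀ r ∈ (S : Subgroup G), r * a = a * r)
    (hbc : ∀ r ∈ (S : Subgroup G), r * b = b * r) (hab : IsConj a b)
    {r₀ : G} (hr₀ : r₀ ∈ (S : Subgroup G)) (ha : r₀ * r₀ = a) (hb : ∀ r ∈ (S : Subgroup G), r * r ≠ b) :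
    False := by
  obtain ⟨g, hg⟩ := isConj_iff.1 hab
  obtain ⟨n, hn, hne⟩ := S.conj_eq_normalizer_conj_of_mem_centralizer a g⁻¹
    (mem_centralizer_iff.2 hac) (mem_centralizer_iff.2 fun r hr => by rw [inv_inv, hg]; exact hbc r hr)
  rw [inv_inv, hg] at hne
  refine hb (n⁻¹ * r₀ * n) ((mem_normalizer_iff''.1 hn r₀).1 hr₀) ?_
  rw [hne, ← ha]; group

/-- With image `S₄` the centralizer is `GL(2,3)`. -/
theorem iso_of_action {C : Subgroup G} (H : SHyp G) (hw : orderOf w = 2)
    (hCw : C = centralizer ({w} : Set G)) (hQ : Nat.card C = 48) (ρ : C →* Equiv.Perm (Fin 4)) {z : C}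
    (hzw : (z : G) = w) (hzK : z ∈ ρ.ker) (hk2 : Nat.card ρ.ker = 2) (hsurj : Function.Surjective ρ) :
    Nonempty (C ≃* GL (Fin 2) (ZMod 3)) := by
  classical
  haveI : Fact (Nat.Prime 3) := ⟨Nat.prime_three⟩
  haveI : Fact (Nat.Prime 2) := ⟨Nat.prime_two⟩
  have hz : orderOf z = 2 := by rw [← Subgroup.orderOf_coe, hzw, hw]
  have hzc : ∀ a : C, a * z = z * a := fun a => Subtype.ext (by
    show (a : G) * z = z * a
    rw [hzw]; exact mem_centralizer_singleton_iff.1 (hCw ▸ a.2))
  have hKz : ρ.ker = zpowers z :=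
    (eq_of_le_of_card_ge (zpowers_le.2 hzK) (by rw [Nat.card_zpowers, hz, hk2])).symm
  have hz2 : z * z = 1 := by rw [← pow_two, ← hz, pow_orderOf_eq_one]
  have hz1 : ρ z = 1 := MonoidHom.mem_ker.1 hzK
  have hzne : z ≠ 1 := fun e => by rw [e, orderOf_one] at hz; norm_num at hz
  have hker2 : ∀ k : C, ρ k = 1 → k = 1 ∨ k = z := by
    intro k hk
    have : k ∈ zpowers z := hKz ▸ MonoidHom.mem_ker.2 hk
    obtain ⟨j, hj⟩ := (isOfFinOrder_of_finite z).mem_powers_iff_mem_zpowers.2 this
    have hj' : z ^ j = k := hj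
    rcases (show j % 2 = 0 ∨ j % 2 = 1 by omega) with e | e <;> rw [← pow_mod_orderOf, hz, e] at hj'
    · exact Or.inl (by rw [← hj', pow_zero])
    · exact Or.inr (by rw [← hj', pow_one])
  have him : ∀ a : C, orderOf a = 2 → a ≠ z → ρ a * ρ a = 1 ∧ ρ a ≠ 1 := by
    intro a ha hne
    refine ⟨by rw [← map_mul, ← pow_two, ← ha, pow_orderOf_eq_one, map_one], fun e => ?_⟩
    rcases hker2 a e with rfl | rfl
    · rw [orderOf_one] at ha; norm_num at ha
    · exact hne rfl
  -- squares depend only on the class of the image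
  have hsame : ∀ a c : C, ρ a * ρ a = 1 → ρ a ≠ 1 → ρ c * ρ c = 1 → ρ c ≠ 1 →
      ((∀ i, ρ a i ≠ i) ↔ ∀ i, ρ c i ≠ i) → c * c = a * a := by
    intro a c h1 h2 hc hc1 hiff
    obtain ⟨g, hg⟩ := CfsgLib.Char.MEleven.Order.pf_conj _ _ h1 hc h2 hc1 hiff
    obtain ⟨g, rfl⟩ := hsurj g
    have hd : (g * a * g⁻¹)⁻¹ * c = 1 ∨ (g * a * g⁻¹)⁻¹ * c = z := hker2 _ (by
      rw [map_mul, map_inv, map_mul, map_mul, map_inv, hg, inv_mul_cancel])
    have haa : g * (a * a) * g⁻¹ = a * a := by
      rcases hker2 (a * a) (by rw [map_mul, h1]) with e | e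
      · rw [e]; group
      · rw [e, hzc g, mul_inv_cancel_right]
    have hgg : g * a * g⁻¹ * (g * a * g⁻¹) = a * a := by
      calc g * a * g⁻¹ * (g * a * g⁻¹) = g * (a * a) * g⁻¹ := by group
        _ = a * a := haa
    rcases hd with e | e
    · rw [← inv_mul_eq_one.1 e, hgg]
    · rw [inv_mul_eq_iff_eq_mul.1 e, mul_assoc, ← mul_assoc z, ← hzc, mul_assoc _ z z, hz2, mul_one, hgg]
  have hlift : ∀ a : C, orderOf a = 2 → a ≠ z → ∀ c : C, ρ c * ρ c = 1 → ρ c ≠ 1 →
      ((∀ i, ρ a i ≠ i) ↔ ∀ i, ρ c i ≠ i) → orderOf c = 2 ∧ c ≠ z := by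
    intro a ha hne c hc hc1 hiff
    obtain ⟨h1, h2⟩ := him a ha hne
    refine ⟨orderOf_eq_prime ?_ fun e => hc1 (by rw [e, map_one]), fun e => hc1 (by rw [e, hz1])⟩
    rw [pow_two, hsame a c h1 h2 hc hc1 hiff, ← pow_two, ← ha, pow_orderOf_eq_one]
  obtain ⟨hs4, hs2, ht4, ht1, htnd⟩ := sigma4_sq
  obtain ⟨f, hf⟩ := hsurj sigma4
  obtain ⟨t₀, ht₀⟩ := hsurj tau4
  have hnodouble : ∀ a : C, orderOf a = 2 → a ≠ z → ¬ ∀ i, ρ a i ≠ i := by
    intro a ha hne hd
    obtain ⟨c0, hc0⟩ : ∃ c, c = f * f := ⟨_, rfl⟩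
    have hρc0 : ρ c0 = sigma4 * sigma4 := by rw [hc0, map_mul, hf]
    obtain ⟨hc0o, hc0z⟩ := hlift a ha hne c0 (by rw [hρc0]; exact hs4)
      (fun e => hs2 0 (by rw [← hρc0, e]; rfl)) ⟨fun _ => by rw [hρc0]; exact hs2, fun _ => hd⟩
    have hc02 : c0 * c0 = 1 := by rw [← pow_two, ← hc0o, pow_orderOf_eq_one]
    have hc0ne : c0 ≠ 1 := fun e => by rw [e, orderOf_one] at hc0o; norm_num at hc0o
    set R : Subgroup C := (centralizer ({sigma4 * sigma4} : Set (Equiv.Perm (Fin 4)))).comap ρ with hR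
    have hRmem : ∀ r : C, r ∈ R ↔ ρ r * (sigma4 * sigma4) = sigma4 * sigma4 * ρ r := fun r => by
      rw [hR, mem_comap, mem_centralizer_singleton_iff]
    have hRc : Nat.card R = 16 := by
      have h8 : Nat.card (centralizer ({sigma4 * sigma4} : Set (Equiv.Perm (Fin 4)))) = 8 :=
        (Nat.card_congr (Equiv.subtypeEquivRight fun g => mem_centralizer_singleton_iff)).trans
          (Nat.card_eq_fintype_card.trans dih_card)
      have h1 := (centralizer ({sigma4 * sigma4} : Set (Equiv.Perm (Fin 4)))).card_mul_index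
      rw [h8, Nat.card_perm, Nat.card_fin, show Nat.factorial 4 = 24 from rfl] at h1
      have h2 := R.card_mul_index
      rw [hR, Subgroup.index_comap_of_surjective _ hsurj, hQ, show
        (centralizer ({sigma4 * sigma4} : Set (Equiv.Perm (Fin 4)))).index = 3 by omega] at h2
      rw [hR]
      omega
    have hc0c : ∀ r ∈ R, r * c0 = c0 * r := by
      intro r hr
      have hkey : r * c0 * r⁻¹ = c0 := by
        rcases dih_conj _ ((hRmem r).1 hr) with e | e
        · rcases hker2 (f⁻¹ * (r * f * r⁻¹)) (by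
            rw [map_mul, map_inv, map_mul, map_mul, map_inv, hf, e, inv_mul_cancel]) with e' | e'
          · rw [hc0]
            calc r * (f * f) * r⁻¹ = (r * f * r⁻¹) * (r * f * r⁻¹) := by group
              _ = f * f := by rw [← inv_mul_eq_one.1 e']
          · rw [hc0]
            calc r * (f * f) * r⁻¹ = (r * f * r⁻¹) * (r * f * r⁻¹) := by group
              _ = f * (z * f) * z := by rw [inv_mul_eq_iff_eq_mul.1 e']; group
              _ = f * (f * z) * z := by rw [hzc f]
              _ = f * f * (z * z) := by group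
              _ = f * f := by rw [hz2, mul_one]
        · have hinv : (f * f)⁻¹ = f * f := by rw [← hc0]; exact inv_eq_of_mul_eq_one_left hc02
          rcases hker2 (f * (r * f * r⁻¹)) (by
            rw [map_mul, map_mul, map_mul, map_inv, hf, e, mul_inv_cancel]) with e' | e'
          · rw [hc0]
            calc r * (f * f) * r⁻¹ = (r * f * r⁻¹) * (r * f * r⁻¹) := by group
              _ = (f * f)⁻¹ := by rw [eq_inv_of_mul_eq_one_right e', mul_inv_rev]
              _ = f * f := hinv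
          · rw [hc0]
            calc r * (f * f) * r⁻¹ = (r * f * r⁻¹) * (r * f * r⁻¹) := by group
              _ = f⁻¹ * (z * f⁻¹) * z := by rw [eq_inv_mul_of_mul_eq e']; group
              _ = f⁻¹ * (f⁻¹ * z) * z := by rw [hzc f⁻¹]
              _ = (f * f)⁻¹ * (z * z) := by group
              _ = f * f := by rw [hz2, mul_one, hinv]
      exact mul_inv_eq_iff_eq_mul.1 hkey
    have hsq : ∀ r ∈ R, r * r = 1 ∨ r * r = c0 ∨ r * r = t₀ * t₀ := by
      intro r hr
      rcases dih_cases _ ((hRmem r).1 hr) with e | ⟨e, e'⟩ | e | ⟨e, e', e''⟩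
      · rcases hker2 r e with rfl | rfl
        · exact Or.inl (one_mul 1)
        · exact Or.inl hz2
      · obtain ⟨ho, -⟩ := hlift a ha hne r e (fun h => e' 0 (by rw [h]; rfl)) ⟨fun _ => e', fun _ => hd⟩
        exact Or.inl (by rw [← pow_two, ← ho, pow_orderOf_eq_one])
      · refine Or.inr (Or.inl ?_)
        rcases e with e | e
        · rcases hker2 (f⁻¹ * r) (by rw [map_mul, map_inv, hf, e, inv_mul_cancel]) with e' | e'
          · rw [hc0, ← inv_mul_eq_one.1 e']
          · rw [inv_mul_eq_iff_eq_mul.1 e', hc0]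
            calc f * z * (f * z) = f * (z * f) * z := by group
              _ = f * (f * z) * z := by rw [hzc f]
              _ = f * f * (z * z) := by group
              _ = f * f := by rw [hz2, mul_one]
        · have hinv : (f * f)⁻¹ = f * f := by rw [← hc0]; exact inv_eq_of_mul_eq_one_left hc02
          rcases hker2 (f * r) (by rw [map_mul, hf, e, mul_inv_cancel]) with e' | e'
          · rw [eq_inv_of_mul_eq_one_right e', ← mul_inv_rev, hinv, hc0]
          · rw [eq_inv_mul_of_mul_eq e', hc0]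
            calc f⁻¹ * z * (f⁻¹ * z) = f⁻¹ * (z * f⁻¹) * z := by group
              _ = f⁻¹ * (f⁻¹ * z) * z := by rw [hzc f⁻¹]
              _ = (f * f)⁻¹ * (z * z) := by group
              _ = f * f := by rw [hz2, mul_one, hinv]
      · exact Or.inr (Or.inr (hsame t₀ r (by rw [ht₀]; exact ht4) (by rw [ht₀]; exact ht1) e e'
          ⟨fun h => absurd h (by rw [ht₀]; exact htnd), fun h => absurd h e''⟩))
    let S : Sylow 2 G := Sylow.ofCard (R.map C.subtype) (by
      rw [card_map_of_injective C.subtype_injective, hRc, H.card,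
        CfsgLib.Invol.Thousand.factorization_eq (a := 4) (r := 351) Nat.prime_two (by norm_num) (by norm_num)]
      norm_num)
    have hSmem : ∀ x : G, x ∈ (S : Subgroup G) ↔ ∃ r ∈ R, (r : G) = x := fun x => by
      show x ∈ R.map C.subtype ↔ _
      rw [mem_map]; rfl
    have hzR : z ∈ R := (hRmem z).2 (by rw [hz1, one_mul, mul_one])
    have hc0R : c0 ∈ R := (hRmem c0).2 (by rw [hρc0])
    have hfR : f ∈ R := (hRmem f).2 (by rw [hf, mul_assoc])
    have ht₀R : c0 * z ∈ R := mul_mem hc0R hzR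
    have hcen : ∀ u ∈ ({z, c0, c0 * z} : Set C), ∀ r ∈ (S : Subgroup G), r * (u : G) = (u : G) * r := by
      intro u hu r hr
      obtain ⟨r, hrR, rfl⟩ := (hSmem r).1 hr
      refine congrArg Subtype.val (?_ : r * u = u * r)
      rcases hu with rfl | rfl | rfl
      · exact hzc r
      · exact hc0c r hrR
      · rw [← mul_assoc, hc0c r hrR, mul_assoc, hzc r, mul_assoc]
    have hwo : ∀ u : C, u * u = 1 → u ≠ 1 → IsConj w (u : G) := fun u h h1 =>
      H.conj w u hw (by rw [Subgroup.orderOf_coe]; exact orderOf_eq_prime (by rw [pow_two, h]) h1)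
    rcases hker2 (t₀ * t₀) (by rw [map_mul, ht₀, ht4]) with e | e
    · refine false_of_square S (a := (c0 : G)) (b := (z : G)) ((hSmem _).2 ⟨c0, hc0R, rfl⟩)
        ((hSmem _).2 ⟨z, hzR, rfl⟩) (hcen c0 (Or.inr (Or.inl rfl))) (hcen z (Or.inl rfl))
        (hzw ▸ (hwo c0 hc02 hc0ne).symm) ((hSmem _).2 ⟨f, hfR, rfl⟩) (congrArg Subtype.val hc0.symm) ?_
      intro r hr h
      obtain ⟨r, hrR, rfl⟩ := (hSmem r).1 hr
      have h' : r * r = z := Subtype.ext h
      rcases hsq r hrR with e' | e' | e' <;> rw [h'] at e'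
      · exact hzne e'
      · exact hc0z e'.symm
      · exact hzne (e'.trans e)
    · have ht₀R' : t₀ ∈ R := (hRmem t₀).2 (by rw [ht₀]; decide +kernel)
      have hcz : c0 * z * (c0 * z) = 1 := by
        calc c0 * z * (c0 * z) = c0 * (z * c0) * z := by group
          _ = c0 * (c0 * z) * z := by rw [hzc c0]
          _ = c0 * c0 * (z * z) := by group
          _ = 1 := by rw [hc02, hz2, mul_one]
      have hcz1 : c0 * z ≠ 1 := fun h => hc0z ((mul_eq_one_iff_eq_inv.1 h).trans (inv_eq_of_mul_eq_one_left hz2))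
      refine false_of_square S (a := (z : G)) (b := ((c0 * z : C) : G)) ((hSmem _).2 ⟨z, hzR, rfl⟩)
        ((hSmem _).2 ⟨_, ht₀R, rfl⟩) (hcen z (Or.inl rfl)) (hcen _ (Or.inr (Or.inr rfl)))
        (hzw ▸ hwo _ hcz hcz1) ((hSmem _).2 ⟨t₀, ht₀R', rfl⟩) (congrArg Subtype.val e) ?_
      intro r hr h
      obtain ⟨r, hrR, rfl⟩ := (hSmem r).1 hr
      have h' : r * r = c0 * z := Subtype.ext h
      rcases hsq r hrR with e' | e' | e' <;> rw [h'] at e'
      · exact hcz1 e'
      · exact hzne (mul_eq_left.1 e')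
      · exact hc0ne (mul_eq_right.1 (e'.trans e))
  obtain ⟨t', ht'o, ht'c, ht'w⟩ := H.other w hw
  obtain ⟨t, ht, htz⟩ : ∃ t : C, orderOf t = 2 ∧ t ≠ z :=
    ⟨⟨t', hCw ▸ mem_centralizer_singleton_iff.2 ht'c⟩, by rw [Subgroup.orderOf_mk, ht'o],
      fun e => ht'w (by rw [← hzw, ← e])⟩
  have hfib : ∀ p : Equiv.Perm (Fin 4) → Prop, Nat.card {c : C // p (ρ c)} = 2 * Nat.card {b // p b} := by
    intro p
    choose σ hσ using hsurj
    let E : (ρ.ker × {b : Equiv.Perm (Fin 4) // p b}) ≃ {c : C // p (ρ c)} :=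
      { toFun := fun q => ⟨σ q.2.1 * (q.1 : C), by
          rw [map_mul, hσ, MonoidHom.mem_ker.1 q.1.2, mul_one]; exact q.2.2⟩
        invFun := fun c => (⟨(σ (ρ c.1))⁻¹ * c.1, MonoidHom.mem_ker.2 (by
          rw [map_mul, map_inv, hσ, inv_mul_cancel])⟩, ⟨ρ c.1, c.2⟩)
        left_inv := fun q => by
          have e : ρ (σ q.2.1 * (q.1 : C)) = q.2.1 := by
            rw [map_mul, hσ, MonoidHom.mem_ker.1 q.1.2, mul_one]
          exact Prod.ext (Subtype.ext (by simp [e])) (Subtype.ext e)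
        right_inv := fun c => Subtype.ext (mul_inv_cancel_left _ _) }
    rw [← Nat.card_congr E, Nat.card_prod, hk2]
  obtain ⟨hb2, hb1⟩ := him t ht htz
  have hbt := hnodouble t ht htz
  refine gl_two_three_of_centralizers hQ hz hzc (fun x hx => ?_) ht htz ?_
  · -- elements of order three
    have h6 : 6 ∣ Nat.card (centralizer ({x} : Set C)) :=
      (by norm_num : Nat.Coprime 3 2).mul_dvd_of_dvd_of_dvd
        (hx ▸ Subgroup.orderOf_dvd_natCard _ (mem_centralizer_singleton_iff.2 rfl))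
        (hz ▸ Subgroup.orderOf_dvd_natCard _ (mem_centralizer_singleton_iff.2 (hzc x).symm))
    have hx3 : ρ x * ρ x * ρ x = 1 := by
      rw [← map_mul, ← map_mul, ← pow_two, ← pow_succ, show 2 + 1 = orderOf x from hx.symm,
        pow_orderOf_eq_one, map_one]
    have hx1 : ρ x ≠ 1 := fun e => by
      rcases hker2 x e with rfl | rfl
      · rw [orderOf_one] at hx; norm_num at hx
      · rw [hz] at hx; norm_num at hx
    have hle : Nat.card (centralizer ({x} : Set C)) ≤ 6 := by
      have e := hfib (fun q => q * ρ x = ρ x * q)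
      rw [Nat.card_eq_fintype_card (α := {g : Equiv.Perm (Fin 4) // g * ρ x = ρ x * g}),
        CfsgLib.Char.MEleven.Order.pf_three _ hx1 hx3] at e
      rw [show 6 = 2 * 3 from rfl, ← e]
      refine Nat.card_le_card_of_injective (fun c => ⟨c.1, ?_⟩) fun c d e => Subtype.ext (by simpa using e)
      rw [← map_mul, ← map_mul, mem_centralizer_singleton_iff.1 c.2]
    exact le_antisymm hle (Nat.le_of_dvd Nat.card_pos h6)
  · obtain ⟨hc4, d, hd2, hdd, hdc, had1, had2, hadd⟩ := CfsgLib.Char.MEleven.Order.pf_two _ hb2 hb1 hbt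
    have hne_d : ∀ D : C, ρ D = d → D * D = z := by
      intro D hD
      rcases hker2 (D * D) (by rw [map_mul, hD, hd2]) with e | e
      · exfalso
        refine hnodouble D (orderOf_eq_prime (by rw [pow_two, e]) ?_) ?_ (hD ▸ hdd)
        · rintro rfl; rw [map_one] at hD; exact hdd 0 (by rw [← hD]; rfl)
        · rintro rfl; rw [hz1] at hD; exact hdd 0 (by rw [← hD]; rfl)
      · exact e
    have hno : ∀ D : C, ρ D = d → D ∉ centralizer ({t} : Set C) := by
      intro D hD hDc
      have hcomm : D * t = t * D := mem_centralizer_singleton_iff.1 hDc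
      have ht2 : t * t = 1 := by rw [← pow_two, ← ht, pow_orderOf_eq_one]
      obtain ⟨hinv, -⟩ := hlift t ht htz (t * D) (by rw [map_mul, hD]; exact had2)
        (by rw [map_mul, hD]; exact had1) (by rw [map_mul, hD]; exact ⟨fun h => absurd h hbt, fun h => absurd h hadd⟩)
      have e : t * D * (t * D) = 1 := by rw [← pow_two, ← hinv, pow_orderOf_eq_one]
      rw [mul_assoc, ← mul_assoc D, hcomm, mul_assoc t D D, hne_d D hD, ← mul_assoc, ht2, one_mul] at e
      rw [e, orderOf_one] at hz; norm_num at hz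
    by_contra hlt
    push Not at hlt
    set I : Subgroup (Equiv.Perm (Fin 4)) := (centralizer ({t} : Set C)).map ρ with hI
    have hIle : I ≤ centralizer ({ρ t} : Set (Equiv.Perm (Fin 4))) := by
      rintro _ ⟨c, hc, rfl⟩
      exact mem_centralizer_singleton_iff.2 (by rw [← map_mul, ← map_mul, mem_centralizer_singleton_iff.1 hc])
    have hC4 : Nat.card (centralizer ({ρ t} : Set (Equiv.Perm (Fin 4)))) = 4 := by
      refine Eq.trans ?_ hc4
      rw [← Nat.card_eq_fintype_card]
      exact Nat.card_congr (Equiv.subtypeEquivRight fun g => mem_centralizer_singleton_iff)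
    have hcardI : Nat.card (centralizer ({t} : Set C)) ≤ 2 * Nat.card I := by
      have e := hfib (fun q => q ∈ I)
      rw [show Nat.card I = Nat.card {b // b ∈ I} from rfl, ← e]
      exact Nat.card_le_card_of_injective (fun c => ⟨c.1, mem_map_of_mem ρ c.2⟩)
        fun c d e => Subtype.ext (by simpa using e)
    have hI4 : Nat.card I = 4 := by
      have hd4 : Nat.card I ∣ 4 := (card_dvd_of_le hIle).trans hC4.dvd
      have key : ∀ n < 5, n ∣ 4 → 3 ≤ n → n = 4 := by decide
      exact key _ (Nat.lt_succ_of_le (Nat.le_of_dvd (by norm_num) hd4)) hd4 (by omega)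
    have hIeq : I = centralizer ({ρ t} : Set (Equiv.Perm (Fin 4))) :=
      eq_of_le_of_card_ge hIle (by rw [hI4, hC4])
    obtain ⟨D, hDc, hD⟩ : d ∈ I := hIeq.symm ▸ mem_centralizer_singleton_iff.2 hdc
    exact hno D hD hDc

/-- Some involution centralizer is `GL(2,3)`. -/
theorem SHyp.exists_gl [IsSimpleGroup G] (H : SHyp G) :
    ∃ t : G, orderOf t = 2 ∧ Nonempty (centralizer ({t} : Set G) ≃* GL (Fin 2) (ZMod 3)) := by
  classical
  haveI : Fact (Nat.Prime 2) := ⟨Nat.prime_two⟩
  by_contra hno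
  have hdata : ∀ w : G, orderOf w = 2 → ClosedData w := by
    intro w hw
    obtain ⟨ρ, hz, hc3, ⟨hk, hA⟩ | ⟨hk, hs⟩⟩ := H.exists_action hw
    · exact closedData_of_action rfl (H.cent w hw) ρ rfl hz hc3 hk hA
    · exact absurd ⟨w, hw, iso_of_action H hw rfl (H.cent w hw) ρ rfl hz hk hs⟩ hno
  choose T K hTc hTle hTall hKT hKc hwK hKcen hKall hsq using fun (w : G) (hw : orderOf w = 2) => (hdata w hw).data
  have h2of : ∀ {u : G}, orderOf u = 2 → u ^ 16 = 1 := fun {u} hu =>
    orderOf_dvd_iff_pow_eq_one.1 (hu ▸ by norm_num)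
  have hkk : ∀ (w : G) (hw : orderOf w = 2), (∀ k ∈ K w hw, k * k = 1) ∨ ∀ k ∈ K w hw, k * k = 1 ∨ k * k = w := by
    intro w hw
    by_cases h : ∀ k ∈ K w hw, k * k = 1
    · exact Or.inl h
    refine Or.inr ?_
    push Not at h
    obtain ⟨k₀, hk₀, hk₀2⟩ := h
    have hk4 : orderOf k₀ = 4 := by
      have h1 := Subgroup.orderOf_dvd_natCard _ hk₀
      rw [hKc] at h1
      have h2 := Nat.le_of_dvd (by norm_num) h1
      interval_cases h3 : orderOf k₀ <;> try omega
      · rw [orderOf_eq_one_iff] at h3; exact absurd (by rw [h3, one_mul]) hk₀2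
      · exact absurd (by rw [← pow_two, ← h3, pow_orderOf_eq_one]) hk₀2
    have hgen : zpowers k₀ = K w hw :=
      eq_of_le_of_card_ge (zpowers_le.2 hk₀) (by rw [Nat.card_zpowers, hk4, hKc])
    have hpow : ∀ k ∈ K w hw, ∃ j < 4, k₀ ^ j = k := by
      intro k hk
      obtain ⟨j, hj⟩ := (isOfFinOrder_of_finite k₀).mem_powers_iff_mem_zpowers.2 (hgen.symm ▸ hk)
      refine ⟨j % 4, Nat.mod_lt _ (by norm_num), ?_⟩
      rw [← hk4, pow_mod_orderOf]; exact hj
    have hw2 : k₀ * k₀ = w := by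
      obtain ⟨j, hj, hjw⟩ := hpow w (hwK w hw)
      interval_cases j
      · rw [← hjw, pow_zero, orderOf_one] at hw; norm_num at hw
      · rw [← hjw, pow_one, hk4] at hw; norm_num at hw
      · rw [← hjw, pow_two]
      · rw [← hjw, orderOf_pow, hk4] at hw; norm_num at hw
    intro k hk
    obtain ⟨j, hj, rfl⟩ := hpow k hk
    have h4 : k₀ ^ 4 = 1 := hk4 ▸ pow_orderOf_eq_one k₀
    interval_cases j
    · left; rw [pow_zero, one_mul]
    · right; rw [pow_one, hw2]
    · left; rw [← pow_add, h4]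
    · right; rw [← pow_add, show 3 + 3 = 4 + 2 by norm_num, pow_add, h4, one_mul, pow_two, hw2]
  -- all involutions of a centralizer lie in the central subgroup
  have hcentral : ∀ (w : G) (hw : orderOf w = 2), ∀ t ∈ centralizer ({w} : Set G), orderOf t = 2 → t ∈ K w hw := by
    have helem : ∀ (w : G) (hw : orderOf w = 2), (∀ k ∈ K w hw, k * k = 1) →
        ∀ t ∈ centralizer ({w} : Set G), orderOf t = 2 → t ∈ K w hw := by
      intro w hw hel t ht hto
      by_contra htK
      refine H.noelem (T w hw) (hTc w hw) fun d hd => ?_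
      obtain ⟨k, hk, hdk⟩ := hsq w hw t ht hto htK d hd
      rw [hdk, hel k hk]
    intro w hw t ht hto
    rcases hkk w hw with hel | hcyc
    · exact helem w hw hel t ht hto
    by_contra htK
    have htw : w * t = t * w := (mem_centralizer_singleton_iff.1 ht).symm
    have hwt : w ∈ centralizer ({t} : Set G) := mem_centralizer_singleton_iff.2 htw
    rcases em (∀ k ∈ K t hto, k * k = 1) with hel | hne
    · have hwK' := helem t hto hel w hwt hw
      have hle : centralizer ({t} : Set G) ≤ centralizer ({w} : Set G) := fun a ha =>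
        mem_centralizer_singleton_iff.2 (hKcen t hto w hwK' a ha)
      have heq := eq_of_le_of_card_ge hle (by rw [H.cent w hw, H.cent t hto])
      refine htK (hKall w hw t ht fun a ha => ?_)
      exact mem_centralizer_singleton_iff.1 (heq.symm ▸ ha)
    · push Not at hne
      obtain ⟨k, hk, hk2⟩ := hne
      have hkt : k * k = t := by
        rcases hkk t hto with h | h
        · exact absurd (h k hk) hk2
        · exact (h k hk).resolve_left hk2
      have hkC : k ∈ centralizer ({w} : Set G) := mem_centralizer_singleton_iff.2 (hKcen t hto k hk w hwt).symm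
      have hkT : k ∈ T w hw := hTall w hw k hkC (by
        have h4 := pow_card_eq_one' (G := K t hto) (x := ⟨k, hk⟩)
        rw [hKc] at h4
        have h4' : k ^ 4 = 1 := congrArg Subtype.val h4
        rw [show (16 : ℕ) = 4 * 4 by norm_num, pow_mul, h4', one_pow])
      obtain ⟨k', hk', hkk'⟩ := hsq w hw t ht hto htK k hkT
      rw [hkt] at hkk'
      rcases hcyc k' hk' with e | e <;> rw [e] at hkk'
      · rw [hkk', orderOf_one] at hto; norm_num at hto
      · exact htK (hkk' ▸ hwK w hw)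
  have hequal : ∀ (v w : G) (hv : orderOf v = 2) (hw : orderOf w = 2), v * w = w * v →
      centralizer ({v} : Set G) = centralizer ({w} : Set G) := by
    intro v w hv hw hvw
    have hvK := hcentral w hw v (mem_centralizer_singleton_iff.2 hvw) hv
    have hle : centralizer ({w} : Set G) ≤ centralizer ({v} : Set G) := fun a ha =>
      mem_centralizer_singleton_iff.2 (hKcen w hw v hvK a ha)
    exact (eq_of_le_of_card_ge hle (by rw [H.cent w hw, H.cent v hv])).symm
  have hScard : ∀ S : Sylow 2 G, Nat.card (S : Subgroup G) = 16 := fun S => by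
    rw [S.card_eq_multiplicity, H.card,
      CfsgLib.Invol.Thousand.factorization_eq (a := 4) (r := 351) Nat.prime_two (by norm_num) (by norm_num)]
    norm_num
  have hsylT : ∀ (S : Sylow 2 G) (v : G) (hv : orderOf v = 2), v ∈ (S : Subgroup G) → (S : Subgroup G) = T v hv := by
    intro S v hv hvS
    haveI : Nontrivial (S : Subgroup G) := ⟨⟨v, hvS⟩, 1, fun e => by
      have e' : v = 1 := congrArg Subtype.val e
      rw [e', orderOf_one] at hv; norm_num at hv⟩
    haveI : Nontrivial (center (S : Subgroup G)) := S.2.center_nontrivial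
    obtain ⟨u', hu'⟩ := exists_prime_orderOf_dvd_card' (G := center (S : Subgroup G)) 2 (by
      obtain ⟨k, hk⟩ := (S.2.to_subgroup (center (S : Subgroup G))).exists_card_eq
      rcases k with _ | k
      · rw [pow_zero] at hk
        exact absurd hk Finite.one_lt_card.ne'
      · rw [hk, pow_succ]; exact dvd_mul_left 2 _)
    have huo : orderOf ((u' : (S : Subgroup G)) : G) = 2 := by
      rw [Subgroup.orderOf_coe, Subgroup.orderOf_coe, hu']
    have hcomm : ∀ s ∈ (S : Subgroup G), s * ((u' : (S : Subgroup G)) : G) = ((u' : (S : Subgroup G)) : G) * s :=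
      fun s hs => congrArg Subtype.val (mem_center_iff.1 u'.2 ⟨s, hs⟩)
    have hle : (S : Subgroup G) ≤ T v hv := by
      intro s hs
      refine hTall v hv s ?_ ?_
      · rw [hequal v _ hv huo (hcomm v hvS)]
        exact mem_centralizer_singleton_iff.2 (hcomm s hs)
      · have h := pow_card_eq_one' (G := (S : Subgroup G)) (x := ⟨s, hs⟩)
        rw [hScard] at h
        exact congrArg Subtype.val h
    exact eq_of_le_of_card_ge hle (by rw [hTc, hScard])
  obtain ⟨v, hv⟩ := exists_prime_orderOf_dvd_card' (G := G) 2 (by rw [H.card]; norm_num)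
  obtain ⟨S, hS⟩ := (IsPGroup.of_card (p := 2) (n := 1) (G := zpowers v)
    (by rw [Nat.card_zpowers, hv, pow_one])).exists_le_sylow
  have hST := hsylT S v hv (hS (mem_zpowers v))
  have hTconj : ∀ a ∈ centralizer ({v} : Set G), ∀ d ∈ T v hv, a * d * a⁻¹ ∈ T v hv := by
    intro a ha d hd
    refine hTall v hv _ (mul_mem (mul_mem ha (hTle v hv hd)) (inv_mem ha)) ?_
    have h := pow_card_eq_one' (G := T v hv) (x := ⟨d, hd⟩)
    rw [hTc] at h
    rw [conj_pow, show d ^ 16 = 1 from congrArg Subtype.val h, mul_one, mul_inv_cancel]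
  have hN : centralizer ({v} : Set G) ≤ normalizer ((S : Subgroup G) : Set G) := by
    intro a ha
    rw [hST, mem_normalizer_iff]
    refine fun d => ⟨hTconj a ha d, fun h => ?_⟩
    have := hTconj a⁻¹ (inv_mem ha) _ h
    rwa [show a⁻¹ * (a * d * a⁻¹) * a⁻¹⁻¹ = d by group] at this
  have hn117 : Nat.card (Sylow 2 G) ∣ 117 := by
    rw [S.card_eq_index_normalizer]
    have h := (centralizer ({v} : Set G)).card_mul_index
    rw [H.cent v hv, H.card] at h
    have h2 := Subgroup.index_dvd_of_le hN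
    rwa [show (centralizer ({v} : Set G)).index = 117 by omega] at h2
  have hmod : Nat.card (Sylow 2 G) ≡ 1 [MOD 2 ^ 4] := by
    by_contra h
    obtain ⟨P, R, hne, hidx⟩ := Cfsg.Agent.S0985.result 2 4 h
    obtain ⟨D, hD⟩ : ∃ D, D = (R : Subgroup G).subgroupOf (P : Subgroup G) := ⟨_, rfl⟩
    rw [← hD] at hidx
    have h1 := D.card_mul_index
    rw [hScard P] at h1
    have h2 : 2 ∣ Nat.card D := by
      obtain ⟨j, hj⟩ := (P.2.to_subgroup D).exists_card_eq
      rcases j with _ | j
      · rw [hj, pow_zero, one_mul] at h1; norm_num at hidx; omega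
      · rw [hj, pow_succ]; exact dvd_mul_left 2 _
    obtain ⟨u, hu⟩ := exists_prime_orderOf_dvd_card' (G := D) 2 h2
    have huo : orderOf ((u : (P : Subgroup G)) : G) = 2 := by rw [Subgroup.orderOf_coe, Subgroup.orderOf_coe, hu]
    have huR : ((u : (P : Subgroup G)) : G) ∈ (R : Subgroup G) := by
      exact mem_subgroupOf.1 (hD.le u.2)
    exact hne (Sylow.ext ((hsylT P _ huo (u : (P : Subgroup G)).2).trans (hsylT R _ huo huR).symm))
  have hone : Nat.card (Sylow 2 G) = 1 := by
    have key : ∀ n ∈ Nat.divisors 117, n % 16 = 1 → n = 1 := by decide +kernel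
    exact key _ (Nat.mem_divisors.2 ⟨hn117, by norm_num⟩) (by simpa [Nat.ModEq] using hmod)
  haveI : (S : Subgroup G).Normal := by
    rw [S.card_eq_index_normalizer, index_eq_one] at hone
    exact normalizer_eq_top_iff.1 hone
  rcases Normal.eq_bot_or_eq_top (H := (S : Subgroup G)) inferInstance with e | e
  · have := hScard S; rw [e, card_bot] at this; norm_num at this
  · have := hScard S; rw [e, card_top, H.card] at this; norm_num at this

end CfsgLib.Char.LThreeThree.SimpleOrder
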