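import Cfsg.Agent.Lib.Char.LThreeThree.Main
import Cfsg.Agent.Lib.Char.LThreeThree.Simple
import Cfsg.Agent.Lib.Classical.PSL3Invol
import Cfsg.Agent.Lib.Classical.SLBasic

/-!
# The uniqueness of `L₃(3)`
-/

set_option autoImplicit false
set_option linter.all false

open Subgroup

namespace CfsgLib.Char.LThreeThree

open CfsgLib.Char.GLThreeCent

theorem hone3 : ∀ r : ZMod 3, r ^ 3 = 1 → r = 1 := by decide

theorem two_ne_zero3 : (2 : ZMod 3) ≠ 0 := by decide

theorem psl_invol : ∃ u : Matrix.ProjectiveSpecialLinearGroup (Fin 3) (ZMod 3), orderOf u = 2 ∧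
    Nonempty (centralizer ({u} : Set (Matrix.ProjectiveSpecialLinearGroup (Fin 3) (ZMod 3))) ≃*
      GL (Fin 2) (ZMod 3)) := by
  classical
  haveI : Fact (Nat.Prime 3) := ⟨Nat.prime_three⟩
  have hinj : Function.Injective (CfsgLib.PSL3Invol.π (F := ZMod 3)) := fun A B h => by
    obtain ⟨r, hr, he⟩ := CfsgLib.PSL3Invol.π_eq h
    rw [hone3 r hr, one_smul] at he
    exact Subtype.ext he
  have hs : orderOf (CfsgLib.PSL3Invol.s₀ (F := ZMod 3)) = 2 := by
    refine CfsgLib.Invol.invol_iff.2 ⟨?_, fun h => two_ne_zero3 ?_⟩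
    · refine Subtype.ext ?_
      show (CfsgLib.PSL3Invol.s₀ (F := ZMod 3)).1 * (CfsgLib.PSL3Invol.s₀ (F := ZMod 3)).1 = 1
      ext i j
      fin_cases i <;> fin_cases j <;> simp [CfsgLib.PSL3Invol.s₀]
    · have := congrArg (fun m : Matrix.SpecialLinearGroup (Fin 3) (ZMod 3) => m.1 0 0) h
      simp [CfsgLib.PSL3Invol.s₀] at this
      linear_combination -this
  have hu : orderOf (CfsgLib.PSL3Invol.π (CfsgLib.PSL3Invol.s₀ (F := ZMod 3))) = 2 :=
    (orderOf_injective _ hinj _).trans hs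
  refine ⟨_, hu, ?_⟩
  obtain ⟨Z, hZn, -, hZ, ⟨e⟩⟩ := CfsgLib.PSL3Invol.main two_ne_zero3 _ hu
  rw [ZMod.card] at hZ
  obtain rfl : Z = ⊥ := Subgroup.card_eq_one.1 (hZ.trans (by norm_num))
  exact ⟨e.trans QuotientGroup.quotientBot⟩

theorem card_psl33 : Nat.card (Matrix.ProjectiveSpecialLinearGroup (Fin 3) (ZMod 3)) = 5616 := by
  haveI : Fact (Nat.Prime 3) := ⟨Nat.prime_three⟩
  have h := CfsgLib.Classical.card_psl_mul (F := ZMod 3) (n := 3) (by norm_num)
  revert h
  generalize Nat.card (Matrix.ProjectiveSpecialLinearGroup (Fin 3) (ZMod 3)) = a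
  intro h
  rw [Fin.prod_univ_three, ZMod.card, show Nat.gcd 3 (3 - 1) = 1 from rfl] at h
  norm_num at h
  omega

/-- A group of order 5616 with an involution centralizer `GL(2,3)` and no subgroup of index two
is `L₃(3)`. -/
theorem iso_psl {G : Type*} [Group G] [Finite G] (t : G) (ht : orderOf t = 2)
    (e : centralizer ({t} : Set G) ≃* GL (Fin 2) (ZMod 3)) (hc : Nat.card G = 5616)
    (hno2 : ∀ H : Subgroup G, H.index ≠ 2) :
    Nonempty (G ≃* Matrix.ProjectiveSpecialLinearGroup (Fin 3) (ZMod 3)) := by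
  haveI : Fact (Nat.Prime 3) := ⟨Nat.prime_three⟩
  obtain ⟨el, hel⟩ := exists_emb t ht e
  have h : Hyp t el := ⟨hel, hc, isSimple hel hno2, hno2⟩
  obtain ⟨u, hu, ⟨e'⟩⟩ := psl_invol
  obtain ⟨el', hel'⟩ := exists_emb u hu e'
  haveI : IsSimpleGroup (Matrix.ProjectiveSpecialLinearGroup (Fin 3) (ZMod 3)) :=
    CfsgLib.Classical.psl_isSimple le_rfl
  have hno : ∀ H : Subgroup (Matrix.ProjectiveSpecialLinearGroup (Fin 3) (ZMod 3)), H.index ≠ 2 := by
    intro H hH
    haveI := normal_of_index_eq_two hH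
    rcases Normal.eq_bot_or_eq_top (H := H) inferInstance with rfl | rfl
    · rw [index_bot, card_psl33] at hH; norm_num at hH
    · rw [index_top] at hH; norm_num at hH
  have h' : Hyp u el' := ⟨hel', card_psl33, inferInstance, hno⟩
  obtain ⟨a⟩ := h.iso_collineations
  obtain ⟨b⟩ := h'.iso_collineations
  exact ⟨a.trans b.symm⟩

end CfsgLib.Char.LThreeThree
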